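import Mathlib.RingTheory.RingHom.StandardSmooth

/-! A polynomial ring in finitely many variables is standard smooth of relative dimension the number
of variables (helper16). -/

universe u w

open MvPolynomial

namespace Groth.L16

variable (R : Type u) [CommRing R] (σ : Type w) [Finite σ]

theorem isStandardSmoothOfRelativeDimension_mvPolynomial :
    Algebra.IsStandardSmoothOfRelativeDimension (Nat.card σ) R (MvPolynomial σ R) := by
  let v : PEmpty.{1} → MvPolynomial σ R := PEmpty.elim
  let P₀ := Algebra.PreSubmersivePresentation.naive (R := R) (v := v) PEmpty.elim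
    (fun x => x.elim) (Function.surjInv Ideal.Quotient.mk_surjective)
  have hJ : IsUnit P₀.jacobian := by
    rw [Algebra.PreSubmersivePresentation.jacobian_eq_jacobiMatrix_det]
    simp [Matrix.det_isEmpty]
  let P : Algebra.SubmersivePresentation R (MvPolynomial σ R ⧸ Ideal.span (Set.range v)) σ PEmpty.{1} :=
    { P₀ with jacobian_isUnit := hJ }
  have hbot : Ideal.span (Set.range v) = ⊥ := by
    rw [Set.range_eq_empty, Ideal.span_empty]
  let e : (MvPolynomial σ R ⧸ Ideal.span (Set.range v)) ≃ₐ[R] MvPolynomial σ R :=
    (Ideal.quotientEquivAlgOfEq R hbot).trans (AlgEquiv.quotientBot R (MvPolynomial σ R))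
  refine (P.ofAlgEquiv e).isStandardSmoothOfRelativeDimension ?_
  simp [Algebra.Presentation.dimension]

theorem isStandardSmoothOfRelativeDimension_C :
    RingHom.IsStandardSmoothOfRelativeDimension (Nat.card σ) (C : R →+* MvPolynomial σ R) := by
  have h := isStandardSmoothOfRelativeDimension_mvPolynomial R σ
  rw [← MvPolynomial.algebraMap_eq, RingHom.isStandardSmoothOfRelativeDimension_algebraMap]
  exact h

end Groth.L16
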