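import Groth.Agent.L16.ProjSpace.Charts
import Groth.Agent.L16.ProjSpace.StdSmooth
import Mathlib.AlgebraicGeometry.Morphisms.Smooth
import Mathlib.AlgebraicGeometry.Morphisms.Proper
import Mathlib.AlgebraicGeometry.Noetherian
import Mathlib.AlgebraicGeometry.ProjectiveSpectrum.Proper

/-!
Basic properties of `CohB1.ProjSpace.toSpec n R` and `CohB1.ProjSpaceOver.toBase n S` (F9):
proper, smooth of relative dimension `n`, flat, locally of finite presentation, surjective; an
isomorphism for `n = 0`; integral over a domain, Noetherian over a Noetherian ring.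
-/

universe u

open CategoryTheory CategoryTheory.Limits AlgebraicGeometry MvPolynomial

namespace Groth.L16.ProjSpace

variable (n : ℕ) (R : Type u) [CommRing R]

local notation "𝒜" => CohB1.polyGrading n R

lemma algebraMap_zero_bijective : Function.Bijective (algebraMap R (𝒜 0)) := by
  constructor
  · intro a b h
    exact C_injective _ _ (congrArg Subtype.val h)
  · rintro ⟨p, hp⟩
    refine ⟨coeff 0 p, Subtype.ext ?_⟩
    show C (coeff 0 p) = p
    rw [← homogeneousComponent_zero, homogeneousComponent_of_mem hp, if_pos rfl]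

/-- `R ≅` the degree zero part. -/
noncomputable def degZeroEquiv : R ≃+* (𝒜 0) :=
  RingEquiv.ofBijective (algebraMap R (𝒜 0)) (algebraMap_zero_bijective n R)

instance : IsScalarTower R (𝒜 0) (MvPolynomial (Fin (n + 1)) R) :=
  IsScalarTower.of_algebraMap_eq (R := R) (S := 𝒜 0) (A := MvPolynomial (Fin (n + 1)) R) fun _ => rfl

instance : Algebra.FiniteType (𝒜 0) (MvPolynomial (Fin (n + 1)) R) :=
  Algebra.FiniteType.of_restrictScalars_finiteType R _ _

instance : IsIso (Spec.map (CommRingCat.ofHom (algebraMap R (𝒜 0)))) :=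
  inferInstanceAs (IsIso (Scheme.Spec.map (degZeroEquiv n R).toCommRingCatIso.hom.op))

instance isProper_toSpec : IsProper (CohB1.ProjSpace.toSpec n R) := by
  have h1 : IsProper (Proj.toSpecZero 𝒜) := inferInstance
  have h2 : IsProper (Spec.map (CommRingCat.ofHom (algebraMap R (𝒜 0)))) := inferInstance
  exact MorphismProperty.comp_mem @IsProper _ _ h1 h2

lemma natCard_chartVar (i : Fin (n + 1)) : Nat.card (ChartVar n i) = n := by
  simp [Nat.card_eq_fintype_card]

instance smoothOfRelativeDimension_toSpec :
    SmoothOfRelativeDimension n (CohB1.ProjSpace.toSpec n R) := by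
  refine IsZariskiLocalAtSource.of_openCover (P := @SmoothOfRelativeDimension n) (chartCover n R) fun i => ?_
  show SmoothOfRelativeDimension n (chart n R i ≫ CohB1.ProjSpace.toSpec n R)
  rw [chart_toSpec, HasRingHomProperty.Spec_iff (P := @SmoothOfRelativeDimension n)]
  refine RingHom.locally_of RingHom.isStandardSmoothOfRelativeDimension_respectsIso _ ?_
  have h := Groth.L16.isStandardSmoothOfRelativeDimension_C R (ChartVar n i)
  rw [natCard_chartVar] at h
  exact h

instance smooth_toSpec : Smooth (CohB1.ProjSpace.toSpec n R) :=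
  SmoothOfRelativeDimension.smooth n _

instance flat_toSpec : Flat (CohB1.ProjSpace.toSpec n R) := inferInstance

instance lfp_toSpec : LocallyOfFinitePresentation (CohB1.ProjSpace.toSpec n R) := inferInstance

/-- The coordinate point of chart `i` with all ratios zero, as a section of the structure map. -/
noncomputable def zeroSection (i : Fin (n + 1)) :
    Spec (CommRingCat.of R) ⟶ CohB1.ProjSpace n R :=
  Spec.map (CommRingCat.ofHom (eval fun _ => 0 : MvPolynomial (ChartVar n i) R →+* R)) ≫ chart n R i

@[reassoc (attr := simp)]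
lemma zeroSection_toSpec (i : Fin (n + 1)) :
    zeroSection n R i ≫ CohB1.ProjSpace.toSpec n R = 𝟙 _ := by
  rw [zeroSection, Category.assoc, chart_toSpec, ← Spec.map_comp, ← Spec.map_id]
  congr 1
  ext r
  simp

instance surjective_toSpec : Surjective (CohB1.ProjSpace.toSpec n R) :=
  haveI : Surjective (zeroSection n R 0 ≫ CohB1.ProjSpace.toSpec n R) := by
    rw [zeroSection_toSpec]; infer_instance
  Surjective.of_comp (zeroSection n R 0) _

theorem isIso_toSpec_zero : IsIso (CohB1.ProjSpace.toSpec 0 R) := by
  have hsurj : Surjective (chart 0 R 0) := ⟨fun x => by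
    obtain ⟨i, hi⟩ := exists_mem_basicOpen_X 0 R x
    obtain rfl : i = 0 := Fin.ext (by omega)
    rw [← opensRange_chart] at hi
    exact hi⟩
  haveI : IsIso (chart 0 R 0) :=
    (isIso_iff_isOpenImmersion_and_epi_base _).2 ⟨inferInstance, (TopCat.epi_iff_surjective _).2 hsurj.1⟩
  haveI : IsEmpty (ChartVar 0 (0 : Fin 1)) := ⟨fun j => j.2 (Fin.ext (by omega))⟩
  let e : R ≃+* MvPolynomial (ChartVar 0 (0 : Fin 1)) R :=
    (MvPolynomial.isEmptyRingEquiv R (ChartVar 0 (0 : Fin 1))).symm
  have hC : (C : R →+* MvPolynomial (ChartVar 0 (0 : Fin 1)) R) = e.toRingHom := by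
    ext r : 1
    show C r = (MvPolynomial.isEmptyRingEquiv R (ChartVar 0 (0 : Fin 1))).symm r
    rw [RingEquiv.eq_symm_apply]
    exact (MvPolynomial.isEmptyAlgEquiv R (ChartVar 0 (0 : Fin 1))).commutes r
  haveI : IsIso (chart 0 R 0 ≫ CohB1.ProjSpace.toSpec 0 R) := by
    rw [chart_toSpec, hC]
    exact inferInstanceAs (IsIso (Scheme.Spec.map e.toCommRingCatIso.hom.op))
  exact IsIso.of_isIso_comp_left (chart 0 R 0) _

instance [IsNoetherianRing R] : IsLocallyNoetherian (CohB1.ProjSpace n R) :=
  LocallyOfFiniteType.isLocallyNoetherian (CohB1.ProjSpace.toSpec n R)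

instance compactSpace : CompactSpace (CohB1.ProjSpace n R) :=
  QuasiCompact.compactSpace_of_compactSpace (CohB1.ProjSpace.toSpec n R)

instance [IsNoetherianRing R] : IsNoetherian (CohB1.ProjSpace n R) where

instance [_root_.IsReduced R] : IsReduced (CohB1.ProjSpace n R) := by
  haveI : ∀ i, IsReduced ((chartCover n R).X i) := fun i =>
    inferInstanceAs (IsReduced (Spec (CommRingCat.of (MvPolynomial (ChartVar n i) R))))
  exact IsReduced.of_openCover _ (chartCover n R)

/-- The generic point over a domain: the zero ideal. -/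
noncomputable def genericPt [IsDomain R] : CohB1.ProjSpace n R :=
  (⟨⊥, by exact Ideal.isPrime_bot, fun h => by
    have hX : (X (0 : Fin (n + 1)) : MvPolynomial (Fin (n + 1)) R) ∈ HomogeneousIdeal.irrelevant 𝒜 :=
      HomogeneousIdeal.mem_irrelevant_of_mem _ one_pos (X_mem n R 0)
    exact X_ne_zero (R := R) (0 : Fin (n + 1)) (Ideal.mem_bot.1 (h hX))⟩ : ProjectiveSpectrum 𝒜)

instance [IsDomain R] : IrreducibleSpace (CohB1.ProjSpace n R) := by
  have hcl : closure {genericPt n R} = (Set.univ : Set (CohB1.ProjSpace n R)) :=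
    Set.eq_univ_of_forall fun x =>
      (ProjectiveSpectrum.le_iff_mem_closure 𝒜 (show ProjectiveSpectrum 𝒜 from genericPt n R)
        (show ProjectiveSpectrum 𝒜 from x)).1 (show (⊥ : HomogeneousIdeal 𝒜) ≤ _ from bot_le)
  exact irreducibleSpace_def _ |>.2 (show IsIrreducible (Set.univ : Set (CohB1.ProjSpace n R)) from hcl ▸ isIrreducible_singleton.closure)

instance isIntegral [IsDomain R] : IsIntegral (CohB1.ProjSpace n R) :=
  isIntegral_of_irreducibleSpace_of_isReduced _

section Over

variable (S : Scheme.{u})

instance isProper_toBase : IsProper (CohB1.ProjSpaceOver.toBase n S) :=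
  MorphismProperty.pullback_snd (P := @IsProper) _ _ inferInstance

instance smoothOfRelativeDimension_toBase :
    SmoothOfRelativeDimension n (CohB1.ProjSpaceOver.toBase n S) :=
  haveI := smoothOfRelativeDimension_isStableUnderBaseChange n
  MorphismProperty.pullback_snd (P := @SmoothOfRelativeDimension n) _ _ inferInstance

instance smooth_toBase : Smooth (CohB1.ProjSpaceOver.toBase n S) :=
  SmoothOfRelativeDimension.smooth n _

instance flat_toBase : Flat (CohB1.ProjSpaceOver.toBase n S) := inferInstance

instance lfp_toBase : LocallyOfFinitePresentation (CohB1.ProjSpaceOver.toBase n S) := inferInstance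

instance surjective_toBase : Surjective (CohB1.ProjSpaceOver.toBase n S) :=
  MorphismProperty.pullback_snd (P := @Surjective) _ _ inferInstance

end Over

end Groth.L16.ProjSpace
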