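import Groth.Agent.L16.ProjSpace.TwistMul
import Groth.Agent.L21.Mod.Locality
import Groth.Prelude.Def_FlatFun
import Mathlib.AlgebraicGeometry.ProjectiveSpectrum.Basic

/-!
Non-vanishing loci of the sections `f / 1` of `O(d)`: ampleness and global generation (F9).
-/

universe u

open CategoryTheory CategoryTheory.Limits AlgebraicGeometry TopologicalSpace Opposite
open Groth.L00

namespace Groth.L16

section GenLocus

variable {X : Scheme.{u}} {L L' : X.Modules}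

theorem genLocus_eq_of (s : Coh.structureModule X ⟶ L) (W : X.Opens)
    (hW : IsIso ((Scheme.Modules.restrictFunctor W.ι).map s))
    (hmax : ∀ U : X.Opens, IsIso ((Scheme.Modules.restrictFunctor U.ι).map s) → U ≤ W) :
    CohB1.genLocus L s = W :=
  le_antisymm (sSup_le hmax) (le_sSup hW)

theorem genLocus_comp_iso (s : Coh.structureModule X ⟶ L) (e : L ≅ L') :
    CohB1.genLocus L' (s ≫ e.hom) = CohB1.genLocus L s := by
  refine congrArg sSup (Set.ext fun U => ?_)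
  change IsIso _ ↔ IsIso _
  rw [Functor.map_comp]
  exact ⟨fun _ => IsIso.of_isIso_comp_right _ ((Scheme.Modules.restrictFunctor U.ι).map e.hom),
    fun _ => inferInstance⟩

theorem genLocus_zero_subsingleton_stalk (L : X.Modules) {x : X}
    (hx : x ∈ CohB1.genLocus L (0 : Coh.structureModule X ⟶ L)) :
    IsZero ((Groth.L21.Mod.stalkF X x).obj (Coh.structureModule X)) := by
  suffices key : ∀ U : X.Opens, IsIso ((Scheme.Modules.restrictFunctor U.ι).map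
      (0 : Coh.structureModule X ⟶ L)) → x ∈ U →
      IsZero ((Groth.L21.Mod.stalkF X x).obj (Coh.structureModule X)) by
    obtain ⟨U, hU, hxU⟩ := TopologicalSpace.Opens.mem_sSup.1 hx
    exact key U hU hxU
  intro U h hxU
  rw [Functor.map_zero] at h
  have hz : IsZero ((Coh.structureModule X).restrict U.ι) := (IsZero.iff_id_eq_zero _).2
    ((isIsoZeroEquiv _ _).1 h).1
  exact IsZero.of_iso ((Groth.L21.Mod.stalkF (U : Scheme.{u}) ⟨x, hxU⟩).map_isZero hz)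
    ((Groth.L21.Mod.restrictStalkF U.ι ⟨x, hxU⟩).app (Coh.structureModule X)).symm

end GenLocus

namespace ProjTwist

variable {R A : Type u} [CommRing R] [CommRing A] [Algebra R A] (𝒜 : ℕ → Submodule R A)
  [GradedAlgebra 𝒜] {d : ℕ}

/-- The section `f / 1` of `O(d)`. -/
noncomputable def sect (f : 𝒜 d) : Coh.structureModule (Proj 𝒜) ⟶ Twist.twist 𝒜 (d : ℤ) :=
  homOfSection _ (Twist.globalOf 𝒜 f)

theorem bijective_sect_app (f : 𝒜 d) (W : (Proj 𝒜).Opens) (hW : W ≤ Proj.basicOpen 𝒜 f.1) :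
    Function.Bijective ((sect 𝒜 f).app W) := by
  let one : 𝒜 0 := ⟨1, SetLike.GradedOne.one_mem⟩
  have h1 : ∀ x : (W : Opens (ProjectiveSpectrum.top 𝒜)), (one : A) ∉ x.1.asHomogeneousIdeal :=
    fun x hx => x.1.isPrime.ne_top ((Ideal.eq_top_iff_one _).mpr hx)
  have hf : ∀ x : (W : Opens (ProjectiveSpectrum.top 𝒜)), f.1 ∉ x.1.asHomogeneousIdeal :=
    fun x => (Proj.mem_basicOpen _ _ _).1 (hW x.2)
  exact ⟨smul_gen_injective f one (show ((d : ℕ) : ℤ) = ((0 : ℕ) : ℤ) + d by simp) W h1 hf,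
    smul_gen_surjective f one (show ((d : ℕ) : ℤ) = ((0 : ℕ) : ℤ) + d by simp) W hf h1⟩

theorem isIso_restrict_sect {Y : Scheme.{u}} (g : Y ⟶ Proj 𝒜) [IsOpenImmersion g] (f : 𝒜 d)
    (hg : ∀ y, g y ∈ Proj.basicOpen 𝒜 f.1) :
    IsIso ((Scheme.Modules.restrictFunctor g).map (sect 𝒜 f)) :=
  Scheme.Modules.Hom.isIso_iff_isIso_app.2 fun V =>
    (ConcreteCategory.isIso_iff_bijective _).2 (bijective_sect_app 𝒜 f (g ''ᵁ V)
      (by rintro _ ⟨y, _, rfl⟩; exact hg y))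

theorem genLocus_sect (h : ∀ x : Proj 𝒜, ∃ g : 𝒜 d, x ∈ Proj.basicOpen 𝒜 g.1) (f : 𝒜 d) :
    CohB1.genLocus (Twist.twist 𝒜 (d : ℤ)) (sect 𝒜 f) = Proj.basicOpen 𝒜 f.1 := by
  refine genLocus_eq_of _ _ (isIso_restrict_sect 𝒜 _ f fun y => y.2) fun U hU x hx => ?_
  obtain ⟨g, hg⟩ := h x
  have hV : IsIso (((Scheme.Modules.restrictFunctor U.ι).map (sect 𝒜 f)).app
      (U.ι ⁻¹ᵁ Proj.basicOpen 𝒜 g.1)) := Scheme.Modules.Hom.isIso_iff_isIso_app.1 hU _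
  let W : Opens (ProjectiveSpectrum.top 𝒜) := U.ι ''ᵁ (U.ι ⁻¹ᵁ Proj.basicOpen 𝒜 g.1)
  have hxW : x ∈ W := ⟨⟨x, hx⟩, hg, rfl⟩
  let gs : Twist.sectN (𝒜 := 𝒜) (d : ℤ) (op W) :=
    Twist.resN (d : ℤ) (homOfLE (le_top : W ≤ ⊤)).op (Twist.globalOf 𝒜 g)
  obtain ⟨c, hc⟩ := ((ConcreteCategory.isIso_iff_bijective _).1 hV).2 gs
  let c' : Twist.O (op W) := c
  have h1 : (c'.1 ⟨x, hxW⟩).val *
      (Localization.mk f.1 1 : Twist.Loc 𝒜 x) = Localization.mk g.1 1 := by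
    refine Eq.trans ?_ (congrArg (fun s : Twist.sectN (𝒜 := 𝒜) (d : ℤ) (op W) => (s.1 ⟨x, hxW⟩).1) hc)
    exact (Twist.coe_smul_val (d : ℤ) x (c'.1 ⟨x, hxW⟩) ((Twist.globalOf 𝒜 f).1 ⟨x, trivial⟩)).symm
  obtain ⟨num, hnum⟩ := HomogeneousLocalization.mk_surjective (c'.1 ⟨x, hxW⟩)
  rw [← hnum, HomogeneousLocalization.val_mk, Localization.mk_mul, Localization.mk_eq_mk_iff,
    Localization.r_iff_exists] at h1
  obtain ⟨w, hw⟩ := h1
  refine (Proj.mem_basicOpen _ _ _).2 fun hfx => ?_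
  simp only [OneMemClass.coe_one, mul_one, one_mul] at hw
  have hmem : w.1 * (num.den.1 * g.1) ∈ x.asHomogeneousIdeal.toIdeal := by
    rw [← hw]
    exact Ideal.mul_mem_left _ _ (Ideal.mul_mem_left _ _ hfx)
  exact (x.isPrime.mem_or_mem hmem).elim w.2 fun h' =>
    (x.isPrime.mem_or_mem h').elim num.den_mem ((Proj.mem_basicOpen _ _ _).1 hg)

/-- `O(d)` is ample when finitely many `D₊(f)`, `deg f = d > 0`, cover. -/
theorem isAmple_twist (hd : 0 < d) {ι : Type*} [Finite ι] (F : ι → 𝒜 d)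
    (h : ⨆ i, Proj.basicOpen 𝒜 (F i).1 = ⊤) : CohB1.IsAmple (Twist.twist 𝒜 (d : ℤ)) := by
  have hmem : ∀ x : Proj 𝒜, ∃ i, x ∈ Proj.basicOpen 𝒜 (F i).1 := fun x =>
    TopologicalSpace.Opens.mem_iSup.1 (h.ge (TopologicalSpace.Opens.mem_top x))
  have hcov : ∀ x : Proj 𝒜, ∃ g : 𝒜 d, x ∈ Proj.basicOpen 𝒜 g.1 := fun x =>
    (hmem x).elim fun i hi => ⟨F i, hi⟩
  have haff : ∀ i, IsAffineOpen (Proj.basicOpen 𝒜 (F i).1) := fun i =>
    Proj.isAffineOpen_basicOpen 𝒜 _ (F i).2 hd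
  refine ⟨fun x => ?_, ⟨?_⟩, fun x => ?_⟩
  · obtain ⟨i, hi⟩ := hmem x
    refine ⟨Proj.basicOpen 𝒜 (F i).1, hi, ?_⟩
    have := nonempty_restrict_iso_of_mem 𝒜 (Proj.basicOpen 𝒜 (F i).1).ι (F i) (fun z => z.2) 1
    rwa [one_mul] at this
  · have : (Set.univ : Set (Proj 𝒜)) = ⋃ i, (Proj.basicOpen 𝒜 (F i).1 : Set (Proj 𝒜)) := by
      ext x; simpa using hmem x
    rw [this]
    exact isCompact_iUnion fun i => (haff i).isCompact
  · obtain ⟨i, hi⟩ := hmem x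
    refine ⟨0, sect 𝒜 (F i) ≫ (Tensor.tensorUnitLeft (Twist.twist 𝒜 (d : ℤ))).inv, ?_⟩
    have e : CohB1.genLocus (CohB1.tensorPow (Twist.twist 𝒜 (d : ℤ)) (0 + 1))
        (sect 𝒜 (F i) ≫ (Tensor.tensorUnitLeft (Twist.twist 𝒜 (d : ℤ))).inv) =
        Proj.basicOpen 𝒜 (F i).1 :=
      (genLocus_comp_iso _ (Tensor.tensorUnitLeft (Twist.twist 𝒜 (d : ℤ))).symm).trans
        (genLocus_sect 𝒜 hcov (F i))
    rw [e]
    exact ⟨hi, haff i⟩

/-- `O(d)` is globally generated by finitely many `f / 1` when the `D₊(f)` cover. -/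
theorem exists_epi_free {k : ℕ} (F : Fin k → 𝒜 d) (h : ⨆ i, Proj.basicOpen 𝒜 (F i).1 = ⊤) :
    ∃ p : FlatMod.freeMod (Proj 𝒜) k ⟶ Twist.twist 𝒜 (d : ℤ), Epi p := by
  refine ⟨Sigma.desc fun i => sect 𝒜 (F i),
    Groth.L21.Mod.epi_of_restrict_opens (fun i => Proj.basicOpen 𝒜 (F i).1) h _ fun i => ?_⟩
  have hi := isIso_restrict_sect 𝒜 (Proj.basicOpen 𝒜 (F i).1).ι (F i) fun z => z.2
  rw [← Sigma.ι_desc (fun i => sect 𝒜 (F i)) i, Functor.map_comp] at hi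
  exact epi_of_epi ((Scheme.Modules.restrictFunctor (Proj.basicOpen 𝒜 (F i).1).ι).map
    (Sigma.ι (fun _ : Fin k => Coh.structureModule (Proj 𝒜)) i)) _

end ProjTwist

end Groth.L16
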