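import Groth.Agent.L16.ProjSpace.Basic
import Mathlib.AlgebraicGeometry.ProjectiveSpectrum.Functor
import Mathlib.AlgebraicGeometry.Morphisms.IsIso
import Mathlib.RingTheory.TensorProduct.MvPolynomial

/-!
Base change of `CohB1.ProjSpace` along a ring map (F9): the morphism `map n φ`, the cartesian square
with `Spec.map φ`, and `ProjSpaceOver n (Spec R) ≅ ProjSpace n R`.
-/

universe u

open CategoryTheory CategoryTheory.Limits AlgebraicGeometry MvPolynomial

namespace Groth.L16.ProjSpace

variable (n : ℕ) {R R' : Type u} [CommRing R] [CommRing R'] (φ : R →+* R')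

/-- The graded map on polynomial rings. -/
noncomputable def mapGraded : CohB1.polyGrading n R →+*ᵍ CohB1.polyGrading n R' :=
  { MvPolynomial.map φ with map_mem := fun {_ _} h => MvPolynomial.IsHomogeneous.map h φ }

@[simp] lemma mapGraded_apply (p : MvPolynomial (Fin (n + 1)) R) :
    mapGraded n φ p = MvPolynomial.map φ p := rfl

lemma mapGraded_irrelevant :
    HomogeneousIdeal.irrelevant (CohB1.polyGrading n R') ≤
      (HomogeneousIdeal.irrelevant (CohB1.polyGrading n R)).map (mapGraded n φ) := by
  show (HomogeneousIdeal.irrelevant (CohB1.polyGrading n R')).toIdeal ≤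
    ((HomogeneousIdeal.irrelevant (CohB1.polyGrading n R)).map (mapGraded n φ)).toIdeal
  refine (irrelevant_le_span n R').trans (Ideal.span_le.2 ?_)
  rintro _ ⟨i, rfl⟩
  rw [show (X i : MvPolynomial (Fin (n + 1)) R') = mapGraded n φ (X i) by simp]
  exact Ideal.mem_map_of_mem _ (HomogeneousIdeal.mem_irrelevant_of_mem _ one_pos (X_mem n R i))

/-- `ℙⁿ_{R'} ⟶ ℙⁿ_R`. -/
noncomputable def map : CohB1.ProjSpace n R' ⟶ CohB1.ProjSpace n R :=
  Proj.map (mapGraded n φ) (mapGraded_irrelevant n φ)

lemma map_preimage_basicOpen_X (i : Fin (n + 1)) :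
    map n φ ⁻¹ᵁ Proj.basicOpen (CohB1.polyGrading n R) (X i) =
      Proj.basicOpen (CohB1.polyGrading n R') (X i) := by
  refine (Proj.map_preimage_basicOpen (mapGraded n φ) (mapGraded_irrelevant n φ) _).trans ?_
  simp

lemma dehom_map (i : Fin (n + 1)) (p : MvPolynomial (Fin (n + 1)) R) :
    MvPolynomial.map φ (dehom n R i p) = dehom n R' i (MvPolynomial.map φ p) := by
  induction p using MvPolynomial.induction_on with
  | C a => simp [dehom]
  | add p q hp hq => simp [hp, hq]
  | mul_X p j hp =>
    simp only [map_mul, MvPolynomial.map_X, hp]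
    congr 1
    by_cases h : j = i
    · subst h; simp
    · rw [dehom_X_ne n R i ⟨j, h⟩, dehom_X_ne n R' i ⟨j, h⟩, MvPolynomial.map_X]

/-- The map between chart localisations. -/
noncomputable def mapAway (i : Fin (n + 1)) : AwayX n R i →+* AwayX n R' i :=
  (toAway n R' i).comp ((MvPolynomial.map φ).comp (awayEquiv n R i).symm.toRingHom)

lemma mapAway_mk (i : Fin (n + 1)) (k : ℕ) (p : MvPolynomial (Fin (n + 1)) R)
    (hp : p ∈ CohB1.polyGrading n R (k • 1)) :
    mapAway n φ i (HomogeneousLocalization.Away.mk _ (X_mem n R i) k p hp) =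
      HomogeneousLocalization.Away.mk _ (X_mem n R' i) k (mapGraded n φ p) ((mapGraded n φ).2 hp) := by
  have hmk : ∀ (S : Type u) [CommRing S] (q : MvPolynomial (Fin (n + 1)) S)
      (hq : q ∈ CohB1.polyGrading n S (k • 1)),
      toAway n S i (dehom n S i q) = HomogeneousLocalization.Away.mk _ (X_mem n S i) k q hq := by
    intro S _ q hq
    refine HomogeneousLocalization.val_injective _ ?_
    rw [HomogeneousLocalization.Away.val_mk]
    have hu : IsUnit (ι n S i (X i ^ k)) := by
      rw [map_pow]; exact (IsLocalization.Away.algebraMap_isUnit _).pow k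
    apply hu.mul_right_cancel
    rw [toAway_dehom_mul n S i (by simpa using hq), Localization.mk_eq_mk']
    exact (IsLocalization.mk'_spec _ q _).symm
  show toAway n R' i (MvPolynomial.map φ ((awayEquiv n R i).symm _)) = _
  rw [← hmk R p hp]
  rw [show (awayEquiv n R i).symm (toAway n R i (dehom n R i p)) = dehom n R i p from
    (awayEquiv n R i).symm_apply_apply _, dehom_map]
  exact hmk R' _ ((mapGraded n φ).2 hp)

lemma chartAway_map (i : Fin (n + 1)) :
    chartAway n R' i ≫ map n φ =
      Spec.map (CommRingCat.ofHom (mapAway n φ i)) ≫ chartAway n R i := by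
  have aux : ∀ (s' : MvPolynomial (Fin (n + 1)) R') (e : mapGraded n φ (X i) = s')
      (hs' : s' ∈ CohB1.polyGrading n R' 1)
      (α : AwayX n R i →+* HomogeneousLocalization.Away (CohB1.polyGrading n R') s')
      (_ : ∀ k p hp, α (HomogeneousLocalization.Away.mk _ (X_mem n R i) k p hp) =
        HomogeneousLocalization.Away.mk _ hs' k (mapGraded n φ p) ((mapGraded n φ).2 hp)),
      Proj.awayι _ s' hs' one_pos ≫ Proj.map (mapGraded n φ) (mapGraded_irrelevant n φ) =
        Spec.map (CommRingCat.ofHom α) ≫ Proj.awayι _ (X i) (X_mem n R i) one_pos := by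
    intro s' e hs' α hα
    subst e
    have hαeq : α = HomogeneousLocalization.Away.map (mapGraded n φ) (X i) := by
      refine RingHom.ext fun x => ?_
      obtain ⟨k, a, ha, rfl⟩ := HomogeneousLocalization.Away.mk_surjective _ (X_mem n R i) x
      rw [hα, HomogeneousLocalization.Away.map_mk]
    rw [hαeq]
    exact Proj.awayι_comp_map (mapGraded n φ) (mapGraded_irrelevant n φ) one_pos (X i) (X_mem n R i)
  exact aux (X i) (by simp) (X_mem n R' i) (mapAway n φ i) (fun k p hp => mapAway_mk n φ i k p hp)

/-- On charts, `map` is base change of the coefficients. -/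
@[reassoc]
lemma chart_map (i : Fin (n + 1)) :
    chart n R' i ≫ map n φ =
      Spec.map (CommRingCat.ofHom (MvPolynomial.map φ :
        MvPolynomial (ChartVar n i) R →+* MvPolynomial (ChartVar n i) R')) ≫ chart n R i := by
  rw [chart, chart, Category.assoc, chartAway_map, ← Category.assoc, ← Category.assoc,
    ← Spec.map_comp, ← Spec.map_comp]
  congr 2
  refine CommRingCat.hom_ext (RingHom.ext fun x => ?_)
  show (awayEquiv n R' i).symm (toAway n R' i (MvPolynomial.map φ ((awayEquiv n R i).symm x))) =
    MvPolynomial.map φ ((awayEquiv n R i).symm x)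
  exact (awayEquiv n R' i).symm_apply_apply _

@[reassoc]
lemma map_toSpec :
    map n φ ≫ CohB1.ProjSpace.toSpec n R =
      CohB1.ProjSpace.toSpec n R' ≫ Spec.map (CommRingCat.ofHom φ) := by
  refine (chartCover n R').hom_ext _ _ fun i => ?_
  show chart n R' i ≫ _ = chart n R' i ≫ _
  rw [chart_map_assoc, chart_toSpec, chart_toSpec_assoc, ← Spec.map_comp, ← Spec.map_comp]
  congr 1
  refine CommRingCat.hom_ext (RingHom.ext fun x => ?_)
  show MvPolynomial.map φ (C x) = C (φ x)
  rw [MvPolynomial.map_C]

lemma isPullback_chart (i : Fin (n + 1)) :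
    IsPullback (chart n R' i) (Spec.map (CommRingCat.ofHom (MvPolynomial.map φ :
        MvPolynomial (ChartVar n i) R →+* MvPolynomial (ChartVar n i) R'))) (map n φ) (chart n R i) :=
  (IsOpenImmersion.isPullback _ _ _ _ (chart_map n φ i)
    (by rw [opensRange_chart, opensRange_chart, map_preimage_basicOpen_X])).flip

lemma isPullback_chart_toSpec (i : Fin (n + 1)) :
    IsPullback (Spec.map (CommRingCat.ofHom (MvPolynomial.map φ :
        MvPolynomial (ChartVar n i) R →+* MvPolynomial (ChartVar n i) R')))
      (chart n R' i ≫ CohB1.ProjSpace.toSpec n R') (chart n R i ≫ CohB1.ProjSpace.toSpec n R)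
      (Spec.map (CommRingCat.ofHom φ)) := by
  rw [chart_toSpec, chart_toSpec]
  refine isPullback_SpecMap_of_isPushout _ _ _ _ ?_
  algebraize [φ]
  letI := MvPolynomial.algebraMvPolynomial (σ := ChartVar n i) (R := R) (S := R')
  exact (CommRingCat.isPushout_iff_isPushout (R := R) (S := R') (R' := MvPolynomial (ChartVar n i) R)
    (S' := MvPolynomial (ChartVar n i) R')).2 inferInstance

/-- Base change of projective space. -/
theorem isPullback_map :
    IsPullback (map n φ) (CohB1.ProjSpace.toSpec n R') (CohB1.ProjSpace.toSpec n R)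
      (Spec.map (CommRingCat.ofHom φ)) := by
  let f := CohB1.ProjSpace.toSpec n R
  let g := Spec.map (CommRingCat.ofHom φ)
  let L : CohB1.ProjSpace n R' ⟶ pullback f g :=
    pullback.lift (map n φ) (CohB1.ProjSpace.toSpec n R') (map_toSpec n φ)
  have hL : IsIso L := by
    refine IsZariskiLocalAtTarget.of_openCover (P := MorphismProperty.isomorphisms Scheme.{u})
      ((chartCover n R).pullback₁ (pullback.fst f g)) fun i => ?_
    -- the member of the cover and the square over chart `i`
    have hQ : IsPullback (pullback.fst (pullback.fst f g) (chart n R i))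
        (pullback.snd (pullback.fst f g) (chart n R i)) (pullback.fst f g) (chart n R i) :=
      IsPullback.of_hasPullback _ _
    let k : Spec (CommRingCat.of (MvPolynomial (ChartVar n i) R')) ⟶
        pullback (pullback.fst f g) (chart n R i) :=
      pullback.lift (chart n R' i ≫ L) (Spec.map (CommRingCat.ofHom (MvPolynomial.map φ)))
        (by rw [Category.assoc, pullback.lift_fst]; exact chart_map n φ i)
    have hk : IsIso k := by
      have h1 : IsPullback (pullback.snd (pullback.fst f g) (chart n R i))
          (pullback.fst (pullback.fst f g) (chart n R i) ≫ pullback.snd f g)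
          (chart n R i ≫ f) g :=
        hQ.flip.paste_vert (IsPullback.of_hasPullback f g)
      have h2 := isPullback_chart_toSpec n φ i
      have hke : k = (h2.isoIsPullback _ _ h1).hom := by
        apply h1.hom_ext
        · rw [IsPullback.isoIsPullback_hom_fst, pullback.lift_snd]
        · rw [IsPullback.isoIsPullback_hom_snd, pullback.lift_fst_assoc, Category.assoc,
            pullback.lift_snd]
      rw [hke]; infer_instance
    have hsq : IsPullback (chart n R' i) k L (pullback.fst (pullback.fst f g) (chart n R i)) := by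
      refine IsPullback.of_bot ?_ (pullback.lift_fst _ _ _).symm hQ
      rw [pullback.lift_snd, pullback.lift_fst]
      exact isPullback_chart n φ i
    show IsIso (pullback.snd L (pullback.fst (pullback.fst f g) (chart n R i)))
    rw [← hsq.isoPullback_inv_snd]
    infer_instance
  exact (IsPullback.of_hasPullback f g).of_iso (asIso L).symm (Iso.refl _) (Iso.refl _) (Iso.refl _)
    (by simp [L]; exact (pullback.lift_fst _ _ _)) (by simp [L]; exact (pullback.lift_snd _ _ _)) (by simp [f]) (by simp [g])

/-- `ℙⁿ` over `Spec R` is `ℙⁿ_R`. -/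
theorem isPullback_over :
    IsPullback (map n ((algebraMap ℤ R).comp ULift.ringEquiv.toRingHom : ULift.{u} ℤ →+* R))
      (CohB1.ProjSpace.toSpec n R) (CohB1.ProjSpace.toSpec n (ULift.{u} ℤ))
      (specULiftZIsTerminal.from (Spec (CommRingCat.of R))) := by
  rw [specULiftZIsTerminal.hom_ext (specULiftZIsTerminal.from (Spec (CommRingCat.of R)))
    (Spec.map (CommRingCat.ofHom ((algebraMap ℤ R).comp ULift.ringEquiv.toRingHom : ULift.{u} ℤ →+* R)))]
  exact isPullback_map n _

/-- `ℙⁿ_R ≅ ℙⁿ` over `Spec R`. -/
noncomputable def isoOver (R : Type u) [CommRing R] :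
    CohB1.ProjSpace n R ≅ CohB1.ProjSpaceOver n (Spec (CommRingCat.of R)) :=
  (isPullback_over n (R := R)).isoPullback

@[reassoc (attr := simp)]
lemma isoOver_hom_toBase :
    (isoOver n R).hom ≫ CohB1.ProjSpaceOver.toBase n (Spec (CommRingCat.of R)) =
      CohB1.ProjSpace.toSpec n R :=
  (isPullback_over n (R := R)).isoPullback_hom_snd

/-- `ℙⁿ_Y ⟶ ℙⁿ_X` over `h : Y ⟶ X` (this is `KRR.projSpaceMap n h`). -/
noncomputable def overMap {Y Z : Scheme.{u}} (h : Y ⟶ Z) :
    CohB1.ProjSpaceOver n Y ⟶ CohB1.ProjSpaceOver n Z :=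
  pullback.map _ _ _ _ (𝟙 _) h (𝟙 _) (by simp) (specULiftZIsTerminal.hom_ext _ _)

theorem isPullback_overMap {Y Z : Scheme.{u}} (h : Y ⟶ Z) :
    IsPullback (overMap n h) (CohB1.ProjSpaceOver.toBase n Y) (CohB1.ProjSpaceOver.toBase n Z) h := by
  refine IsPullback.of_right ?_ (pullback.lift_snd _ _ _)
    (IsPullback.of_hasPullback (CohB1.ProjSpace.toSpec n (ULift.{u} ℤ))
      (specULiftZIsTerminal.from Z))
  have e1 : overMap n h ≫ pullback.fst _ _ = pullback.fst _ _ :=
    (pullback.lift_fst _ _ _).trans (Category.comp_id _)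
  have e2 : h ≫ specULiftZIsTerminal.from Z = specULiftZIsTerminal.from Y :=
    specULiftZIsTerminal.hom_ext _ _
  rw [e1, e2]
  exact IsPullback.of_hasPullback _ _

end Groth.L16.ProjSpace
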