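import Groth.Agent.L16.ProjSpace.Basic
import Groth.Agent.L06.Dim
import Mathlib.RingTheory.KrullDimension.Polynomial
import Mathlib.Topology.KrullDimension
import Mathlib.RingTheory.Spectrum.Prime.Topology
import Mathlib.RingTheory.KrullDimension.Field

/-!
Dimension of projective space (F9).
-/

universe u

open CategoryTheory AlgebraicGeometry MvPolynomial TopologicalSpace

namespace Groth.L16.ProjSpace

variable (n : ℕ) (R : Type u) [CommRing R]

theorem topologicalKrullDim_basicOpen_X [IsNoetherianRing R] (i : Fin (n + 1)) :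
    topologicalKrullDim (SetLike.coe (A := (CohB1.ProjSpace n R).Opens) (Proj.basicOpen (CohB1.polyGrading n R) (X i))) =
      ringKrullDim R + n := by
  have h1 : topologicalKrullDim (Set.range (chart n R i)) = ringKrullDim R + n := by
    have e := (chart n R i).isOpenEmbedding.isEmbedding.toHomeomorph
    rw [← IsHomeomorph.topologicalKrullDim_eq _ e.isHomeomorph]
    change topologicalKrullDim (PrimeSpectrum (MvPolynomial (ChartVar n i) R)) = _
    rw [PrimeSpectrum.topologicalKrullDim_eq_ringKrullDim,
      MvPolynomial.ringKrullDim_of_isNoetherianRing, natCard_chartVar]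
  rw [← h1, ← Scheme.Hom.coe_opensRange, opensRange_chart]

theorem topologicalKrullDim_eq [IsNoetherianRing R] :
    topologicalKrullDim (CohB1.ProjSpace n R) = ringKrullDim R + n := by
  rw [Groth.L06.Dim.eq_iSup (fun i : Fin (n + 1) =>
    (SetLike.coe (A := (CohB1.ProjSpace n R).Opens) (Proj.basicOpen (CohB1.polyGrading n R) (X i)))) fun p => ?_]
  · simp only [topologicalKrullDim_basicOpen_X, ciSup_const]
  · obtain ⟨x, hx⟩ := p.head.isIrreducible.nonempty
    obtain ⟨i, hi⟩ := exists_mem_basicOpen_X n R x
    exact ⟨i, Groth.L06.Dim.length_le_of_head_inter p (Proj.basicOpen _ (X i)).isOpen ⟨x, hx, hi⟩⟩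

theorem topologicalKrullDim_eq_of_field (k : Type u) [Field k] :
    topologicalKrullDim (CohB1.ProjSpace n k) = n := by
  rw [topologicalKrullDim_eq, ringKrullDim_eq_zero_of_field, zero_add]

end Groth.L16.ProjSpace
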