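import Groth.Agent.L16.ProjSpace.Twist
import Groth.Agent.L16.ProjSpace.Basic
import Groth.Prelude.Def_Coh
import Mathlib.AlgebraicGeometry.ProjectiveSpectrum.Basic
import Mathlib.RingTheory.GradedAlgebra.Radical
import Mathlib.Algebra.MvPolynomial.Division

/-!
Global sections of `O(d)` on projective space (F9).
-/

universe u

open CategoryTheory AlgebraicGeometry TopologicalSpace Opposite

namespace Groth.L16.ProjTwist

section General

variable {R A : Type u} [CommRing R] [CommRing A] [Algebra R A] (𝒜 : ℕ → Submodule R A)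
  [GradedAlgebra 𝒜]

/-- A homogeneous element vanishing in all stalks over `D₊(f)` is killed by a power of `f`. -/
theorem exists_pow_mul_eq_zero {e d : ℕ} (hd : 0 < d) {Q : A} (hQ : Q ∈ 𝒜 e) {f : A} (hf : f ∈ 𝒜 d)
    (h : ∀ x : ProjectiveSpectrum 𝒜, f ∉ x.asHomogeneousIdeal →
      ∃ c, c ∉ x.asHomogeneousIdeal ∧ c * Q = 0) :
    ∃ k : ℕ, f ^ k * Q = 0 := by
  let I : Ideal A := (Ideal.span {Q}).annihilator
  have memI : ∀ a : A, a ∈ I ↔ a * Q = 0 := fun a => Submodule.mem_annihilator_span_singleton Q a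
  have hI : I.IsHomogeneous 𝒜 := by
    intro k a ha
    rw [memI] at ha ⊢
    rw [← DirectSum.coe_decompose_mul_add_of_right_mem 𝒜 hQ, ha]
    simp
  have hfI : f ∈ I.radical := by
    rw [hI.radical_eq, Submodule.mem_sInf]
    rintro J ⟨hJ, hIJ, hJp⟩
    by_contra hfJ
    let x : ProjectiveSpectrum 𝒜 := ⟨⟨J, hJ⟩, hJp, fun hle => hfJ (hle ((HomogeneousIdeal.mem_irrelevant_iff _ _).2
      (by rw [GradedRing.proj_apply, DirectSum.decompose_of_mem_ne 𝒜 hf hd.ne'])))⟩
    obtain ⟨c, hc, hcQ⟩ := h x hfJ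
    exact hc (hIJ ((memI c).2 hcQ))
  obtain ⟨k, hk⟩ := hfI
  exact ⟨k, (memI _).1 hk⟩

lemma one_notMem (x : ProjectiveSpectrum 𝒜) : (1 : A) ∉ x.asHomogeneousIdeal := fun hx =>
  x.isPrime.ne_top ((Ideal.eq_top_iff_one _).mpr hx)

lemma notMem_pow {x : ProjectiveSpectrum 𝒜} {f : A} (hf : f ∉ x.asHomogeneousIdeal) (k : ℕ) :
    f ^ k ∉ x.asHomogeneousIdeal := fun h => hf (x.isPrime.mem_of_pow_mem k h)

lemma notMem_mul {x : ProjectiveSpectrum 𝒜} {f g : A} (hf : f ∉ x.asHomogeneousIdeal)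
    (hg : g ∉ x.asHomogeneousIdeal) : f * g ∉ x.asHomogeneousIdeal := fun h =>
  (x.isPrime.mem_or_mem h).elim hf hg

/-- Equal fractions near `D₊(f)` have cross products equal up to a power of `f`. -/
theorem exists_pow_mul_eq_of_forall_mk_eq {e d : ℕ} (hd : 0 < d) {f : A} (hf : f ∈ 𝒜 d) {a b s t : A}
    (ha : a * t ∈ 𝒜 e) (hb : b * s ∈ 𝒜 e)
    (hs : ∀ x : ProjectiveSpectrum 𝒜, f ∉ x.asHomogeneousIdeal → s ∉ x.asHomogeneousIdeal)
    (ht : ∀ x : ProjectiveSpectrum 𝒜, f ∉ x.asHomogeneousIdeal → t ∉ x.asHomogeneousIdeal)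
    (h : ∀ (x : ProjectiveSpectrum 𝒜) (hx : f ∉ x.asHomogeneousIdeal),
      (Localization.mk a ⟨s, hs x hx⟩ : Twist.Loc 𝒜 x) = Localization.mk b ⟨t, ht x hx⟩) :
    ∃ k : ℕ, f ^ k * (a * t) = f ^ k * (b * s) := by
  obtain ⟨k, hk⟩ := exists_pow_mul_eq_zero 𝒜 hd (Submodule.sub_mem _ ha hb) hf fun x hx => by
    obtain ⟨c, hc⟩ := Localization.r_iff_exists.1 (Localization.mk_eq_mk_iff.1 (h x hx))
    exact ⟨c.1, c.2, by linear_combination hc⟩
  exact ⟨k, by linear_combination hk⟩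

/-- `Γ(Spec A₀) → Γ(Proj A)` in terms of `awayToSection`. -/
lemma toSpecZero_appTop :
    (Scheme.ΓSpecIso (CommRingCat.of (𝒜 0))).inv ≫ (Proj.toSpecZero 𝒜).appTop =
      CommRingCat.ofHom (HomogeneousLocalization.fromZeroRingHom 𝒜 _) ≫ Proj.awayToSection 𝒜 1 ≫
        (Proj 𝒜).presheaf.map (eqToHom (Proj.basicOpen_one 𝒜).symm).op := by
  rw [Proj.toSpecZero, Scheme.Hom.comp_appTop, Scheme.Hom.comp_appTop, Scheme.Hom.comp_appTop,
    Category.assoc, Category.assoc, ← Scheme.ΓSpecIso_inv_naturality_assoc,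
    show (Proj.basicOpenToSpec 𝒜 1).appTop = _ from Proj.basicOpenToSpec_app_top 𝒜 1,
    Category.assoc, Category.assoc, Iso.inv_hom_id_assoc]
  haveI : IsIso (⊤ : (Proj 𝒜).Opens).ι.appTop := by
    rw [Scheme.Opens.ι_appTop]
    have : IsIso (homOfLE (x := (⊤ : (Proj 𝒜).Opens).ι ''ᵁ ⊤) le_top).op := by
      rw [show (homOfLE (x := (⊤ : (Proj 𝒜).Opens).ι ''ᵁ ⊤) le_top) =
        eqToHom (Scheme.Opens.ι_image_top (⊤ : (Proj 𝒜).Opens)) from Subsingleton.elim _ _]
      infer_instance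
    exact Functor.map_isIso _ _
  have hinv : (Proj 𝒜).topIso.inv.appTop =
      (Proj 𝒜).presheaf.map
        (eqToHom (Scheme.Opens.ι_image_top (⊤ : (Proj 𝒜).Opens)).symm).op := by
    rw [← cancel_epi ((⊤ : (Proj 𝒜).Opens).ι.appTop), ← Scheme.Hom.comp_appTop, Scheme.toIso_inv_ι,
      Scheme.Hom.id_appTop, Scheme.Opens.ι_appTop]
    exact ((Proj 𝒜).presheaf.map_id _).symm.trans ((congrArg (Proj 𝒜).presheaf.map
      (Subsingleton.elim _ _)).trans ((Proj 𝒜).presheaf.map_comp _ _))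
  congr 2
  rw [hinv]
  simp only [Scheme.Hom.appTop, Scheme.Opens.topIso_inv, Scheme.isoOfEq_inv, Scheme.homOfLE_app]
  exact (congrArg (_ ≫ ·) ((Proj 𝒜).presheaf.map_comp _ _).symm).trans
    (((Proj 𝒜).presheaf.map_comp _ _).symm.trans
      (congrArg (Proj 𝒜).presheaf.map (Subsingleton.elim _ _)))

end General

end Groth.L16.ProjTwist

namespace Groth.L16.ProjSpace

open MvPolynomial

variable {n : ℕ} {R : Type u} [CommRing R]

/-- Sections of `O(d)` on an open, as functions. -/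
abbrev Sect (n : ℕ) (R : Type u) [CommRing R] (d : ℕ)
    (U : Opens (ProjectiveSpectrum.top (CohB1.polyGrading n R))) : Type u :=
  Twist.sectN (𝒜 := CohB1.polyGrading n R) (d : ℤ) (op U)

local notation "𝒜" => CohB1.polyGrading n R
local notation "σ" => Fin (n + 1)

lemma mul_X_pow_coeff (p : MvPolynomial σ R) (i : σ) (N : ℕ) (m : σ →₀ ℕ) :
    coeff (m + Finsupp.single i N) (p * X i ^ N) = coeff m p := by
  rw [X_pow_eq_monomial, coeff_mul_monomial, mul_one]

lemma X_pow_mul_cancel {i : σ} {N : ℕ} {p q : MvPolynomial σ R} (h : p * X i ^ N = q * X i ^ N) : p = q := by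
  ext m
  rw [← mul_X_pow_coeff p i N m, ← mul_X_pow_coeff q i N m, h]

lemma isHomogeneous_of_mul_X_pow {i : σ} {N d : ℕ} {p : MvPolynomial σ R}
    (h : p * X i ^ N ∈ 𝒜 (d + N)) : p ∈ 𝒜 d := by
  intro m hm
  rw [← mul_X_pow_coeff p i N m] at hm
  have := h hm
  rw [map_add, Finsupp.weight_single] at this
  simpa using this

lemma eq_zero_of_mk_eq_zero {e : ℕ} {Q : MvPolynomial σ R} (hQ : Q ∈ 𝒜 e)
    (h : ∀ x : ProjectiveSpectrum 𝒜, (X 0 : MvPolynomial σ R) ∉ x.asHomogeneousIdeal →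
      ∃ c, c ∉ x.asHomogeneousIdeal ∧ c * Q = 0) : Q = 0 := by
  obtain ⟨k, hk⟩ := ProjTwist.exists_pow_mul_eq_zero 𝒜 one_pos hQ (X_mem n R 0) h
  exact X_pow_mul_cancel (i := 0) (N := k) (by rw [mul_comm, hk, zero_mul])

/-- Cross-equal families `P i / X i ^ N` come from a single polynomial. -/
lemma exists_eq_mul_X_pow {N d : ℕ} (P : σ → MvPolynomial σ R) (hP : ∀ i, P i ∈ 𝒜 (d + N))
    (h : ∀ i j, P i * X j ^ N = P j * X i ^ N) : ∃ p ∈ 𝒜 d, ∀ i, P i = p * X i ^ N := by
  have key : ∀ i (m : σ →₀ ℕ), m i < N → coeff m (P i) = 0 := by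
    intro i m hm
    by_contra hne
    have hdeg := hP i hne
    have : ∃ j, j ≠ i := by
      by_contra hj
      push Not at hj
      rw [Finsupp.weight_apply, Finsupp.sum_fintype _ _ (by simp),
        Finset.sum_eq_single i (fun b _ hb => absurd (hj b) hb) (by simp)] at hdeg
      simp only [smul_eq_mul, mul_one, Pi.one_apply] at hdeg
      omega
    obtain ⟨j, hj⟩ := this
    apply hne
    rw [← mul_X_pow_coeff (P i) j N m, h i j, X_pow_eq_monomial, coeff_mul_monomial']
    refine if_neg fun hle => ?_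
    have := hle i
    simp [hj] at this
    omega
  have hdvd : ∀ i, ∃ p ∈ 𝒜 d, P i = p * X i ^ N := by
    intro i
    refine ⟨(P i).divMonomial (Finsupp.single i N), ?_, ?_⟩
    · intro m hm
      rw [coeff_divMonomial] at hm
      have := hP i hm
      rw [map_add, Finsupp.weight_single, add_comm d N] at this
      simpa using this
    · conv_lhs => rw [← divMonomial_add_modMonomial (P i) (Finsupp.single i N)]
      have h0 : (P i).modMonomial (Finsupp.single i N) = 0 := by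
        ext m
        by_cases hle : Finsupp.single i N ≤ m
        · rw [coeff_modMonomial_of_le _ hle, coeff_zero]
        · rw [coeff_modMonomial_of_not_le _ hle, coeff_zero]
          refine key i m (not_le.1 fun hN => hle fun k => ?_)
          by_cases hk : k = i
          · subst hk; simpa using hN
          · simp [Finsupp.single_eq_of_ne hk]
      rw [h0, add_zero, X_pow_eq_monomial, mul_comm]
  choose p hpd hp using hdvd
  refine ⟨p 0, hpd 0, fun i => ?_⟩
  have hcomm : p i * X 0 ^ N * X i ^ N = p 0 * X 0 ^ N * X i ^ N := by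
    have := h i 0
    rw [hp i, hp 0] at this
    linear_combination this
  have e : p i = p 0 := X_pow_mul_cancel (X_pow_mul_cancel hcomm)
  rw [hp i, e]

variable (n R)

/-- `p ↦ p / 1`. -/
noncomputable def polyToSection (d : ℕ) (p : 𝒜 d) : Sect n R d ⊤ :=
  Twist.globalOf 𝒜 p

variable {n R}

lemma polyToSection_apply (d : ℕ) (p : 𝒜 d) (x : (⊤ : Opens (ProjectiveSpectrum.top 𝒜))) :
    ((polyToSection n R d p).1 x).1 =
      Localization.mk p.1 ⟨1, ProjTwist.one_notMem 𝒜 x.1⟩ := rfl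

lemma polyToSection_injective (d : ℕ) : Function.Injective (polyToSection n R d) := by
  intro p q h
  refine Subtype.ext (sub_eq_zero.1 (eq_zero_of_mk_eq_zero (Submodule.sub_mem _ p.2 q.2) fun x hx => ?_))
  have h1 := congrArg (fun s : Sect n R d ⊤ => (s.1 ⟨x, trivial⟩).1) h
  simp only [polyToSection_apply] at h1
  obtain ⟨c, hc⟩ := Localization.r_iff_exists.1 (Localization.mk_eq_mk_iff.1 h1)
  exact ⟨c.1, c.2, by linear_combination hc⟩

/-- Local form of a global section on `D₊(X i)`. -/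
lemma exists_local_form (d : ℕ) (f : Sect n R d ⊤) (i : σ) :
    ∃ (k : ℕ) (P : MvPolynomial σ R), P ∈ 𝒜 (d + k) ∧
      ∀ (x : ProjectiveSpectrum 𝒜) (hx : (X i : MvPolynomial σ R) ∉ x.asHomogeneousIdeal),
        (f.1 ⟨x, trivial⟩).1 = Localization.mk P ⟨X i ^ k, ProjTwist.notMem_pow 𝒜 hx k⟩ := by
  let W : Opens (ProjectiveSpectrum.top 𝒜) := Proj.basicOpen 𝒜 (X i)
  have hW : ∀ x : W, (X i : MvPolynomial σ R) ∉ x.1.asHomogeneousIdeal := fun x =>
    (Proj.mem_basicOpen _ _ _).1 x.2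
  let a : 𝒜 d := ⟨X i ^ d, by simpa using SetLike.pow_mem_graded d (X_mem n R i)⟩
  let b : 𝒜 0 := ⟨1, SetLike.GradedOne.one_mem⟩
  obtain ⟨c, hc⟩ := ProjTwist.smul_gen_surjective a b (show ((d : ℕ) : ℤ) = ((0 : ℕ) : ℤ) + d by simp) W
    (fun x => ProjTwist.notMem_pow 𝒜 (hW x) d) (fun x => ProjTwist.one_notMem 𝒜 x.1)
    (Twist.resN (d : ℤ) (homOfLE (le_top : W ≤ ⊤)).op f)
  obtain ⟨z, rfl⟩ := (ConcreteCategory.bijective_of_isIso
    (Proj.basicOpenIsoAway 𝒜 (X i) (X_mem n R i) one_pos).hom).2 c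
  obtain ⟨k, num, hnum, rfl⟩ := HomogeneousLocalization.Away.mk_surjective 𝒜 (X_mem n R i) z
  refine ⟨k, num * X i ^ d, by
    simpa [add_comm] using SetLike.mul_mem_graded hnum (SetLike.pow_mem_graded d (X_mem n R i)),
    fun x hx => ?_⟩
  have h1 := congrArg (fun s : Sect n R d W => (s.1 ⟨x, hx⟩).1) hc
  refine h1.symm.trans ((Twist.coe_smul_val _ _ _ _).trans ?_)
  erw [ProjectiveSpectrum.Proj.awayToSection_apply, HomogeneousLocalization.Away.val_mk]
  rw [Localization.mk_eq_mk', IsLocalization.map_mk']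
  erw [← Localization.mk_eq_mk', Localization.mk_mul]
  simp only [RingHom.id_apply]
  rw [Localization.mk_eq_mk_iff, Localization.r_iff_exists]
  exact ⟨1, by simp [a, b]⟩

theorem polyToSection_surjective (d : ℕ) : Function.Surjective (polyToSection n R d) := by
  intro f
  choose k P₀ hP₀ hf₀ using exists_local_form d f
  let N : ℕ := Finset.univ.sup k
  let P : σ → MvPolynomial σ R := fun i => P₀ i * X i ^ (N - k i)
  have hkN : ∀ i, k i ≤ N := fun i => Finset.le_sup (Finset.mem_univ i)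
  have hP : ∀ i, P i ∈ 𝒜 (d + N) := fun i => by
    have h := SetLike.mul_mem_graded (hP₀ i) (SetLike.pow_mem_graded (N - k i) (X_mem n R i))
    have e : d + k i + (N - k i) • 1 = d + N := by simp; have := hkN i; omega
    rwa [e] at h
  have hf : ∀ (i : σ) (x : ProjectiveSpectrum 𝒜) (hx : (X i : MvPolynomial σ R) ∉ x.asHomogeneousIdeal),
      (f.1 ⟨x, trivial⟩).1 = Localization.mk (P i) ⟨X i ^ N, ProjTwist.notMem_pow 𝒜 hx N⟩ := by
    intro i x hx
    rw [hf₀ i x hx, Localization.mk_eq_mk_iff, Localization.r_iff_exists]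
    refine ⟨1, ?_⟩
    have e : (X i : MvPolynomial σ R) ^ N = X i ^ (N - k i) * X i ^ k i := by
      rw [← pow_add, Nat.sub_add_cancel (hkN i)]
    simp only [P, e, OneMemClass.coe_one, one_mul]
    ring
  have hcross : ∀ i j, P i * X j ^ N = P j * X i ^ N := by
    intro i j
    have hmem : ∀ i j, P i * X j ^ N ∈ 𝒜 (d + N + N) := fun i j => by
      simpa using SetLike.mul_mem_graded (hP i) (SetLike.pow_mem_graded N (X_mem n R j))
    have hne : ∀ x : ProjectiveSpectrum 𝒜, (X i * X j : MvPolynomial σ R) ∉ x.asHomogeneousIdeal →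
        (X i : MvPolynomial σ R) ∉ x.asHomogeneousIdeal ∧ (X j : MvPolynomial σ R) ∉ x.asHomogeneousIdeal :=
      fun x hx => ⟨fun h => hx (x.asHomogeneousIdeal.toIdeal.mul_mem_right _ h),
        fun h => hx (x.asHomogeneousIdeal.toIdeal.mul_mem_left _ h)⟩
    obtain ⟨l, hl⟩ := ProjTwist.exists_pow_mul_eq_of_forall_mk_eq 𝒜 (d := 2) two_pos
      (f := X i * X j) (SetLike.mul_mem_graded (X_mem n R i) (X_mem n R j))
      (hmem i j) (hmem j i)
      (fun x hx => ProjTwist.notMem_pow 𝒜 (hne x hx).1 N)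
      (fun x hx => ProjTwist.notMem_pow 𝒜 (hne x hx).2 N)
      (fun x hx => (hf i x (hne x hx).1).symm.trans (hf j x (hne x hx).2))
    refine X_pow_mul_cancel (i := i) (N := l) (X_pow_mul_cancel (i := j) (N := l) ?_)
    rw [mul_pow] at hl
    linear_combination hl
  obtain ⟨p, hp, hPp⟩ := exists_eq_mul_X_pow P hP hcross
  refine ⟨⟨p, hp⟩, Subtype.ext (funext fun x => Subtype.ext ?_)⟩
  obtain ⟨i, hi⟩ := exists_mem_basicOpen_X n R x.1
  have hx := (Proj.mem_basicOpen _ _ _).1 hi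
  refine (polyToSection_apply d ⟨p, hp⟩ x).trans (Eq.trans ?_ (hf i x.1 hx).symm)
  rw [Localization.mk_eq_mk_iff, Localization.r_iff_exists]
  refine ⟨1, ?_⟩
  simp only [hPp i, OneMemClass.coe_one, one_mul]
  ring

/-- Global constants. -/
theorem toGlobal_apply_val (r : R) (x : (⊤ : Opens (ProjectiveSpectrum.top 𝒜))) :
    ((show Twist.O (op ⊤) from Coh.toGlobal (CohB1.ProjSpace.toSpec n R) r).1 x).val =
      Localization.mk (C r) ⟨1, ProjTwist.one_notMem 𝒜 x.1⟩ := by
  have h : (Scheme.ΓSpecIso (CommRingCat.of R)).inv ≫ (CohB1.ProjSpace.toSpec n R).appTop =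
      CommRingCat.ofHom (algebraMap R (𝒜 0)) ≫
        CommRingCat.ofHom (HomogeneousLocalization.fromZeroRingHom 𝒜 _) ≫ Proj.awayToSection 𝒜 1 ≫
          (Proj 𝒜).presheaf.map (eqToHom (Proj.basicOpen_one 𝒜).symm).op := by
    rw [← ProjTwist.toSpecZero_appTop, CohB1.ProjSpace.toSpec, Scheme.Hom.comp_appTop,
      ← Scheme.ΓSpecIso_inv_naturality_assoc]
    rfl
  have h1 := congrArg (fun φ : CommRingCat.of R ⟶ Γ(Proj 𝒜, ⊤) =>
    ((show Twist.O (op ⊤) from φ r).1 x).val) h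
  refine h1.trans ?_
  refine (ProjectiveSpectrum.Proj.awayToSection_apply 𝒜 1
    (HomogeneousLocalization.fromZeroRingHom 𝒜 _ (algebraMap R (𝒜 0) r))
    ⟨x.1, (Proj.mem_basicOpen _ _ _).2 (ProjTwist.one_notMem 𝒜 x.1)⟩).trans ?_
  erw [HomogeneousLocalization.val_mk]
  rw [Localization.mk_eq_mk', IsLocalization.map_mk']
  erw [← Localization.mk_eq_mk']
  rfl

/-- `O(0)(⊤) = O(⊤)`: global functions are constants. -/
theorem toGlobal_bijective : Function.Bijective (Coh.toGlobal (CohB1.ProjSpace.toSpec n R)) := by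
  let G : R → Sect n R 0 ⊤ := fun r =>
    polyToSection n R 0 ⟨C r, isHomogeneous_C _ _⟩
  have hG : Function.Bijective G := by
    refine Function.Bijective.comp ⟨polyToSection_injective 0, polyToSection_surjective 0⟩
      ⟨fun r s h => C_injective σ R (congrArg Subtype.val h), fun p => ⟨coeff 0 p.1, Subtype.ext ?_⟩⟩
    have := p.2
    rw [mem_grading_iff] at this
    exact (totalDegree_eq_zero_iff_eq_C.1 (Nat.le_zero.1 this.totalDegree_le)).symm
  let one : 𝒜 0 := ⟨1, SetLike.GradedOne.one_mem⟩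
  let Φ := fun c : Twist.O (op (⊤ : Opens (ProjectiveSpectrum.top 𝒜))) =>
    c • ProjTwist.gen one one (show ((0 : ℕ) : ℤ) = ((0 : ℕ) : ℤ) + ((0 : ℕ) : ℤ) by simp) ⊤
      (fun x => ProjTwist.one_notMem 𝒜 x.1)
  have hΦ : Function.Bijective Φ :=
    ⟨ProjTwist.smul_gen_injective one one _ ⊤ _ fun x => ProjTwist.one_notMem 𝒜 x.1,
      ProjTwist.smul_gen_surjective one one _ ⊤ (fun x => ProjTwist.one_notMem 𝒜 x.1) _⟩
  have e : ∀ r, Φ (show Twist.O (op ⊤) from Coh.toGlobal (CohB1.ProjSpace.toSpec n R) r) = G r := by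
    intro r
    refine Subtype.ext (funext fun x => Subtype.ext ((Twist.coe_smul_val _ _ _ _).trans ?_))
    erw [toGlobal_apply_val, Localization.mk_mul]
    refine Eq.trans ?_ (polyToSection_apply 0 ⟨C r, isHomogeneous_C _ _⟩ x).symm
    rw [Localization.mk_eq_mk_iff, Localization.r_iff_exists]
    exact ⟨1, by simp [one]⟩
  refine ⟨fun r s h => hG.1 ?_, fun c => ?_⟩
  · rw [← e r, ← e s, h]
  · obtain ⟨r, hr⟩ := hG.2 (Φ c)
    exact ⟨r, hΦ.1 ((e r).trans hr)⟩

variable (n R)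

theorem isIso_toSpec_appTop : IsIso (CohB1.ProjSpace.toSpec n R).appTop := by
  have h : IsIso ((Scheme.ΓSpecIso (CommRingCat.of R)).inv ≫ (CohB1.ProjSpace.toSpec n R).appTop) :=
    (ConcreteCategory.isIso_iff_bijective _).2 toGlobal_bijective
  exact IsIso.of_isIso_comp_left (Scheme.ΓSpecIso (CommRingCat.of R)).inv _

/-- `H⁰(ℙⁿ, O(d))` is the space of degree `d` forms. -/
theorem nonempty_H0_twist_linearEquiv (d : ℕ) :
    Nonempty (Coh.HH (CohB1.ProjSpace n R) (Twist.twistProjSpace n R (d : ℤ)) 0 ≃ₗ[R]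
      ↥(MvPolynomial.homogeneousSubmodule (Fin (n + 1)) R d)) := by
  let X := CohB1.ProjSpace n R
  let M := Twist.twistProjSpace n R (d : ℤ)
  let hT : Limits.IsTerminal (⊤ : TopologicalSpace.Opens X) :=
    Limits.IsTerminal.ofUniqueHom (fun U => homOfLE le_top) (fun _ _ => Subsingleton.elim _ _)
  let E : Coh.HH X M 0 ≃+ Sect n R d ⊤ := CategoryTheory.Sheaf.H.equiv₀ (Coh.toAb M) hT
  let F : 𝒜 d → Coh.HH X M 0 := fun p => E.symm (polyToSection n R d p)
  have hF : Function.Bijective F :=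
    E.symm.bijective.comp ⟨polyToSection_injective d, polyToSection_surjective d⟩
  have hadd : ∀ p q : 𝒜 d, polyToSection n R d (p + q) = polyToSection n R d p + polyToSection n R d q :=
    fun p q => Subtype.ext (funext fun x => Subtype.ext (Localization.add_mk_self _ _ _).symm)
  let L : 𝒜 d →ₗ[R] Coh.HH X M 0 :=
    { toFun := F
      map_add' := fun p q => (congrArg E.symm (hadd p q)).trans (map_add E.symm _ _)
      map_smul' := fun r p => by
        refine ((congrArg E.symm ?_).trans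
          (CategoryTheory.Sheaf.H.equiv₀_symm_naturality hT
            (Coh.smulAb M (Coh.toGlobal (CohB1.ProjSpace.toSpec n R) r)) (polyToSection n R d p)).symm)
        rw [Coh.smulAb_app]
        refine Subtype.ext (funext fun x => Subtype.ext ?_)
        refine Eq.trans ?_ (Twist.coe_smul_val _ _ _ _).symm
        erw [toGlobal_apply_val, Localization.mk_mul]
        refine (polyToSection_apply d (r • p) x).trans ?_
        rw [Localization.mk_eq_mk_iff, Localization.r_iff_exists]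
        exact ⟨1, by simp [MvPolynomial.smul_eq_C_mul]⟩ }
  exact ⟨(LinearEquiv.ofBijective L hF).symm⟩

end Groth.L16.ProjSpace
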