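import Groth.Agent.L16.ProjSpace.Ample
import Groth.Agent.L16.ProjSpace.Sections
import Groth.Agent.L16.ProjSpace.Dim
import Groth.Agent.L16.ProjSpace.BaseChange
import Mathlib.RingTheory.LocalRing.ResidueField.Ideal
import Mathlib.AlgebraicGeometry.Morphisms.Affine

/-!
`O(d)` on projective space is ample iff `d > 0` (F9).
-/

universe u

open CategoryTheory AlgebraicGeometry TopologicalSpace Opposite
open Groth.L00

namespace Groth.L16

section Locus

variable {X : Scheme.{u}}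

theorem hom_app_eq_smul {M : X.Modules} (φ : Coh.structureModule X ⟶ M) (V : X.Opens) (r : Γ(X, V)) :
    φ.app V r = r • M.presheaf.map (homOfLE (le_top : V ≤ ⊤)).op (φ.app ⊤ (1 : Γ(X, ⊤))) := by
  have h1 : φ.app V (1 : Γ(X, V)) = M.presheaf.map (homOfLE (le_top : V ≤ ⊤)).op (φ.app ⊤ (1 : Γ(X, ⊤))) := by
    refine Eq.trans ?_ (PresheafOfModules.naturality_apply φ.val (homOfLE (le_top : V ≤ ⊤)).op (1 : Γ(X, ⊤)))
    exact congrArg (φ.app V) (map_one (X.presheaf.map (homOfLE (le_top : V ≤ ⊤)).op).hom).symm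
  rw [← h1]
  refine Eq.trans ?_ (Scheme.Modules.Hom.app_smul φ r (1 : Γ(X, V)))
  exact congrArg (φ.app V) (mul_one r).symm

theorem eq_zero_of_app_top_eq_zero {M : X.Modules} (φ : Coh.structureModule X ⟶ M)
    (h : φ.app ⊤ (1 : Γ(X, ⊤)) = 0) : φ = 0 := by
  refine Scheme.Modules.hom_ext _ _ fun V => ConcreteCategory.hom_ext _ _ fun r => ?_
  refine (hom_app_eq_smul φ V r).trans ?_
  rw [h, map_zero, smul_zero]
  rfl

theorem notMem_genLocus_zero (L : X.Modules) (x : X) :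
    x ∉ CohB1.genLocus L (0 : Coh.structureModule X ⟶ L) := by
  suffices key : ∀ U : X.Opens, IsIso ((Scheme.Modules.restrictFunctor U.ι).map
      (0 : Coh.structureModule X ⟶ L)) → x ∈ U → False by
    intro hx
    obtain ⟨U, hU, hxU⟩ := TopologicalSpace.Opens.mem_sSup.1 hx
    exact key U hU hxU
  intro U hU hxU
  have hinj := ((ConcreteCategory.isIso_iff_bijective _).1
    (Scheme.Modules.Hom.isIso_iff_isIso_app.1 hU ⊤)).1
  have h01 : (1 : Γ(X, U.ι ''ᵁ ⊤)) = 0 := hinj (Eq.refl (0 : Γ(L, U.ι ''ᵁ ⊤)))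
  have hx' : x ∈ U.ι ''ᵁ ⊤ := ⟨⟨x, hxU⟩, trivial, rfl⟩
  have := congrArg (X.presheaf.germ _ x hx') h01
  rw [map_one, map_zero] at this
  exact one_ne_zero this

/-- The locus of an endomorphism of `O`. -/
theorem genLocus_endo (φ : Coh.structureModule X ⟶ Coh.structureModule X) :
    CohB1.genLocus (Coh.structureModule X) φ = X.basicOpen (show Γ(X, ⊤) from φ.app ⊤ (1 : Γ(X, ⊤))) := by
  let c : Γ(X, ⊤) := φ.app ⊤ (1 : Γ(X, ⊤))
  have happ : ∀ (V : X.Opens) (r : Γ(X, V)),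
      φ.app V r = r * X.presheaf.map (homOfLE (le_top : V ≤ ⊤)).op c := fun V r => hom_app_eq_smul φ V r
  refine genLocus_eq_of _ _ (Scheme.Modules.Hom.isIso_iff_isIso_app.2 fun V =>
    (ConcreteCategory.isIso_iff_bijective _).2 ?_) fun U hU x hx => ?_
  · let W : X.Opens := (X.basicOpen c).ι ''ᵁ V
    have hW : W ≤ X.basicOpen c := by rintro _ ⟨y, _, rfl⟩; exact y.2
    have hu : IsUnit (X.presheaf.map (homOfLE (le_top : W ≤ ⊤)).op c) := by
      refine X.toRingedSpace.isUnit_of_isUnit_germ W _ fun y hy => ?_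
      have := (Scheme.mem_basicOpen_top X c y).1 (hW hy)
      exact Eq.mpr (congrArg IsUnit (TopCat.Presheaf.germ_res_apply X.presheaf _ y hy c)) this
    have : Function.Bijective fun r : Γ(X, W) => r * X.presheaf.map (homOfLE (le_top : W ≤ ⊤)).op c :=
      ((hu.unit).mulRight).bijective
    exact Eq.mpr (congrArg Function.Bijective (funext (happ W) : (fun r => φ.app W r) = _)) this
  · obtain ⟨r, hr⟩ := ((ConcreteCategory.isIso_iff_bijective _).1
      (Scheme.Modules.Hom.isIso_iff_isIso_app.1 hU ⊤)).2 (1 : Γ(X, U.ι ''ᵁ ⊤))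
    have hx' : x ∈ U.ι ''ᵁ ⊤ := ⟨⟨x, hx⟩, trivial, rfl⟩
    have h1 : (show Γ(X, U.ι ''ᵁ ⊤) from r) * X.presheaf.map (homOfLE (le_top : U.ι ''ᵁ ⊤ ≤ ⊤)).op c = 1 :=
      (happ _ r).symm.trans hr
    rw [Scheme.mem_basicOpen_top]
    have h2 := (IsUnit.of_mul_eq_one_right _ h1).map (X.presheaf.germ _ x hx').hom
    rwa [TopCat.Presheaf.germ_res_apply] at h2

end Locus

namespace ProjTwist

variable {R A : Type u} [CommRing R] [CommRing A] [Algebra R A] {𝒜 : ℕ → Submodule R A}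
  [GradedAlgebra 𝒜]

lemma exists_cast {k k' : ℤ} (h : k = k') {U : (Opens (ProjectiveSpectrum.top 𝒜))ᵒᵖ}
    (f : Twist.sectN (𝒜 := 𝒜) k U) : ∃ g : Twist.sectN (𝒜 := 𝒜) k' U, ∀ x, (g.1 x).1 = (f.1 x).1 := by
  subst h; exact ⟨f, fun _ => rfl⟩

variable (𝒜) in
theorem nonempty_tensorPow_twist_iso (d : ℤ) (h : ∀ x : Proj 𝒜, ∃ f : 𝒜 1, x ∈ Proj.basicOpen 𝒜 f.1) :
    ∀ m : ℕ, Nonempty (CohB1.tensorPow (Twist.twist 𝒜 d) m ≅ Twist.twist 𝒜 (m * d))
  | 0 => ⟨(nonempty_twist_zero_iso 𝒜).some.symm ≪≫ eqToIso (by simp)⟩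
  | m + 1 => by
    obtain ⟨e⟩ := nonempty_tensorPow_twist_iso d h m
    obtain ⟨e'⟩ := nonempty_tensor_twist_iso_one 𝒜 h (m * d) d
    exact ⟨Tensor.tensorIso e (Iso.refl _) ≪≫ e' ≪≫ eqToIso (by push_cast; ring_nf)⟩

end ProjTwist

namespace ProjSpace

open MvPolynomial

variable {n : ℕ} {R : Type u} [CommRing R]

local notation "σ" => Fin (n + 1)

/-- Negative twists have no global sections. -/
theorem sectN_neg_eq_zero (hn : 1 ≤ n) (j : ℕ) (hj : 0 < j)
    (f : Twist.sectN (𝒜 := CohB1.polyGrading n R) (-(j : ℤ)) (op ⊤)) : f = 0 := by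
  let Xp : ∀ i : σ, CohB1.polyGrading n R j := fun i =>
    ⟨X i ^ j, by simpa using SetLike.pow_mem_graded j (X_mem n R i)⟩
  have h : ∀ i, ∃ p : CohB1.polyGrading n R 0, ∀ x : (⊤ : Opens (ProjectiveSpectrum.top (CohB1.polyGrading n R))),
      (f.1 x).1 * Localization.mk (Xp i).1 1 = Localization.mk p.1 1 := by
    intro i
    obtain ⟨g, hg⟩ := ProjTwist.exists_cast (show -(j : ℤ) + (j : ℤ) = ((0 : ℕ) : ℤ) by simp)
      (ProjTwist.mulSect f (polyToSection n R j (Xp i)))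
    obtain ⟨p, hp⟩ := polyToSection_surjective 0 g
    exact ⟨p, fun x => (hg x).symm.trans (by rw [← hp]; rfl)⟩
  choose p hp using h
  have hC : ∀ i, ∃ r : R, (p i).1 = C r := fun i => by
    have h0 := (p i).2
    rw [mem_grading_iff] at h0
    exact ⟨_, totalDegree_eq_zero_iff_eq_C.1 (Nat.le_zero.1 h0.totalDegree_le)⟩
  choose r hr using hC
  have hcross : ∀ i l, p i = p i ∧ C (r i) * (X l : MvPolynomial σ R) ^ j = C (r l) * X i ^ j := by
    intro i l
    refine ⟨rfl, sub_eq_zero.1 ?_⟩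
    refine eq_zero_of_mk_eq_zero (e := j) (Submodule.sub_mem _ ?_ ?_) fun x _ => ?_
    · have h := SetLike.mul_mem_graded (hr i ▸ (p i).2) (Xp l).2
      rwa [zero_add] at h
    · have h := SetLike.mul_mem_graded (hr l ▸ (p l).2) (Xp i).2
      rwa [zero_add] at h
    · have e1 := congrArg (· * Localization.mk (Xp l).1 1) (hp i ⟨x, trivial⟩)
      have e2 := congrArg (· * Localization.mk (Xp i).1 1) (hp l ⟨x, trivial⟩)
      have e := e1.symm.trans ((mul_right_comm _ _ _).trans e2)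
      simp only [Localization.mk_mul, hr, one_mul] at e
      obtain ⟨c, hc⟩ := Localization.r_iff_exists.1 (Localization.mk_eq_mk_iff.1 e)
      simp only [OneMemClass.coe_one, one_mul] at hc
      exact ⟨c.1, c.2, by rw [mul_sub]; exact sub_eq_zero.2 hc⟩
  have hr0 : ∀ i, r i = 0 := by
    intro i
    obtain ⟨l, hl⟩ : ∃ l : σ, l ≠ i := by
      by_cases hi : i = 0
      · exact ⟨⟨1, by omega⟩, by simp [hi, Fin.ext_iff]⟩
      · exact ⟨0, fun h => hi h.symm⟩
    have := congrArg (coeff (Finsupp.single l j)) (hcross i l).2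
    have hne : (Finsupp.single i j : σ →₀ ℕ) ≠ Finsupp.single l j := fun he => by
      have := DFunLike.congr_fun he i
      simp [Ne.symm hl] at this
      omega
    simpa [X_pow_eq_monomial, C_mul_monomial, coeff_monomial, hne] using this
  refine ProjTwist.sectN_ext fun x => ?_
  obtain ⟨i, hi⟩ := exists_mem_basicOpen_X n R x.1
  have hx := (Proj.mem_basicOpen _ _ _).1 hi
  have h0 := hp i x
  rw [hr i, hr0 i, C_0, Localization.mk_zero] at h0
  have hu : IsUnit (Localization.mk (Xp i).1 (1 : x.1.asHomogeneousIdeal.toIdeal.primeCompl) :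
      Twist.Loc (CohB1.polyGrading n R) x.1) := by
    rw [Localization.mk_one_eq_algebraMap]
    exact IsLocalization.map_units (M := x.1.asHomogeneousIdeal.toIdeal.primeCompl) _
      ⟨(Xp i).1, ProjTwist.notMem_pow _ hx j⟩
  exact hu.mul_left_eq_zero.1 h0

variable (n R)

theorem not_isAmple_twistProjSpace_of_nonpos [Nontrivial R] (hn : 1 ≤ n) {d : ℤ} (hd : d ≤ 0) :
    ¬ CohB1.IsAmple (Twist.twistProjSpace n R d) := by
  intro hamp
  obtain ⟨p⟩ : Nonempty (PrimeSpectrum R) := inferInstance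
  obtain ⟨x₀, -⟩ := (CohB1.ProjSpace.toSpec n R).surjective p
  obtain ⟨m, s, hxs, haff⟩ := hamp.2.2 x₀
  have hcov : ∀ x : Proj (CohB1.polyGrading n R), ∃ f : CohB1.polyGrading n R 1,
      x ∈ Proj.basicOpen (CohB1.polyGrading n R) f.1 := fun x =>
    (exists_mem_basicOpen_X n R x).elim fun k hk => ⟨⟨_, X_mem n R k⟩, hk⟩
  obtain ⟨e⟩ := ProjTwist.nonempty_tensorPow_twist_iso (CohB1.polyGrading n R) d hcov (m + 1)
  have hloc : CohB1.genLocus _ (s ≫ e.hom) = CohB1.genLocus _ s := genLocus_comp_iso s e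
  rcases lt_or_eq_of_le hd with hd | rfl
  · obtain ⟨j, hj0, hj⟩ : ∃ j : ℕ, 0 < j ∧ ((m + 1 : ℕ) : ℤ) * d = -(j : ℤ) :=
      ⟨((m + 1 : ℕ) * d).natAbs, Int.natAbs_pos.2 (mul_ne_zero (by omega) hd.ne), by
        rw [Int.ofNat_natAbs_of_nonpos (mul_nonpos_of_nonneg_of_nonpos (by positivity) hd.le), neg_neg]⟩
    have h0 : ∀ {k : ℤ}, k = -(j : ℤ) → ∀ t : Coh.structureModule (Proj (CohB1.polyGrading n R)) ⟶
        Twist.twist (CohB1.polyGrading n R) k, t = 0 := by
      rintro _ rfl t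
      exact eq_zero_of_app_top_eq_zero t (sectN_neg_eq_zero hn j hj0 _)
    exact notMem_genLocus_zero _ x₀ ((h0 hj (s ≫ e.hom)) ▸ hloc.symm ▸ hxs)
  · let e' := e ≪≫ eqToIso (by rw [mul_zero]) ≪≫ (ProjTwist.nonempty_twist_zero_iso _).some
    let t : Coh.structureModule (CohB1.ProjSpace n R) ⟶ Coh.structureModule (CohB1.ProjSpace n R) :=
      s ≫ e'.hom
    have hloc' : CohB1.genLocus _ t = CohB1.genLocus _ s := genLocus_comp_iso s e'
    rw [← hloc', genLocus_endo] at hxs haff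
    obtain ⟨r, hr⟩ := (toGlobal_bijective (n := n) (R := R)).2 (show Γ(CohB1.ProjSpace n R, ⊤) from
      t.app ⊤ (1 : Γ(CohB1.ProjSpace n R, ⊤)))
    have hW : (CohB1.ProjSpace n R).basicOpen (show Γ(CohB1.ProjSpace n R, ⊤) from
        t.app ⊤ (1 : Γ(CohB1.ProjSpace n R, ⊤))) =
        CohB1.ProjSpace.toSpec n R ⁻¹ᵁ PrimeSpectrum.basicOpen r := by
      rw [← hr, ← basicOpen_eq_of_affine (R := CommRingCat.of R) r]
      exact (Scheme.preimage_basicOpen_top (CohB1.ProjSpace.toSpec n R) _).symm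
    rw [hW] at hxs haff
    let q : PrimeSpectrum R := CohB1.ProjSpace.toSpec n R x₀
    let k := q.asIdeal.ResidueField
    let φ : R →+* k := algebraMap R k
    have hpre : map n φ ⁻¹ᵁ (CohB1.ProjSpace.toSpec n R ⁻¹ᵁ PrimeSpectrum.basicOpen r) = ⊤ := by
      rw [← Scheme.Hom.comp_preimage, map_toSpec, Scheme.Hom.comp_preimage]
      refine top_le_iff.1 fun y _ => ?_
      show r ∉ (PrimeSpectrum.comap φ (CohB1.ProjSpace.toSpec n k y)).asIdeal
      rw [PrimeSpectrum.comap_asIdeal, Ideal.mem_comap,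
        Ideal.eq_bot_of_prime (CohB1.ProjSpace.toSpec n k y).asIdeal, Ideal.mem_bot, ← RingHom.mem_ker,
        Ideal.ker_algebraMap_residueField]
      exact hxs
    haveI : IsAffineHom (map n φ) :=
      MorphismProperty.of_isPullback (P := @IsAffineHom) (isPullback_map n φ).flip inferInstance
    have hA := haff.preimage (map n φ)
    rw [hpre] at hA
    haveI : IsAffine (CohB1.ProjSpace n k) := IsAffine.of_isIso (Scheme.topIso _).inv (h := hA)
    haveI := isIso_toSpec_appTop n k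
    haveI : IsIso (CohB1.ProjSpace.toSpec n k) :=
      (HasAffineProperty.iff_of_isAffine (P := MorphismProperty.isomorphisms Scheme.{u})).2
        ⟨inferInstance, inferInstance⟩
    have hdim := topologicalKrullDim_eq_of_field n k
    rw [IsHomeomorph.topologicalKrullDim_eq _
      (CohB1.ProjSpace.toSpec n k).homeomorph.isHomeomorph] at hdim
    rw [show topologicalKrullDim (Spec (CommRingCat.of k)) = ringKrullDim k from
      PrimeSpectrum.topologicalKrullDim_eq_ringKrullDim k, ringKrullDim_eq_zero_of_field] at hdim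
    have : (n : WithBot ℕ∞) = ((0 : ℕ) : WithBot ℕ∞) := hdim.symm
    have : n = 0 := by exact_mod_cast this
    omega

theorem isAmple_twistProjSpace_iff [Nontrivial R] (hn : 1 ≤ n) (d : ℤ) :
    CohB1.IsAmple (Twist.twistProjSpace n R d) ↔ 0 < d := by
  refine ⟨fun h => lt_of_not_ge fun hd => not_isAmple_twistProjSpace_of_nonpos n R hn hd h, fun hd => ?_⟩
  obtain ⟨k, rfl⟩ := Int.eq_ofNat_of_zero_le hd.le
  have hk : 0 < k := by exact_mod_cast hd
  refine ProjTwist.isAmple_twist (CohB1.polyGrading n R) hk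
    (fun i : σ => ⟨X i ^ k, by simpa using SetLike.pow_mem_graded k (X_mem n R i)⟩) ?_
  refine top_le_iff.1 fun x _ => TopologicalSpace.Opens.mem_iSup.2 ?_
  obtain ⟨i, hi⟩ := exists_mem_basicOpen_X n R x
  exact ⟨i, (Proj.mem_basicOpen _ _ _).2 (ProjTwist.notMem_pow _ ((Proj.mem_basicOpen _ _ _).1 hi) k)⟩

end ProjSpace

end Groth.L16
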