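import Groth.Prelude.Def_CohB1
import Mathlib.RingTheory.MvPolynomial.Homogeneous
import Mathlib.RingTheory.MvPolynomial.Ideal
import Mathlib.RingTheory.GradedAlgebra.HomogeneousLocalization
import Mathlib.AlgebraicGeometry.ProjectiveSpectrum.Basic

/-!
Standard charts of `CohB1.ProjSpace n R` (F9): the degree-zero localisation at `X i` is the
polynomial ring in the variables `X j / X i`, `j ≠ i`, and the `D₊(X i)` cover.
-/

universe u

open CategoryTheory CategoryTheory.Limits AlgebraicGeometry MvPolynomial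

namespace Groth.L16.ProjSpace

variable (n : ℕ) (R : Type u) [CommRing R]

/-- The grading. -/
local notation "𝒜" => CohB1.polyGrading n R

lemma X_mem (i : Fin (n + 1)) : (X i : MvPolynomial (Fin (n + 1)) R) ∈ 𝒜 1 :=
  isHomogeneous_X R i

lemma mem_grading_iff {d : ℕ} {p : MvPolynomial (Fin (n + 1)) R} : p ∈ 𝒜 d ↔ p.IsHomogeneous d :=
  Iff.rfl

lemma irrelevant_le_span :
    (HomogeneousIdeal.irrelevant 𝒜).toIdeal ≤
      Ideal.span (Set.range (X : Fin (n + 1) → MvPolynomial (Fin (n + 1)) R)) := by
  intro p hp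
  have h0 : coeff 0 p = 0 := by
    have h := (HomogeneousIdeal.mem_irrelevant_iff _ _).1 hp
    rw [GradedRing.proj_apply] at h
    have hc := congrArg (coeff 0) h
    rw [coeff_zero, show (DirectSum.decompose 𝒜 p 0 : MvPolynomial (Fin (n + 1)) R) =
      homogeneousComponent 0 p from decomposition.decompose'_apply p 0,
      homogeneousComponent_zero, coeff_C, if_pos rfl] at hc
    exact hc
  rw [← Set.image_univ, mem_ideal_span_X_image]
  intro m hm
  have hne : m ≠ 0 := fun h => by
    rw [mem_support_iff, h] at hm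
    exact hm h0
  obtain ⟨i, hi⟩ := Finsupp.ne_iff.1 hne
  exact ⟨i, Set.mem_univ _, by simpa using hi⟩

/-- The standard opens cover. -/
theorem iSup_basicOpen_X_eq_top :
    ⨆ i : Fin (n + 1), Proj.basicOpen 𝒜 (X i) = ⊤ :=
  Proj.iSup_basicOpen_eq_top 𝒜 _ (irrelevant_le_span n R)

theorem exists_mem_basicOpen_X (x : Proj 𝒜) : ∃ i, x ∈ Proj.basicOpen 𝒜 (X i) :=
  TopologicalSpace.Opens.mem_iSup.1 ((iSup_basicOpen_X_eq_top n R).ge (TopologicalSpace.Opens.mem_top x))

/-- The degree zero localisation at `X i`. -/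
abbrev AwayX (i : Fin (n + 1)) : Type u := HomogeneousLocalization.Away 𝒜 (X i : MvPolynomial (Fin (n + 1)) R)

/-- The map to the localisation at `X i`. -/
noncomputable abbrev ι (i : Fin (n + 1)) :
    MvPolynomial (Fin (n + 1)) R →+* Localization.Away (X i : MvPolynomial (Fin (n + 1)) R) :=
  algebraMap _ _

/-- Constants in the degree zero localisation. -/
noncomputable def constHom (i : Fin (n + 1)) : R →+* AwayX n R i :=
  (HomogeneousLocalization.fromZeroRingHom 𝒜 (Submonoid.powers (X i))).comp (algebraMap R (𝒜 0))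

/-- `X j / X i`. -/
noncomputable def ratio (i j : Fin (n + 1)) : AwayX n R i :=
  HomogeneousLocalization.mk ⟨1, ⟨X j, isHomogeneous_X R j⟩, ⟨X i, isHomogeneous_X R i⟩, ⟨1, pow_one _⟩⟩

/-- The variables of chart `i`. -/
abbrev ChartVar (i : Fin (n + 1)) : Type := {j : Fin (n + 1) // j ≠ i}

/-- `R[T_j | j ≠ i] → (R[X]_{X i})_0`. -/
noncomputable def toAway (i : Fin (n + 1)) : MvPolynomial (ChartVar n i) R →+* AwayX n R i :=
  eval₂Hom (constHom n R i) fun j => ratio n R i j.1

@[simp] lemma toAway_C (i : Fin (n + 1)) (r : R) : toAway n R i (C r) = constHom n R i r :=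
  eval₂Hom_C _ _ _

@[simp] lemma toAway_X (i : Fin (n + 1)) (j : ChartVar n i) :
    toAway n R i (X j) = ratio n R i j.1 :=
  eval₂Hom_X' _ _ _

/-- Dehomogenisation `X i ↦ 1`, `X j ↦ T_j`. -/
noncomputable def dehom (i : Fin (n + 1)) :
    MvPolynomial (Fin (n + 1)) R →ₐ[R] MvPolynomial (ChartVar n i) R :=
  aeval fun j => if h : j = i then 1 else X ⟨j, h⟩

@[simp] lemma dehom_X_self (i : Fin (n + 1)) : dehom n R i (X i) = 1 := by simp [dehom]

lemma dehom_X_ne (i : Fin (n + 1)) (j : ChartVar n i) : dehom n R i (X j.1) = X j := by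
  simp [dehom, j.2]

/-- `Localization.Away (X i) → R[T_j | j ≠ i]`. -/
noncomputable def dehomLoc (i : Fin (n + 1)) :
    Localization.Away (X i : MvPolynomial (Fin (n + 1)) R) →+* MvPolynomial (ChartVar n i) R :=
  IsLocalization.Away.lift (X i) (g := (dehom n R i).toRingHom) (by simp)

/-- The inverse of `toAway`. -/
noncomputable def fromAway (i : Fin (n + 1)) : AwayX n R i →+* MvPolynomial (ChartVar n i) R :=
  (dehomLoc n R i).comp (algebraMap (AwayX n R i) (Localization.Away (X i : MvPolynomial (Fin (n + 1)) R)))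

lemma val_constHom (i : Fin (n + 1)) (r : R) :
    (constHom n R i r).val = ι n R i (C r) := by
  show Localization.mk _ _ = _
  rw [← Localization.mk_one_eq_algebraMap]
  rfl

lemma val_ratio_mul (i j : Fin (n + 1)) :
    (ratio n R i j).val * ι n R i (X i) =
      ι n R i (X j) := by
  show Localization.mk _ _ * _ = _
  rw [Localization.mk_eq_mk']
  exact IsLocalization.mk'_spec _ _ _

lemma fromAway_toAway (i : Fin (n + 1)) :
    (fromAway n R i).comp (toAway n R i) = RingHom.id _ := by
  apply MvPolynomial.ringHom_ext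
  · intro r
    simp only [RingHom.comp_apply, toAway_C, RingHom.id_apply, fromAway,
      HomogeneousLocalization.algebraMap_apply, val_constHom]
    rw [dehomLoc, IsLocalization.Away.lift_eq]
    exact (dehom n R i).commutes r
  · intro j
    simp only [RingHom.comp_apply, toAway_X, RingHom.id_apply, fromAway,
      HomogeneousLocalization.algebraMap_apply]
    have h := congrArg (dehomLoc n R i) (val_ratio_mul n R i j.1)
    simp only [map_mul, dehomLoc, IsLocalization.Away.lift_eq, AlgHom.toRingHom_eq_coe, RingHom.coe_coe,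
      dehom_X_self, mul_one, dehom_X_ne] at h
    exact h

/-- `toAway ∘ dehom` of a form of degree `d` is the form divided by `X i ^ d`. -/
lemma toAway_dehom_mul (i : Fin (n + 1)) {d : ℕ} {p : MvPolynomial (Fin (n + 1)) R} (hp : p ∈ 𝒜 d) :
    (toAway n R i (dehom n R i p)).val *
        ι n R i (X i ^ d) =
      ι n R i p := by
  let L := Localization.Away (X i : MvPolynomial (Fin (n + 1)) R)
  have hX : ∀ j, (toAway n R i (dehom n R i (X j))).val * ι n R i (X i) = ι n R i (X j) := by
    intro j
    by_cases h : j = i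
    · subst h; simp [dehom_X_self, HomogeneousLocalization.val_one]
    · rw [dehom_X_ne n R i ⟨j, h⟩, toAway_X, val_ratio_mul]
  let F : MvPolynomial (Fin (n + 1)) R →+* L :=
    (algebraMap (AwayX n R i) L).comp ((toAway n R i).comp (dehom n R i).toRingHom)
  have hmon : ∀ m : Fin (n + 1) →₀ ℕ, ∀ r : R,
      F (monomial m r) * ι n R i (X i) ^ (m.degree) = ι n R i (monomial m r) := by
    intro m r
    rw [monomial_eq]
    simp only [map_mul, Finsupp.prod, map_prod, map_pow, mul_assoc, Finsupp.degree_apply,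
      ← Finset.prod_pow_eq_pow_sum]
    rw [← Finset.prod_mul_distrib]
    congr 1
    · show (toAway n R i (dehom n R i (C r))).val = _
      rw [show dehom n R i (C r) = C r from (dehom n R i).commutes r, toAway_C, val_constHom]
    · refine Finset.prod_congr rfl fun j _ => ?_
      rw [← mul_pow]; exact congrArg (· ^ m j) (hX j)
  show F p * ι n R i (X i ^ d) = ι n R i p
  rw [map_pow]
  conv_lhs => rw [p.as_sum, map_sum, Finset.sum_mul]
  conv_rhs => rw [p.as_sum, map_sum]
  refine Finset.sum_congr rfl fun m hm => ?_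
  have hd : m.degree = d := by
    rw [Finsupp.degree_eq_weight_one]
    exact hp (mem_support_iff.1 hm)
  rw [← hd]; exact hmon m _

lemma toAway_surjective (i : Fin (n + 1)) : Function.Surjective (toAway n R i) := by
  intro z
  obtain ⟨k, a, ha, rfl⟩ := HomogeneousLocalization.Away.mk_surjective 𝒜 (X_mem n R i) z
  refine ⟨dehom n R i a, HomogeneousLocalization.val_injective _ ?_⟩
  rw [HomogeneousLocalization.Away.val_mk]
  have hu : IsUnit (ι n R i (X i ^ k)) := by
    rw [map_pow]; exact (IsLocalization.Away.algebraMap_isUnit _).pow k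
  apply hu.mul_right_cancel
  rw [toAway_dehom_mul n R i (by simpa using ha), Localization.mk_eq_mk']
  exact (IsLocalization.mk'_spec _ a _).symm

lemma toAway_bijective (i : Fin (n + 1)) : Function.Bijective (toAway n R i) :=
  ⟨Function.LeftInverse.injective (g := fromAway n R i) fun p => RingHom.congr_fun (fromAway_toAway n R i) p,
    toAway_surjective n R i⟩

/-- The chart ring isomorphism. -/
noncomputable def awayEquiv (i : Fin (n + 1)) : MvPolynomial (ChartVar n i) R ≃+* AwayX n R i :=
  RingEquiv.ofBijective (toAway n R i) (toAway_bijective n R i)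

/-- `Proj.awayι` at `X i`, with target `CohB1.ProjSpace n R`. -/
noncomputable def chartAway (i : Fin (n + 1)) :
    Spec (CommRingCat.of (AwayX n R i)) ⟶ CohB1.ProjSpace n R :=
  Proj.awayι 𝒜 (X i) (X_mem n R i) one_pos

instance (i : Fin (n + 1)) : IsOpenImmersion (chartAway n R i) :=
  show IsOpenImmersion (Proj.awayι 𝒜 (X i : MvPolynomial (Fin (n + 1)) R) (X_mem n R i) one_pos) from
    inferInstance

lemma opensRange_chartAway (i : Fin (n + 1)) :
    (chartAway n R i).opensRange = Proj.basicOpen 𝒜 (X i) :=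
  Proj.opensRange_awayι 𝒜 (X i) (X_mem n R i) one_pos

/-- The chart `Spec R[T_j | j ≠ i] ⟶ ℙⁿ_R`. -/
noncomputable def chart (i : Fin (n + 1)) :
    Spec (CommRingCat.of (MvPolynomial (ChartVar n i) R)) ⟶ CohB1.ProjSpace n R :=
  Spec.map (CommRingCat.ofHom (awayEquiv n R i).symm.toRingHom) ≫ chartAway n R i

instance (i : Fin (n + 1)) :
    IsIso (Spec.map (CommRingCat.ofHom (awayEquiv n R i).symm.toRingHom)) :=
  inferInstanceAs (IsIso (Scheme.Spec.map (awayEquiv n R i).symm.toCommRingCatIso.hom.op))

instance (i : Fin (n + 1)) : IsOpenImmersion (chart n R i) := by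
  unfold chart; infer_instance

lemma opensRange_chart (i : Fin (n + 1)) :
    (chart n R i).opensRange = Proj.basicOpen 𝒜 (X i) :=
  (Scheme.Hom.opensRange_comp_of_isIso _ _).trans (opensRange_chartAway n R i)

theorem isAffineOpen_basicOpen_X (i : Fin (n + 1)) :
    IsAffineOpen (X := CohB1.ProjSpace n R) (Proj.basicOpen 𝒜 (X i)) :=
  Proj.isAffineOpen_basicOpen 𝒜 (X i) (X_mem n R i) one_pos

/-- The charts are over `R`. -/
@[reassoc]
theorem chart_toSpec (i : Fin (n + 1)) :
    chart n R i ≫ CohB1.ProjSpace.toSpec n R =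
      Spec.map (CommRingCat.ofHom (C : R →+* MvPolynomial (ChartVar n i) R)) := by
  have h := Proj.awayι_toSpecZero 𝒜 (X i : MvPolynomial (Fin (n + 1)) R) (X_mem n R i) one_pos
  have e : Proj.awayι 𝒜 (X i) (X_mem n R i) one_pos ≫ Proj.toSpecZero 𝒜 ≫
      Spec.map (CommRingCat.ofHom (algebraMap R (𝒜 0))) =
      Spec.map (CommRingCat.ofHom (constHom n R i)) := by
    rw [← Category.assoc, h, ← Spec.map_comp]
    rfl
  refine ((Category.assoc _ _ _).trans (congrArg (fun φ => _ ≫ φ) e)).trans ?_
  refine (Spec.map_comp _ _).symm.trans (congrArg Spec.map (CommRingCat.hom_ext (RingHom.ext fun r => ?_)))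
  show (awayEquiv n R i).symm (constHom n R i r) = C r
  rw [RingEquiv.symm_apply_eq]
  exact (toAway_C n R i r).symm

/-- The standard open cover by affine spaces. -/
noncomputable def chartCover : (CohB1.ProjSpace n R).OpenCover where
  I₀ := Fin (n + 1)
  X i := Spec (CommRingCat.of (MvPolynomial (ChartVar n i) R))
  f i := chart n R i
  mem₀ := by
    rw [Scheme.presieve₀_mem_precoverage_iff]
    refine ⟨fun x => ?_, fun i => inferInstance⟩
    obtain ⟨i, hi⟩ := exists_mem_basicOpen_X n R x
    rw [← opensRange_chart] at hi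
    exact ⟨i, hi⟩

end Groth.L16.ProjSpace
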