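import Groth.Prelude.Def_Twist2
import Groth.Prelude.Def_Coh
import Groth.Prelude.Def_Pic
import Groth.Agent.L16.ProjSpace.Charts

/-!
Serre's twisting sheaves (F9): `O(N)` is free of rank one inside `D₊(a) ∩ D₊(b)`, invertibility
criteria, invertibility of `O(d)` on projective space.
-/

universe u

open CategoryTheory CategoryTheory.Limits AlgebraicGeometry TopologicalSpace Opposite

namespace Groth.L16

section Section

variable {X : Scheme.{u}} (M : X.Modules)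

/-- The hom `O ⟶ M`, `r ↦ r • s`. -/
noncomputable def homOfSection (s : Γ(M, ⊤)) : Coh.structureModule X ⟶ M :=
  M.unitHomEquiv.symm (PresheafOfModules.sectionsMk
    (fun V => M.presheaf.map (homOfLE (le_top : V.unop ≤ ⊤)).op s)
    (fun V W f => by
      change (M.presheaf.map _ ≫ M.presheaf.map f) s = _
      rw [← Functor.map_comp]; rfl))

lemma homOfSection_app (s : Γ(M, ⊤)) (V : X.Opens) (r : Γ(X, V)) :
    (homOfSection M s).app V r = r • M.presheaf.map (homOfLE (le_top : V ≤ ⊤)).op s := rfl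

theorem isIso_homOfSection (s : Γ(M, ⊤))
    (h : ∀ V : X.Opens, Function.Bijective
      fun r : Γ(X, V) => r • M.presheaf.map (homOfLE (le_top : V ≤ ⊤)).op s) :
    IsIso (homOfSection M s) :=
  Scheme.Modules.Hom.isIso_iff_isIso_app.2 fun V =>
    (ConcreteCategory.isIso_iff_bijective _).2 (h V)

end Section

/-- Restricting twice is restricting along the composite. -/
noncomputable def restrictCompIso {X Y Z : Scheme.{u}} (f : X ⟶ Y) (g : Y ⟶ Z) [IsOpenImmersion f]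
    [IsOpenImmersion g] (M : Z.Modules) : (M.restrict g).restrict f ≅ M.restrict (f ≫ g) :=
  ((Scheme.Modules.restrictFunctorComp f g).app M).symm

namespace ProjTwist

variable {R A : Type u} [CommRing R] [CommRing A] [Algebra R A] {𝒜 : ℕ → Submodule R A}
  [GradedAlgebra 𝒜]

variable {i j : ℕ} {N : ℤ} (a : 𝒜 i) (b : 𝒜 j) (hN : (i : ℤ) = j + N)
  (W : Opens (ProjectiveSpectrum.top 𝒜)) (ha : ∀ x : W, a.1 ∉ x.1.asHomogeneousIdeal)
  (hb : ∀ x : W, b.1 ∉ x.1.asHomogeneousIdeal)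

/-- The section `a / b`. -/
noncomputable def gen : Twist.sectN (𝒜 := 𝒜) N (op W) :=
  ⟨fun x => ⟨Localization.mk a.1 ⟨b.1, hb x⟩,
    Submodule.subset_span ⟨i, j, a, b, hb x, hN, rfl⟩⟩,
   fun x => ⟨W, x.2, 𝟙 _, i, j, a, b, fun y => hb y, Or.inl hN, fun _ => rfl⟩⟩

include hN in
lemma exists_val_eq (x : ProjectiveSpectrum 𝒜) (hax : a.1 ∉ x.asHomogeneousIdeal)
    (q : Twist.Loc 𝒜 x) (hq : q ∈ Twist.twistAt 𝒜 N x) :
    ∃ c : Twist.A0 𝒜 x, c.val = q * Localization.mk b.1 ⟨a.1, hax⟩ := by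
  induction hq using Submodule.span_induction with
  | mem q hq =>
    obtain ⟨i', j', a', s, hs, hd, rfl⟩ := hq
    have hdeg : i' + j = j' + i := by omega
    refine ⟨HomogeneousLocalization.mk ⟨j' + i, ⟨a'.1 * b.1, hdeg ▸ SetLike.mul_mem_graded a'.2 b.2⟩,
      ⟨s.1 * a.1, SetLike.mul_mem_graded s.2 a.2⟩, fun h => (x.isPrime.mem_or_mem h).elim hs hax⟩, ?_⟩
    rw [HomogeneousLocalization.val_mk, Localization.mk_mul]
    rfl
  | zero => exact ⟨0, by simp⟩
  | add q q' _ _ h h' =>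
    obtain ⟨c, hc⟩ := h
    obtain ⟨c', hc'⟩ := h'
    exact ⟨c + c', by rw [HomogeneousLocalization.val_add, hc, hc', add_mul]⟩
  | smul r q _ h =>
    obtain ⟨c, hc⟩ := h
    exact ⟨r * c, by rw [HomogeneousLocalization.val_mul, hc, Algebra.smul_def,
      HomogeneousLocalization.algebraMap_apply, mul_assoc]⟩

lemma mk_mul_mk_swap (x : ProjectiveSpectrum 𝒜) (hax : a.1 ∉ x.asHomogeneousIdeal)
    (hbx : b.1 ∉ x.asHomogeneousIdeal) :
    (Localization.mk b.1 ⟨a.1, hax⟩ : Twist.Loc 𝒜 x) * Localization.mk a.1 ⟨b.1, hbx⟩ = 1 := by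
  rw [Localization.mk_mul, ← Localization.mk_one, Localization.mk_eq_mk_iff, Localization.r_iff_exists]
  exact ⟨1, by simp [mul_comm]⟩

lemma smul_gen_injective (hax : ∀ x : W, a.1 ∉ x.1.asHomogeneousIdeal) :
    Function.Injective fun c : Twist.O (op W) => c • gen a b hN W hb := by
  intro c c' h
  refine Subtype.ext (funext fun x => HomogeneousLocalization.val_injective _ ?_)
  have e : ∀ c : Twist.O (op W), ((c • gen a b hN W hb).1 x).1 =
      (c.1 x).val * Localization.mk a.1 ⟨b.1, hb x⟩ := fun c => Twist.coe_smul_val N x.1 (c.1 x) _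
  have h2 := ((e c).symm.trans (congrArg (fun q : Twist.sectN (𝒜 := 𝒜) N (op W) => (q.1 x).1) h)).trans (e c')
  have h3 := congrArg (fun t => t * Localization.mk b.1 ⟨a.1, hax x⟩) h2
  simp only [mul_assoc] at h3
  rwa [mul_comm (Localization.mk a.1 _), mk_mul_mk_swap a b x.1 (hax x) (hb x), mul_one, mul_one] at h3

include ha in
lemma smul_gen_surjective :
    Function.Surjective fun c : Twist.O (op W) => c • gen a b hN W hb := by
  rintro ⟨f, hf⟩
  choose c hc using fun x : W => exists_val_eq a b hN x.1 (ha x) _ (f x).2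
  have hloc : (ProjectiveSpectrum.StructureSheaf.isLocallyFraction 𝒜).pred c := fun x => by
    obtain ⟨V, hxV, iV, i', j', a', s, nin, hd, hw⟩ := hf x
    have nin' : ∀ y : V, s.1 * a.1 ∉ y.1.asHomogeneousIdeal := fun y h =>
      (y.1.isPrime.mem_or_mem h).elim (nin y) (ha (iV y))
    have hmem : a'.1 * b.1 ∈ 𝒜 (j' + i) := by
      rcases hd with hd | hd
      · have hdeg : i' + j = j' + i := by omega
        exact hdeg ▸ SetLike.mul_mem_graded a'.2 b.2
      · rw [hd, zero_mul]; exact zero_mem _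
    refine ⟨V, hxV, iV, j' + i, ⟨a'.1 * b.1, hmem⟩,
      ⟨s.1 * a.1, SetLike.mul_mem_graded s.2 a.2⟩, nin', fun y => ?_⟩
    apply HomogeneousLocalization.val_injective
    erw [hc (iV y), hw y, HomogeneousLocalization.val_mk, Localization.mk_mul]
    rfl
  refine ⟨⟨c, hloc⟩, Subtype.ext (funext fun x => Subtype.ext ?_)⟩
  change ((c x) • (gen a b hN W hb).1 x : Twist.twistAt 𝒜 N x.1).1 = _
  rw [Twist.coe_smul_val, hc x]
  erw [mul_assoc, mk_mul_mk_swap a b x.1 (ha x) (hb x), mul_one]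

/-- `O(N)` is free of rank one on opens inside `D₊(a) ∩ D₊(b)`, `deg a - deg b = N`. -/
theorem nonempty_restrict_iso {Y : Scheme.{u}} (g : Y ⟶ Proj 𝒜) [IsOpenImmersion g]
    (ha : ∀ y : Y, g y ∈ Proj.basicOpen 𝒜 a.1) (hb : ∀ y : Y, g y ∈ Proj.basicOpen 𝒜 b.1)
    (hN : (i : ℤ) = j + N) :
    Nonempty ((Twist.twist 𝒜 N).restrict g ≅ Coh.structureModule Y) := by
  have hb' : ∀ (V : Y.Opens) (x : (g ''ᵁ V : Opens (ProjectiveSpectrum.top 𝒜))),
      b.1 ∉ x.1.asHomogeneousIdeal := by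
    rintro V ⟨_, y, _, rfl⟩; exact (Proj.mem_basicOpen _ _ _).1 (hb y)
  have ha' : ∀ (V : Y.Opens) (x : (g ''ᵁ V : Opens (ProjectiveSpectrum.top 𝒜))),
      a.1 ∉ x.1.asHomogeneousIdeal := by
    rintro V ⟨_, y, _, rfl⟩; exact (Proj.mem_basicOpen _ _ _).1 (ha y)
  let s : Γ((Twist.twist 𝒜 N).restrict g, ⊤) := gen a b hN (g ''ᵁ ⊤) (hb' ⊤)
  have := isIso_homOfSection _ s fun V => by
    have hsm : (fun r : Γ(Y, V) => r • ((Twist.twist 𝒜 N).restrict g).presheaf.map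
        (homOfLE (le_top : V ≤ ⊤)).op s) =
        (fun c : Twist.O (op (g ''ᵁ V)) => c • gen a b hN (g ''ᵁ V) (hb' V)) ∘
          (fun r => show Twist.O (op (g ''ᵁ V)) from (g.appIso V).inv r) := by
      funext r
      rfl
    rw [hsm]
    exact Function.Bijective.comp ⟨smul_gen_injective a b hN _ _ (ha' V),
      smul_gen_surjective a b hN _ (ha' V) _⟩
      (ConcreteCategory.bijective_of_isIso (g.appIso V).inv)
  exact ⟨(asIso (homOfSection _ s)).symm⟩

/-- `O(nd)` is free of rank one on `D₊(a) ∩ D₊(b)` when `deg a = deg b + d`. -/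
theorem nonempty_restrict_iso_pow {Y : Scheme.{u}} (g : Y ⟶ Proj 𝒜) [IsOpenImmersion g] {d : ℕ}
    (hd : i = j + d) (ha : ∀ y : Y, g y ∈ Proj.basicOpen 𝒜 a.1)
    (hb : ∀ y : Y, g y ∈ Proj.basicOpen 𝒜 b.1) (n : ℤ) :
    Nonempty ((Twist.twist 𝒜 (n * d)).restrict g ≅ Coh.structureModule Y) := by
  have hpow : ∀ (c : A) (m : ℕ), (∀ y : Y, g y ∈ Proj.basicOpen 𝒜 c) →
      ∀ y : Y, g y ∈ Proj.basicOpen 𝒜 (c ^ m) := fun c m hc y =>
    (Proj.mem_basicOpen _ _ _).2 fun h =>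
      (Proj.mem_basicOpen _ _ _).1 (hc y) ((g y).isPrime.mem_of_pow_mem m h)
  obtain ⟨m, rfl | rfl⟩ := n.eq_nat_or_neg
  · exact nonempty_restrict_iso (i := m • i) (j := m • j)
      ⟨a.1 ^ m, SetLike.pow_mem_graded m a.2⟩ ⟨b.1 ^ m, SetLike.pow_mem_graded m b.2⟩ g
      (hpow _ m ha) (hpow _ m hb) (by subst hd; simp only [smul_eq_mul]; push_cast; ring)
  · exact nonempty_restrict_iso (i := m • j) (j := m • i)
      ⟨b.1 ^ m, SetLike.pow_mem_graded m b.2⟩ ⟨a.1 ^ m, SetLike.pow_mem_graded m a.2⟩ g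
      (hpow _ m hb) (hpow _ m ha) (by subst hd; simp only [smul_eq_mul]; push_cast; ring)

variable (𝒜) in
/-- `O(nd)` is free of rank one on any open immersion into `D₊(f)`, `deg f = d`. -/
theorem nonempty_restrict_iso_of_mem {Y : Scheme.{u}} (g : Y ⟶ Proj 𝒜) [IsOpenImmersion g] {d : ℕ}
    (f : 𝒜 d) (hf : ∀ y : Y, g y ∈ Proj.basicOpen 𝒜 f.1) (n : ℤ) :
    Nonempty ((Twist.twist 𝒜 (n * d)).restrict g ≅ Coh.structureModule Y) :=
  nonempty_restrict_iso_pow f (⟨1, SetLike.GradedOne.one_mem⟩ : 𝒜 0) g (by simp) hf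
    (fun y => by rw [Proj.basicOpen_one]; trivial) n

variable (𝒜) in
/-- `O(nd)` is invertible on an open covered by the `D₊(f)`, `deg f = d`. -/
theorem isInvertible_restrict_twist (U : (Proj 𝒜).Opens) (d : ℕ) (n : ℤ)
    (hU : ∀ x ∈ U, ∃ f : 𝒜 d, x ∈ Proj.basicOpen 𝒜 f.1) :
    PicF.IsInvertible ((Twist.twist 𝒜 (n * d)).restrict U.ι) := by
  intro y
  obtain ⟨f, hf⟩ := hU y.1 y.2
  refine ⟨U.ι ⁻¹ᵁ Proj.basicOpen 𝒜 f.1, hf, ?_⟩
  generalize hM : Twist.twist 𝒜 (n * d) = M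
  obtain ⟨e⟩ := hM ▸ nonempty_restrict_iso_of_mem 𝒜 ((U.ι ⁻¹ᵁ Proj.basicOpen 𝒜 f.1).ι ≫ U.ι) f
    (fun z => z.2) n
  exact ⟨restrictCompIso _ _ M ≪≫ e⟩

variable (𝒜) in
/-- `O(n)` is invertible if `Proj` is covered by the `D₊(f)`, `deg f = 1`. -/
theorem isInvertible_twist (n : ℤ) (h : ∀ x : Proj 𝒜, ∃ f : 𝒜 1, x ∈ Proj.basicOpen 𝒜 f.1) :
    PicF.IsInvertible (Twist.twist 𝒜 n) := by
  intro x
  obtain ⟨f, hf⟩ := h x
  refine ⟨Proj.basicOpen 𝒜 f.1, hf, ?_⟩
  have := nonempty_restrict_iso_of_mem 𝒜 (Proj.basicOpen 𝒜 f.1).ι f (fun z => z.2) n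
  rwa [Nat.cast_one, mul_one] at this

/-- `O(d)` on projective space is invertible. -/
theorem isInvertible_twistProjSpace (n : ℕ) (R₀ : Type u) [CommRing R₀] (d : ℤ) :
    PicF.IsInvertible (Twist.twistProjSpace n R₀ d) :=
  isInvertible_twist _ d fun x => by
    obtain ⟨k, hk⟩ := ProjSpace.exists_mem_basicOpen_X n R₀ x
    exact ⟨⟨_, ProjSpace.X_mem n R₀ k⟩, hk⟩

end ProjTwist

end Groth.L16
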