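import Groth.Agent.L16.ProjSpace.Twist
import Groth.Agent.L00.TensorMod

/-!
Multiplication `O(m) ⊗ O(n) ⟶ O(m+n)` on `Proj` (F9).
-/

universe u

open CategoryTheory MonoidalCategory AlgebraicGeometry TopologicalSpace Opposite TensorProduct
open Groth.L00

namespace Groth.L16.ProjTwist

variable {R A : Type u} [CommRing R] [CommRing A] [Algebra R A] {𝒜 : ℕ → Submodule R A}
  [GradedAlgebra 𝒜] {m n : ℤ}

lemma mul_mem_twistAt {x : ProjectiveSpectrum 𝒜} {q q' : Twist.Loc 𝒜 x}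
    (hq : q ∈ Twist.twistAt 𝒜 m x) (hq' : q' ∈ Twist.twistAt 𝒜 n x) :
    q * q' ∈ Twist.twistAt 𝒜 (m + n) x := by
  induction hq using Submodule.span_induction with
  | mem q hq =>
    induction hq' using Submodule.span_induction with
    | mem q' hq' =>
      obtain ⟨i, j, a, s, hs, hd, rfl⟩ := hq
      obtain ⟨i', j', a', s', hs', hd', rfl⟩ := hq'
      refine Submodule.subset_span ⟨i + i', j + j', ⟨a.1 * a'.1, SetLike.mul_mem_graded a.2 a'.2⟩,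
        ⟨s.1 * s'.1, SetLike.mul_mem_graded s.2 s'.2⟩,
        fun h => (x.isPrime.mem_or_mem h).elim hs hs', by push_cast; omega, ?_⟩
      rw [Localization.mk_mul]; rfl
    | zero => rw [mul_zero]; exact zero_mem _
    | add _ _ _ _ h h' => rw [mul_add]; exact add_mem h h'
    | smul c _ _ h => rw [mul_smul_comm]; exact Submodule.smul_mem _ c h
  | zero => rw [zero_mul]; exact zero_mem _
  | add _ _ _ _ h h' => rw [add_mul]; exact add_mem h h'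
  | smul c _ _ h => rw [smul_mul_assoc]; exact Submodule.smul_mem _ c h

/-- Product of sections of twisting sheaves. -/
noncomputable def mulSect {U : (Opens (ProjectiveSpectrum.top 𝒜))ᵒᵖ} (f : Twist.sectN (𝒜 := 𝒜) m U)
    (g : Twist.sectN (𝒜 := 𝒜) n U) : Twist.sectN (𝒜 := 𝒜) (m + n) U :=
  ⟨fun x => ⟨(f.1 x).1 * (g.1 x).1, mul_mem_twistAt (f.1 x).2 (g.1 x).2⟩, fun x => by
    obtain ⟨Va, ma, ia, i, j, a, s, nina, ca, wa⟩ := f.2 x
    obtain ⟨Vb, mb, ib, i', j', a', s', ninb, cb, wb⟩ := g.2 x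
    refine ⟨Va ⊓ Vb, ⟨ma, mb⟩, Opens.infLELeft _ _ ≫ ia, i + i', j + j',
      ⟨a.1 * a'.1, SetLike.mul_mem_graded a.2 a'.2⟩, ⟨s.1 * s'.1, SetLike.mul_mem_graded s.2 s'.2⟩,
      fun y h => (y.1.isPrime.mem_or_mem h).elim (nina ⟨y.1, y.2.1⟩) (ninb ⟨y.1, y.2.2⟩), ?_, fun y => ?_⟩
    · rcases ca with ha | ha
      · rcases cb with hb | hb
        · exact Or.inl (by push_cast; omega)
        · exact Or.inr (show a.1 * a'.1 = 0 by rw [hb, mul_zero])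
      · exact Or.inr (show a.1 * a'.1 = 0 by rw [ha, zero_mul])
    · have e1 := wa ⟨y.1, y.2.1⟩
      have e2 := wb ⟨y.1, y.2.2⟩
      dsimp only at e1 e2 ⊢
      erw [e1, e2, Localization.mk_mul]
      rfl⟩

lemma mulSect_apply {U : (Opens (ProjectiveSpectrum.top 𝒜))ᵒᵖ} (f : Twist.sectN (𝒜 := 𝒜) m U)
    (g : Twist.sectN (𝒜 := 𝒜) n U) (x : U.unop) :
    ((mulSect f g).1 x).1 = (f.1 x).1 * (g.1 x).1 := rfl

lemma sectN_ext {U : (Opens (ProjectiveSpectrum.top 𝒜))ᵒᵖ} {f g : Twist.sectN (𝒜 := 𝒜) m U}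
    (h : ∀ x, (f.1 x).1 = (g.1 x).1) : f = g :=
  Subtype.ext (funext fun x => Subtype.ext (h x))

lemma smul_apply_val {U : (Opens (ProjectiveSpectrum.top 𝒜))ᵒᵖ} (c : Twist.O U)
    (f : Twist.sectN (𝒜 := 𝒜) m U) (x : U.unop) : ((c • f).1 x).1 = (c.1 x).val * (f.1 x).1 :=
  Twist.coe_smul_val m x.1 (c.1 x) _

section Bilinear

variable {U : (Opens (ProjectiveSpectrum.top 𝒜))ᵒᵖ}

lemma mulSect_add₁ (f f' : Twist.sectN (𝒜 := 𝒜) m U) (g : Twist.sectN (𝒜 := 𝒜) n U) :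
    mulSect (f + f') g = mulSect f g + mulSect f' g :=
  sectN_ext fun x => add_mul (f.1 x).1 (f'.1 x).1 (g.1 x).1

lemma mulSect_add₂ (f : Twist.sectN (𝒜 := 𝒜) m U) (g g' : Twist.sectN (𝒜 := 𝒜) n U) :
    mulSect f (g + g') = mulSect f g + mulSect f g' :=
  sectN_ext fun x => mul_add (f.1 x).1 (g.1 x).1 (g'.1 x).1

lemma mulSect_smul₁ (c : Twist.O U) (f : Twist.sectN (𝒜 := 𝒜) m U) (g : Twist.sectN (𝒜 := 𝒜) n U) :
    mulSect (c • f) g = c • mulSect f g :=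
  sectN_ext fun x => by rw [mulSect_apply, smul_apply_val, smul_apply_val, mulSect_apply, mul_assoc]

lemma mulSect_smul₂ (c : Twist.O U) (f : Twist.sectN (𝒜 := 𝒜) m U) (g : Twist.sectN (𝒜 := 𝒜) n U) :
    mulSect f (c • g) = c • mulSect f g :=
  sectN_ext fun x => by rw [mulSect_apply, smul_apply_val, smul_apply_val, mulSect_apply, mul_left_comm]

end Bilinear

lemma mulSect_gen {i j i' j' : ℕ} (a : 𝒜 i) (b : 𝒜 j) (hm : (i : ℤ) = j + m) (a' : 𝒜 i') (b' : 𝒜 j')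
    (hn : (i' : ℤ) = j' + n) (W : Opens (ProjectiveSpectrum.top 𝒜))
    (hb : ∀ x : W, b.1 ∉ x.1.asHomogeneousIdeal) (hb' : ∀ x : W, b'.1 ∉ x.1.asHomogeneousIdeal)
    (hbb : ∀ x : W, b.1 * b'.1 ∉ x.1.asHomogeneousIdeal) :
    mulSect (gen a b hm W hb) (gen a' b' hn W hb') =
      gen (⟨a.1 * a'.1, SetLike.mul_mem_graded a.2 a'.2⟩ : 𝒜 (i + i'))
        (⟨b.1 * b'.1, SetLike.mul_mem_graded b.2 b'.2⟩ : 𝒜 (j + j'))
        (show ((i + i' : ℕ) : ℤ) = ((j + j' : ℕ) : ℤ) + (m + n) by push_cast; omega) W hbb :=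
  sectN_ext fun x => Localization.mk_mul _ _ _ _

variable (𝒜 m n)

/-- The underlying presheaf of modules of `O(m)`. -/
noncomputable abbrev P (k : ℤ) : Tensor.PX (Proj 𝒜) := Tensor.pre (Twist.twist 𝒜 k)

variable {𝒜 m n}

/-- A section of `P`, typed as a function. -/
noncomputable def toS {k : ℤ} {U : (Proj 𝒜).Opensᵒᵖ} (f : (P 𝒜 k).obj U) : Twist.sectN (𝒜 := 𝒜) k U := f

variable (𝒜 m n)

/-- The multiplication map of presheaves. -/
noncomputable def mulPre : P 𝒜 m ⊗ P 𝒜 n ⟶ P 𝒜 (m + n) where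
  app U := ModuleCat.ofHom (Y := (P 𝒜 (m + n)).obj U)
    (TensorProduct.lift (LinearMap.mk₂ ((Proj 𝒜).sheaf.obj.obj U)
      (fun (f : (P 𝒜 m).obj U) (g : (P 𝒜 n).obj U) => mulSect (toS f) (toS g))
      (fun f f' g => mulSect_add₁ (toS f) (toS f') (toS g))
      (fun c f g => mulSect_smul₁ c (toS f) (toS g))
      (fun f g g' => mulSect_add₂ (toS f) (toS g) (toS g'))
      (fun c f g => mulSect_smul₂ c (toS f) (toS g))))
  naturality _ := ModuleCat.MonoidalCategory.tensor_ext fun _ _ => rfl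

variable {𝒜 m n}

lemma mulPre_tmul (U : (Proj 𝒜).Opensᵒᵖ) (f : (P 𝒜 m).obj U) (g : (P 𝒜 n).obj U) :
    (mulPre 𝒜 m n).app U (f ⊗ₜ[(Proj 𝒜).sheaf.obj.obj U] g) = mulSect (toS f) (toS g) := rfl

/-- Where both factors have monomial generators the multiplication map is bijective. -/
theorem mulPre_bijective {i j i' j' : ℕ} (a : 𝒜 i) (b : 𝒜 j) (hm : (i : ℤ) = j + m)
    (a' : 𝒜 i') (b' : 𝒜 j') (hn : (i' : ℤ) = j' + n) (W : (Proj 𝒜).Opens)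
    (h : ∀ x ∈ W, (a.1 ∉ (x : ProjectiveSpectrum 𝒜).asHomogeneousIdeal ∧
      b.1 ∉ (x : ProjectiveSpectrum 𝒜).asHomogeneousIdeal) ∧
      a'.1 ∉ (x : ProjectiveSpectrum 𝒜).asHomogeneousIdeal ∧
      b'.1 ∉ (x : ProjectiveSpectrum 𝒜).asHomogeneousIdeal) :
    Function.Bijective ((mulPre 𝒜 m n).app (op W)) := by
  let G₁ : (P 𝒜 m).obj (op W) := gen a b hm W (fun x => (h x.1 x.2).1.2)
  let G₂ : (P 𝒜 n).obj (op W) := gen a' b' hn W (fun x => (h x.1 x.2).2.2)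
  have hbb : ∀ x : (W : Opens (ProjectiveSpectrum.top 𝒜)), b.1 * b'.1 ∉ x.1.asHomogeneousIdeal :=
    fun x hx => (x.1.isPrime.mem_or_mem hx).elim (h x.1 x.2).1.2 (h x.1 x.2).2.2
  have haa : ∀ x : (W : Opens (ProjectiveSpectrum.top 𝒜)), a.1 * a'.1 ∉ x.1.asHomogeneousIdeal :=
    fun x hx => (x.1.isPrime.mem_or_mem hx).elim (h x.1 x.2).1.1 (h x.1 x.2).2.1
  let N' : (P 𝒜 (m + n)).obj (op W) := mulSect (toS G₁) (toS G₂)
  let A' : 𝒜 (i + i') := ⟨a.1 * a'.1, SetLike.mul_mem_graded a.2 a'.2⟩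
  let B' : 𝒜 (j + j') := ⟨b.1 * b'.1, SetLike.mul_mem_graded b.2 b'.2⟩
  have hMN : ((i + i' : ℕ) : ℤ) = ((j + j' : ℕ) : ℤ) + (m + n) := by push_cast; omega
  have hN : Function.Bijective fun c : (Proj 𝒜).sheaf.obj.obj (op W) => c • N' := by
    refine Eq.mpr (congrArg Function.Bijective (?_ : _ = fun c : Twist.O (op W) => c • gen A' B' hMN W hbb))
      ⟨smul_gen_injective A' B' hMN W hbb haa, smul_gen_surjective A' B' hMN W haa hbb⟩
    funext c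
    exact congrArg (c • ·) (mulSect_gen a b hm a' b' hn W _ _ hbb)
  let T : (P 𝒜 m ⊗ P 𝒜 n).obj (op W) := G₁ ⊗ₜ[(Proj 𝒜).sheaf.obj.obj (op W)] G₂
  have key : ∀ z : (P 𝒜 m ⊗ P 𝒜 n).obj (op W), ∃ c : (Proj 𝒜).sheaf.obj.obj (op W), z = c • T := by
    intro z
    induction z using TensorProduct.induction_on with
    | zero => exact ⟨0, (zero_smul _ T).symm⟩
    | tmul f g =>
      obtain ⟨c, hc⟩ := smul_gen_surjective a b hm W (fun x => (h x.1 x.2).1.1) (fun x => (h x.1 x.2).1.2) f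
      obtain ⟨d, hd⟩ := smul_gen_surjective a' b' hn W (fun x => (h x.1 x.2).2.1) (fun x => (h x.1 x.2).2.2) g
      let c' : (Proj 𝒜).sheaf.obj.obj (op W) := c
      let d' : (Proj 𝒜).sheaf.obj.obj (op W) := d
      refine ⟨c' * d', ?_⟩
      have hc' : f = c' • G₁ := hc.symm
      have hd' : g = d' • G₂ := hd.symm
      rw [hc', hd']
      exact TensorProduct.smul_tmul_smul c' d' G₁ G₂
    | add z z' hz hz' =>
      obtain ⟨c, rfl⟩ := hz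
      obtain ⟨d, rfl⟩ := hz'
      exact ⟨c + d, (add_smul _ _ _).symm⟩
  have heval : ∀ c : (Proj 𝒜).sheaf.obj.obj (op W),
      (mulPre 𝒜 m n).app (op W) (c • T) = c • N' :=
    fun c => ((mulPre 𝒜 m n).app (op W)).hom.map_smul c _
  refine ⟨fun z z' e => ?_, fun y => ?_⟩
  · obtain ⟨c, rfl⟩ := key z
    obtain ⟨d, rfl⟩ := key z'
    rw [heval, heval] at e
    rw [hN.1 e]
  · obtain ⟨c, hc⟩ := hN.2 y
    exact ⟨_, (heval c).trans hc⟩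

/-- Each point has monomial generators for `O(k d)`. -/
lemma exists_pair {d : ℕ} (f : 𝒜 d) (k : ℤ) :
    ∃ (i j : ℕ) (a : 𝒜 i) (b : 𝒜 j), (i : ℤ) = j + k * d ∧
      ∀ x : ProjectiveSpectrum 𝒜, f.1 ∉ x.asHomogeneousIdeal →
        a.1 ∉ x.asHomogeneousIdeal ∧ b.1 ∉ x.asHomogeneousIdeal := by
  have hone : ∀ x : ProjectiveSpectrum 𝒜, (1 : A) ∉ x.asHomogeneousIdeal := fun x hx =>
    x.isPrime.ne_top ((Ideal.eq_top_iff_one _).mpr hx)
  obtain ⟨p, rfl | rfl⟩ := k.eq_nat_or_neg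
  · exact ⟨p • d, 0, ⟨_, SetLike.pow_mem_graded p f.2⟩, ⟨1, SetLike.GradedOne.one_mem⟩,
      by simp, fun x hx => ⟨fun e => hx (x.isPrime.mem_of_pow_mem p e), hone x⟩⟩
  · exact ⟨0, p • d, ⟨1, SetLike.GradedOne.one_mem⟩, ⟨_, SetLike.pow_mem_graded p f.2⟩,
      by simp, fun x hx => ⟨hone x, fun e => hx (x.isPrime.mem_of_pow_mem p e)⟩⟩

variable (𝒜) in
theorem Wp_mulPre (d : ℕ) (h : ∀ x : Proj 𝒜, ∃ f : 𝒜 d, x ∈ Proj.basicOpen 𝒜 f.1) (p q : ℤ) :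
    Tensor.Wp (mulPre 𝒜 (p * d) (q * d)) := by
  have key : ∀ (f : 𝒜 d) (W : (Proj 𝒜).Opens), W ≤ Proj.basicOpen 𝒜 f.1 →
      Function.Bijective ((mulPre 𝒜 (p * d) (q * d)).app (op W)) := fun f W hW => by
    obtain ⟨i, j, a, b, hm, hab⟩ := exists_pair f p
    obtain ⟨i', j', a', b', hn, hab'⟩ := exists_pair f q
    exact mulPre_bijective a b hm a' b' hn W fun x hx =>
      ⟨hab x ((Proj.mem_basicOpen _ _ _).1 (hW hx)), hab' x ((Proj.mem_basicOpen _ _ _).1 (hW hx))⟩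
  rw [Tensor.Wp, (Opens.grothendieckTopology (Proj 𝒜)).W_iff_isLocallyBijective]
  refine ⟨⟨fun {U} z z' e x hx => ?_⟩, ⟨fun {U} y x hx => ?_⟩⟩
  · obtain ⟨f, hf⟩ := h x
    refine ⟨U.unop ⊓ Proj.basicOpen 𝒜 f.1, homOfLE inf_le_left, ?_, ⟨hx, hf⟩⟩
    refine (key f _ inf_le_right).1 ?_
    change (mulPre 𝒜 (p * d) (q * d)).app _ (Tensor.rs _ _ z) =
      (mulPre 𝒜 (p * d) (q * d)).app _ (Tensor.rs _ _ z')
    rw [Tensor.app_rs, Tensor.app_rs]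
    exact congrArg _ e
  · obtain ⟨f, hf⟩ := h x
    exact ⟨U ⊓ Proj.basicOpen 𝒜 f.1, homOfLE inf_le_left,
      (key f _ inf_le_right).2 _, ⟨hx, hf⟩⟩

variable (𝒜) in
/-- `O(pd) ⊗ O(qd) ≅ O(pd + qd)`. -/
theorem nonempty_tensor_twist_iso (d : ℕ) (h : ∀ x : Proj 𝒜, ∃ f : 𝒜 d, x ∈ Proj.basicOpen 𝒜 f.1)
    (p q : ℤ) :
    Nonempty (CohB1.tensorMod (Twist.twist 𝒜 (p * d)) (Twist.twist 𝒜 (q * d)) ≅
      Twist.twist 𝒜 (p * d + q * d)) :=
  ⟨@asIso _ _ _ _ ((Tensor.shf _).map (mulPre 𝒜 (p * d) (q * d)))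
      ((Tensor.isIso_shf_map_iff _).2 (Wp_mulPre 𝒜 d h p q)) ≪≫ Tensor.counitIso _⟩

variable (𝒜) in
/-- `O(m) ⊗ O(n) ≅ O(m + n)` when the `D₊(f)`, `deg f = 1`, cover. -/
theorem nonempty_tensor_twist_iso_one (h : ∀ x : Proj 𝒜, ∃ f : 𝒜 1, x ∈ Proj.basicOpen 𝒜 f.1)
    (p q : ℤ) :
    Nonempty (CohB1.tensorMod (Twist.twist 𝒜 p) (Twist.twist 𝒜 q) ≅ Twist.twist 𝒜 (p + q)) := by
  simpa using nonempty_tensor_twist_iso 𝒜 1 h p q

/-- `O(0) ≅ O`. -/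
theorem nonempty_twist_zero_iso (𝒜 : ℕ → Submodule R A) [GradedAlgebra 𝒜] :
    Nonempty (Twist.twist 𝒜 0 ≅ Coh.structureModule (Proj 𝒜)) := by
  let one : 𝒜 0 := ⟨1, SetLike.GradedOne.one_mem⟩
  have hone : ∀ x : ProjectiveSpectrum 𝒜, (1 : A) ∉ x.asHomogeneousIdeal := fun x hx =>
    x.isPrime.ne_top ((Ideal.eq_top_iff_one _).mpr hx)
  let s : Γ(Twist.twist 𝒜 0, ⊤) := gen one one (by simp) ⊤ (fun x => hone x.1)
  have := isIso_homOfSection _ s fun V =>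
    ⟨smul_gen_injective one one (by simp) V (fun x => hone x.1) (fun x => hone x.1),
      smul_gen_surjective one one (by simp) V (fun x => hone x.1) (fun x => hone x.1)⟩
  exact ⟨(asIso (homOfSection _ s)).symm⟩

variable (𝒜) in
/-- `O(k) ≅ O(1)^{⊗k}`. -/
theorem nonempty_twist_iso_tensorPow (h : ∀ x : Proj 𝒜, ∃ f : 𝒜 1, x ∈ Proj.basicOpen 𝒜 f.1) :
    ∀ k : ℕ, Nonempty (Twist.twist 𝒜 (k : ℤ) ≅ CohB1.tensorPow (Twist.twist 𝒜 1) k)
  | 0 => nonempty_twist_zero_iso 𝒜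
  | k + 1 => by
    obtain ⟨e⟩ := nonempty_twist_iso_tensorPow h k
    obtain ⟨e'⟩ := nonempty_tensor_twist_iso_one 𝒜 h (k : ℤ) 1
    have e'' : ((k + 1 : ℕ) : ℤ) = (k : ℤ) + 1 := by push_cast; rfl
    exact ⟨eqToIso (by rw [e'']) ≪≫ e'.symm ≪≫ Tensor.tensorIso e (Iso.refl _)⟩

end Groth.L16.ProjTwist
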