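import Groth.Agent.L16.ProjSpace.Sections
import Groth.Agent.L16.ProjSpace.TwistMul
import Groth.Agent.L00.LocalData
import Mathlib.AlgebraicGeometry.ProjectiveSpectrum.Basic

/-!
Sections of `O(n)` over `D₊(h)` are degree `n` fractions; `O(n)` is quasi-coherent (F9).
-/

universe u

open CategoryTheory AlgebraicGeometry TopologicalSpace Opposite

namespace Groth.L16.ProjTwist

variable {R A : Type u} [CommRing R] [CommRing A] [Algebra R A] {𝒜 : ℕ → Submodule R A}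
  [GradedAlgebra 𝒜] {n : ℤ} {d : ℕ}

variable (𝒜) in
lemma mem_radical_span {ι : Type*} (H : ι → A) (e : ι → ℕ) (hH : ∀ i, H i ∈ 𝒜 (e i)) {h : A}
    (hd : 0 < d) (hh : h ∈ 𝒜 d)
    (hcov : ∀ x : ProjectiveSpectrum 𝒜, h ∉ x.asHomogeneousIdeal → ∃ i, H i ∉ x.asHomogeneousIdeal) :
    h ∈ (Ideal.span (Set.range H)).radical := by
  have hI : (Ideal.span (Set.range H)).IsHomogeneous 𝒜 :=
    Ideal.homogeneous_span 𝒜 _ (by rintro _ ⟨i, rfl⟩; exact ⟨e i, hH i⟩)
  rw [hI.radical_eq, Submodule.mem_sInf]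
  rintro J ⟨hJ, hIJ, hJp⟩
  by_contra hJh
  let x : ProjectiveSpectrum 𝒜 := ⟨⟨J, hJ⟩, hJp, fun hle => hJh (hle ((HomogeneousIdeal.mem_irrelevant_iff _ _).2
    (by rw [GradedRing.proj_apply, DirectSum.decompose_of_mem_ne 𝒜 hh hd.ne'])))⟩
  obtain ⟨i, hi⟩ := hcov x hJh
  exact hi (hIJ (Ideal.subset_span ⟨i, rfl⟩))

lemma exists_pow_degree (hd : 0 < d) (n : ℤ) : ∃ P : ℕ, 0 < P ∧ 0 ≤ (P * d : ℕ) + n := by
  refine ⟨n.natAbs + 1, Nat.succ_pos _, ?_⟩
  have h1 : n.natAbs + 1 ≤ (n.natAbs + 1) * d := Nat.le_mul_of_pos_right _ hd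
  have h2 : ((n.natAbs + 1 : ℕ) : ℤ) ≤ (((n.natAbs + 1) * d : ℕ) : ℤ) := by exact_mod_cast h1
  omega

/-- Sections over `D₊(h)` are fractions `a / h ^ K`. -/
theorem exists_eq_mk {h : A} (hd : 0 < d) (hh : h ∈ 𝒜 d) {U : Opens (ProjectiveSpectrum.top 𝒜)}
    (hU : ∀ x, x ∈ U ↔ h ∉ x.asHomogeneousIdeal) (s : Twist.sectN (𝒜 := 𝒜) n (op U)) :
    ∃ (K m : ℕ) (a : A), a ∈ 𝒜 m ∧ (m : ℤ) = (K * d : ℕ) + n ∧
      ∀ x : U, (s.1 x).1 = Localization.mk a ⟨h ^ K, notMem_pow 𝒜 ((hU x.1).1 x.2) K⟩ := by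
  classical
  -- normalised local forms
  have loc : ∀ x : U, ∃ (H b : A) (e i : ℕ), H ∈ 𝒜 e ∧ b ∈ 𝒜 i ∧ (i : ℤ) = e + n ∧ 0 < e ∧
      H ∉ x.1.asHomogeneousIdeal ∧ (∀ y : ProjectiveSpectrum 𝒜, H ∉ y.asHomogeneousIdeal →
        ∃ (hy : y ∈ U) (hH : H ∉ y.asHomogeneousIdeal), (s.1 ⟨y, hy⟩).1 = Localization.mk b ⟨H, hH⟩) := by
    intro x
    obtain ⟨V, hxV, iV, i, j, a, t, nin, hdeg, hw⟩ := s.2 x
    obtain ⟨_, ⟨g, rfl⟩, hxg, hgV⟩ :=
      (ProjectiveSpectrum.isTopologicalBasis_basic_opens 𝒜).exists_subset_of_mem_open hxV V.2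
    obtain ⟨k, hgk⟩ : ∃ k, GradedRing.proj 𝒜 k g ∉ x.1.asHomogeneousIdeal := by
      by_contra hc
      push Not at hc
      exact (ProjectiveSpectrum.mem_basicOpen 𝒜 g x.1).1 hxg
        (by rw [← DirectSum.sum_support_decompose 𝒜 g]; exact Ideal.sum_mem _ fun l _ => hc l)
    have hgV' : ∀ y : ProjectiveSpectrum 𝒜, GradedRing.proj 𝒜 k g ∉ y.asHomogeneousIdeal → y ∈ V := by
      intro y hy
      refine hgV ((ProjectiveSpectrum.mem_basicOpen 𝒜 g y).2 fun hg => hy ?_)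
      exact y.asHomogeneousIdeal.isHomogeneous k hg
    let g' := GradedRing.proj 𝒜 k g
    have hg' : g' ∈ 𝒜 k := SetLike.coe_mem _
    have hxh : h ∉ x.1.asHomogeneousIdeal := (hU x.1).1 x.2
    have split : ∀ {y : ProjectiveSpectrum 𝒜} {p q : A}, p * q ∉ y.asHomogeneousIdeal →
        p ∉ y.asHomogeneousIdeal ∧ q ∉ y.asHomogeneousIdeal := fun {y p q} hpq =>
      ⟨fun hp => hpq (y.asHomogeneousIdeal.toIdeal.mul_mem_right _ hp),
        fun hq => hpq (y.asHomogeneousIdeal.toIdeal.mul_mem_left _ hq)⟩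
    have hE : t.1 * (g' * h) ∈ 𝒜 (j + (k + d)) :=
      SetLike.mul_mem_graded t.2 (SetLike.mul_mem_graded hg' hh)
    have hxE : t.1 * (g' * h) ∉ x.1.asHomogeneousIdeal :=
      notMem_mul 𝒜 (nin ⟨x.1, hxV⟩) (notMem_mul 𝒜 hgk hxh)
    by_cases ha : a.1 = 0
    · obtain ⟨P, hP, hPn⟩ := exists_pow_degree (d := j + (k + d)) (by omega) n
      refine ⟨(t.1 * (g' * h)) ^ P, 0, P * (j + (k + d)),
        (((P * (j + (k + d)) : ℕ) : ℤ) + n).toNat,
        by simpa using SetLike.pow_mem_graded P hE, zero_mem _, Int.toNat_of_nonneg hPn,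
        Nat.mul_pos hP (by omega), notMem_pow 𝒜 hxE P, fun y hy => ?_⟩
      have hy0 : t.1 * (g' * h) ∉ y.asHomogeneousIdeal := fun he =>
        hy (y.asHomogeneousIdeal.toIdeal.pow_mem_of_mem he P hP)
      have hyV : y ∈ V := hgV' y (split (split hy0).2).1
      refine ⟨(iV ⟨y, hyV⟩).2, hy, (hw ⟨y, hyV⟩).trans ?_⟩
      rw [ha, Localization.mk_zero, Localization.mk_zero]
    · have hdeg' : (i : ℤ) = j + n := hdeg.resolve_right ha
      refine ⟨t.1 * (g' * h), a.1 * (g' * h), j + (k + d), i + (k + d), hE,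
        SetLike.mul_mem_graded a.2 (SetLike.mul_mem_graded hg' hh), by push_cast; omega, by omega, hxE,
        fun y hy => ?_⟩
      have hyV : y ∈ V := hgV' y (split (split hy).2).1
      refine ⟨(iV ⟨y, hyV⟩).2, hy, (hw ⟨y, hyV⟩).trans ?_⟩
      rw [Localization.mk_eq_mk_iff, Localization.r_iff_exists]
      exact ⟨1, by simp only [OneMemClass.coe_one, one_mul]; ring⟩
  choose H b e i hH hb hdeg he hxH hval using loc
  -- finitely many of them
  have hcomp : IsCompact (U : Set (ProjectiveSpectrum.top 𝒜)) := by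
    have : (U : Set (ProjectiveSpectrum.top 𝒜)) = (Proj.basicOpen 𝒜 h : Set (Proj 𝒜)) :=
      Set.ext fun x => (hU x).trans (Proj.mem_basicOpen _ _ _).symm
    rw [this]
    exact (Proj.isAffineOpen_basicOpen 𝒜 h hh hd).isCompact
  obtain ⟨T, hT⟩ := hcomp.elim_finite_subcover
    (fun x : U => SetLike.coe (A := Opens (ProjectiveSpectrum.top 𝒜)) (ProjectiveSpectrum.basicOpen 𝒜 (H x)))
    (fun x => (ProjectiveSpectrum.basicOpen 𝒜 (H x)).2)
    (fun x hx => Set.mem_iUnion.2 ⟨⟨x, hx⟩, (ProjectiveSpectrum.mem_basicOpen 𝒜 _ _).2 (hxH ⟨x, hx⟩)⟩)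
  -- exact cross equalities
  have hex : ∃ M : ℕ, ∀ p q : T, (H p * H q) ^ M * (b p * H q) = (H p * H q) ^ M * (b q * H p) := by
    have hpq : ∀ p q : T, ∃ k : ℕ, (H p * H q) ^ k * (b p * H q) = (H p * H q) ^ k * (b q * H p) := by
      intro p q
      have hne : ∀ y : ProjectiveSpectrum 𝒜, H p * H q ∉ y.asHomogeneousIdeal →
          H p ∉ y.asHomogeneousIdeal ∧ H q ∉ y.asHomogeneousIdeal := fun y hy =>
        ⟨fun h' => hy (y.asHomogeneousIdeal.toIdeal.mul_mem_right _ h'),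
          fun h' => hy (y.asHomogeneousIdeal.toIdeal.mul_mem_left _ h')⟩
      refine exists_pow_mul_eq_of_forall_mk_eq 𝒜 (d := e p + e q) (e := i p + e q)
        (Nat.add_pos_left (he p) _) (SetLike.mul_mem_graded (hH p) (hH q))
        (SetLike.mul_mem_graded (hb p) (hH q)) ?_ (fun y hy => (hne y hy).1) (fun y hy => (hne y hy).2)
        fun y hy => ?_
      · have h1 := hdeg p
        have h2 := hdeg q
        rw [show i p + e q = i q + e p by omega]
        exact SetLike.mul_mem_graded (hb q) (hH p)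
      · obtain ⟨_, _, e1⟩ := hval p y (hne y hy).1
        obtain ⟨_, _, e2⟩ := hval q y (hne y hy).2
        exact e1.symm.trans e2
    choose k hk using hpq
    refine ⟨Finset.univ.sup fun pq : T × T => k pq.1 pq.2, fun p q => ?_⟩
    obtain ⟨c, hc⟩ := Nat.exists_eq_add_of_le
      (Finset.le_sup (f := fun pq : T × T => k pq.1 pq.2) (Finset.mem_univ (p, q)))
    rw [hc, pow_add, mul_right_comm, hk p q, mul_right_comm]
  obtain ⟨M, hM⟩ := hex
  let H' : T → A := fun p => H p ^ (M + 1)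
  let b' : T → A := fun p => b p * H p ^ M
  have hcross : ∀ p q, b' p * H' q = b' q * H' p := fun p q => by
    have := hM p q
    simp only [b', H', mul_pow] at this ⊢
    linear_combination this
  have hH' : ∀ p : T, H' p ∈ 𝒜 ((M + 1) • e p) := fun p => SetLike.pow_mem_graded _ (hH p)
  have hb' : ∀ p : T, b' p ∈ 𝒜 (i p + M • e p) := fun p =>
    SetLike.mul_mem_graded (hb p) (SetLike.pow_mem_graded _ (hH p))
  have hcov : ∀ y : ProjectiveSpectrum 𝒜, h ∉ y.asHomogeneousIdeal → ∃ p : T, H' p ∉ y.asHomogeneousIdeal := by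
    intro y hy
    obtain ⟨p, hpT, hp⟩ := Set.mem_iUnion₂.1 (hT ((hU y).2 hy))
    exact ⟨⟨p, hpT⟩, notMem_pow 𝒜 ((ProjectiveSpectrum.mem_basicOpen 𝒜 _ _).1 hp) _⟩
  obtain ⟨K₀, hK₀⟩ := mem_radical_span 𝒜 H' _ hH' hd hh hcov
  obtain ⟨P, -, hPn⟩ := exists_pow_degree hd n
  let K := K₀ + P
  have hK : h ^ K ∈ Ideal.span (Set.range H') := by
    rw [pow_add]; exact Ideal.mul_mem_right _ _ hK₀
  obtain ⟨c, hc⟩ := Ideal.mem_span_range_iff_exists_fun.1 hK
  let m := (((K * d : ℕ) : ℤ) + n).toNat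
  have hm : (m : ℤ) = (K * d : ℕ) + n := Int.toNat_of_nonneg (by
    have : (P * d : ℕ) ≤ K * d := Nat.mul_le_mul_right _ (Nat.le_add_left _ _)
    have : ((P * d : ℕ) : ℤ) ≤ ((K * d : ℕ) : ℤ) := by exact_mod_cast this
    omega)
  let a : A := (DirectSum.decompose 𝒜 (∑ p, c p * b' p) m : 𝒜 m)
  have key : ∀ q, a * H' q = h ^ K * b' q := by
    intro q
    have e1 : (∑ p, c p * b' p) * H' q = h ^ K * b' q := by
      rw [← hc, Finset.sum_mul, Finset.sum_mul]
      refine Finset.sum_congr rfl fun p _ => ?_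
      rw [mul_assoc, hcross p q]; ring
    have hdegq : K • d + (i q + M • e q) = m + (M + 1) • e q := by
      have := hdeg q
      simp only [smul_eq_mul, add_mul, one_mul]
      omega
    calc a * H' q = ((DirectSum.decompose 𝒜 ((∑ p, c p * b' p) * H' q) (m + (M + 1) • e q) :
          𝒜 (m + (M + 1) • e q)) : A) := (DirectSum.coe_decompose_mul_add_of_right_mem 𝒜 (hH' q)).symm
      _ = h ^ K * b' q := by
        rw [e1]
        exact DirectSum.decompose_of_mem_same 𝒜 (hdegq ▸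
          SetLike.mul_mem_graded (SetLike.pow_mem_graded K hh) (hb' q))
  refine ⟨K, m, a, SetLike.coe_mem _, hm, fun x => ?_⟩
  obtain ⟨q, hq⟩ := hcov x.1 ((hU x.1).1 x.2)
  have hq' : H q ∉ x.1.asHomogeneousIdeal := fun h' =>
    hq (x.1.asHomogeneousIdeal.toIdeal.pow_mem_of_mem h' _ (Nat.succ_pos _))
  obtain ⟨_, _, e1⟩ := hval q x.1 hq'
  refine e1.trans ?_
  rw [Localization.mk_eq_mk_iff, Localization.r_iff_exists]
  refine ⟨⟨H q ^ M, notMem_pow 𝒜 hq' M⟩, ?_⟩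
  have := key q
  simp only [b', H', pow_succ] at this
  linear_combination -this

section Chart

variable {f : A} (hd : 0 < d) (hf : f ∈ 𝒜 d)

lemma awayToSection_topIso :
    Proj.awayToSection 𝒜 f ≫ (Proj.basicOpen 𝒜 f).topIso.inv ≫
      (Proj.basicOpenIsoSpec 𝒜 f hf hd).inv.appTop = (Scheme.ΓSpecIso _).inv := by
  have h : (Proj.basicOpenIsoSpec 𝒜 f hf hd).hom.appTop = (Scheme.ΓSpecIso _).hom ≫
      Proj.awayToSection 𝒜 f ≫ (Proj.basicOpen 𝒜 f).topIso.inv := by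
    rw [Proj.basicOpenIsoSpec_hom]; exact Proj.basicOpenToSpec_app_top 𝒜 f
  rw [← Category.assoc, ← (Iso.inv_comp_eq _).2 h, Category.assoc, ← Scheme.Hom.comp_appTop,
    Iso.inv_hom_id, Scheme.Hom.id_appTop]
  exact Category.comp_id _

lemma image_le (U : (Spec (.of (HomogeneousLocalization.Away 𝒜 f))).Opens) :
    Proj.awayι 𝒜 f hf hd ''ᵁ U ≤ Proj.basicOpen 𝒜 f :=
  (Scheme.Hom.image_le_opensRange _ _).trans_eq (Proj.opensRange_awayι 𝒜 f hf hd)

/-- Scalars of the chart. -/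
lemma appIso_inv_scalar (U : (Spec (.of (HomogeneousLocalization.Away 𝒜 f))).Opens)
    (r : HomogeneousLocalization.Away 𝒜 f) :
    ((Proj.awayι 𝒜 f hf hd).appIso U).inv
      ((Spec (.of (HomogeneousLocalization.Away 𝒜 f))).presheaf.map U.leTop.op
        ((Scheme.ΓSpecIso (.of (HomogeneousLocalization.Away 𝒜 f))).inv r)) =
      (Proj 𝒜).presheaf.map (homOfLE (image_le hd hf U)).op (Proj.awayToSection 𝒜 f r) := by
  have key : Proj.awayToSection 𝒜 f ≫ (Proj 𝒜).presheaf.map (homOfLE (image_le hd hf U)).op ≫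
      ((Proj.awayι 𝒜 f hf hd).appIso U).hom =
      (Scheme.ΓSpecIso (.of (HomogeneousLocalization.Away 𝒜 f))).inv ≫
        (Spec (.of (HomogeneousLocalization.Away 𝒜 f))).presheaf.map U.leTop.op := by
    rw [Scheme.Hom.appIso_hom', Scheme.Hom.map_appLE,
      ← awayToSection_topIso hd hf, Category.assoc, Category.assoc]
    congr 1
    have e1 : (Proj.basicOpen 𝒜 f).topIso.inv =
        (Proj.basicOpen 𝒜 f).ι.appLE (Proj.basicOpen 𝒜 f) ⊤ (fun x _ => x.2) := by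
      rw [Scheme.Opens.ι_appLE, Scheme.Opens.topIso_inv]; rfl
    have e2 : (Proj.basicOpenIsoSpec 𝒜 f hf hd).inv.appTop ≫
        (Spec (.of (HomogeneousLocalization.Away 𝒜 f))).presheaf.map U.leTop.op =
        (Proj.basicOpenIsoSpec 𝒜 f hf hd).inv.appLE ⊤ U le_top := rfl
    rw [e1, e2, Scheme.Hom.appLE_comp_appLE]
    rfl
  have := congrArg (fun φ : CommRingCat.of (HomogeneousLocalization.Away 𝒜 f) ⟶
    Γ(Spec (.of (HomogeneousLocalization.Away 𝒜 f)), U) => ((Proj.awayι 𝒜 f hf hd).appIso U).inv (φ r)) key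
  refine this.symm.trans ?_
  exact Iso.hom_inv_id_apply ((Proj.awayι 𝒜 f hf hd).appIso U) _

/-- An element of the chart ring, typed in `CommRingCat`. -/
noncomputable abbrev sc (k : ℕ) (a : A) (ha : a ∈ 𝒜 (k • d)) :
    (CommRingCat.of (HomogeneousLocalization.Away 𝒜 f) : CommRingCat) :=
  HomogeneousLocalization.Away.mk 𝒜 hf k a ha

variable (n)

/-- `O(n)` on a chart. -/
noncomputable abbrev chartMod : (Spec (.of (HomogeneousLocalization.Away 𝒜 f))).Modules :=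
  (Twist.twist 𝒜 n).restrict (Proj.awayι 𝒜 f hf hd)

/-- The module structure on sections over an affine scheme. -/
noncomputable abbrev specModule {S : CommRingCat.{u}} (M : (Spec S).Modules) (U : (Spec S).Opens) :
    Module S Γ(M, U) := inferInstance

noncomputable instance chartModule (U : (Spec (.of (HomogeneousLocalization.Away 𝒜 f))).Opens) :
    Module (HomogeneousLocalization.Away 𝒜 f) Γ(chartMod n hd hf, U) :=
  specModule (S := .of (HomogeneousLocalization.Away 𝒜 f)) _ U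

/-- A section on the chart, as a function. -/
noncomputable def toFun' {U : (Spec (.of (HomogeneousLocalization.Away 𝒜 f))).Opens}
    (s : Γ(chartMod n hd hf, U)) :
    Twist.sectN (𝒜 := 𝒜) n (op (Proj.awayι 𝒜 f hf hd ''ᵁ U)) := s

lemma smul_val {U : (Spec (.of (HomogeneousLocalization.Away 𝒜 f))).Opens} (k : ℕ) (a : A)
    (ha : a ∈ 𝒜 (k • d)) (s : Γ(chartMod n hd hf, U))
    (x : (Proj.awayι 𝒜 f hf hd ''ᵁ U : Opens (ProjectiveSpectrum.top 𝒜))) :
    ((toFun' n hd hf (sc hf k a ha • s)).1 x).1 =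
      Localization.mk a ⟨f ^ k, notMem_pow 𝒜
        ((Proj.mem_basicOpen _ _ _).1 (image_le hd hf U x.2)) k⟩ * ((toFun' n hd hf s).1 x).1 := by
  have h1 : toFun' n hd hf (sc hf k a ha • s) =
      (show Twist.O (op (Proj.awayι 𝒜 f hf hd ''ᵁ U)) from (Proj 𝒜).presheaf.map
        (homOfLE (image_le hd hf U)).op (Proj.awayToSection 𝒜 f (HomogeneousLocalization.Away.mk 𝒜 hf k a ha))) •
        toFun' n hd hf s := by
    change (show Twist.O (op (Proj.awayι 𝒜 f hf hd ''ᵁ U)) from ((Proj.awayι 𝒜 f hf hd).appIso U).inv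
      ((Spec (.of (HomogeneousLocalization.Away 𝒜 f))).presheaf.map U.leTop.op
        ((Scheme.ΓSpecIso (.of (HomogeneousLocalization.Away 𝒜 f))).inv
          (HomogeneousLocalization.Away.mk 𝒜 hf k a ha)))) • toFun' n hd hf s = _
    rw [appIso_inv_scalar hd hf U]
  rw [h1, Submodule.coe_smul, Twist.smul_apply, Twist.coe_smul_val]
  congr 1

lemma mem_image_basicOpen (k : ℕ) (a : A) (ha : a ∈ 𝒜 (k • d)) (x : ProjectiveSpectrum 𝒜) :
    x ∈ (Proj.awayι 𝒜 f hf hd ''ᵁ PrimeSpectrum.basicOpen (HomogeneousLocalization.Away.mk 𝒜 hf k a ha) :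
      Opens (ProjectiveSpectrum.top 𝒜)) ↔ f * a ∉ x.asHomogeneousIdeal := by
  let g := HomogeneousLocalization.Away.mk 𝒜 hf k a ha
  have e : Proj.awayι 𝒜 f hf hd ''ᵁ PrimeSpectrum.basicOpen g = (Proj 𝒜).basicOpen (Proj.awayToSection 𝒜 f g) := by
    rw [← basicOpen_eq_of_affine (R := .of (HomogeneousLocalization.Away 𝒜 f)) g,
      Scheme.image_basicOpen]
    have h2 := appIso_inv_scalar hd hf ⊤ g
    rw [Subsingleton.elim ((⊤ : (Spec (.of (HomogeneousLocalization.Away 𝒜 f))).Opens).leTop) (𝟙 _)] at h2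
    simp only [op_id, CategoryTheory.Functor.map_id, CommRingCat.id_apply] at h2
    rw [h2, Scheme.basicOpen_res]
    refine inf_eq_right.2 (((Proj 𝒜).basicOpen_le _).trans_eq ?_)
    rw [Scheme.Hom.image_top_eq_opensRange, Proj.opensRange_awayι]
  change x ∈ Proj.awayι 𝒜 f hf hd ''ᵁ PrimeSpectrum.basicOpen g ↔ _
  rw [e]
  constructor
  · intro hx
    have hxf : f ∉ x.asHomogeneousIdeal :=
      (Proj.mem_basicOpen _ _ _).1 ((Proj 𝒜).basicOpen_le _ hx)
    have hu := (Scheme.mem_basicOpen (Proj 𝒜) (Proj.awayToSection 𝒜 f g) x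
      ((Proj.mem_basicOpen _ _ _).2 hxf)).1 hx
    have hu' := hu.map (Proj.stalkIso' 𝒜 x)
    erw [Proj.stalkIso'_germ] at hu'
    have hu'' := hu'.map (algebraMap (Twist.A0 𝒜 x) (Twist.Loc 𝒜 x))
    rw [HomogeneousLocalization.algebraMap_apply] at hu''
    erw [ProjectiveSpectrum.Proj.awayToSection_apply 𝒜 f g ⟨x, (Proj.mem_basicOpen _ _ _).2 hxf⟩] at hu''
    rw [HomogeneousLocalization.Away.val_mk, Localization.mk_eq_mk', IsLocalization.map_mk'] at hu''
    refine notMem_mul 𝒜 hxf fun hax => ?_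
    exact ((IsLocalization.AtPrime.isUnit_mk'_iff (S := Twist.Loc 𝒜 x) x.asHomogeneousIdeal.toIdeal _ _).1 hu'') hax
  · intro hx
    have hxf : f ∉ x.asHomogeneousIdeal := fun h => hx (x.asHomogeneousIdeal.toIdeal.mul_mem_right _ h)
    have hxa : a ∉ x.asHomogeneousIdeal := fun h => hx (x.asHomogeneousIdeal.toIdeal.mul_mem_left _ h)
    refine (Scheme.mem_basicOpen (Proj 𝒜) (Proj.awayToSection 𝒜 f g) x
      ((Proj.mem_basicOpen _ _ _).2 hxf)).2 ((MulEquiv.isUnit_map (Proj.stalkIso' 𝒜 x)).1 ?_)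
    erw [Proj.stalkIso'_germ]
    refine (HomogeneousLocalization.isUnit_iff_isUnit_val _ _ _).1 ?_
    erw [ProjectiveSpectrum.Proj.awayToSection_apply 𝒜 f g ⟨x, (Proj.mem_basicOpen _ _ _).2 hxf⟩]
    rw [HomogeneousLocalization.Away.val_mk, Localization.mk_eq_mk', IsLocalization.map_mk']
    exact (IsLocalization.AtPrime.isUnit_mk'_iff (S := Twist.Loc 𝒜 x) x.asHomogeneousIdeal.toIdeal _ _).2 hxa

theorem isLocalizing_chartMod : IsLocalizing (modulesSpecToSheaf.obj (chartMod n hd hf)) := by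
  intro g
  obtain ⟨k, a, ha, rfl⟩ := HomogeneousLocalization.Away.mk_surjective 𝒜 hf g
  let g : (CommRingCat.of (HomogeneousLocalization.Away 𝒜 f) : CommRingCat) := sc hf k a ha
  let D : (Spec (.of (HomogeneousLocalization.Away 𝒜 f))).Opens := PrimeSpectrum.basicOpen g
  have hfa : f * a ∈ 𝒜 (d + k • d) := SetLike.mul_mem_graded hf ha
  have hg : ∀ l : ℕ, a ^ l ∈ 𝒜 ((k * l) • d) := fun l => by
    simpa [mul_comm, mul_left_comm, mul_assoc] using SetLike.pow_mem_graded l ha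
  have hpow : ∀ l : ℕ, g ^ l = sc hf (k * l) (a ^ l) (hg l) := by
    intro l
    refine HomogeneousLocalization.val_injective _ ?_
    erw [HomogeneousLocalization.val_pow, HomogeneousLocalization.Away.val_mk,
      HomogeneousLocalization.Away.val_mk, Localization.mk_pow]
    congr 1
    exact Subtype.ext (pow_mul _ _ _).symm
  refine ⟨fun ⟨y, l, hl⟩ => ?_, fun s => ?_, fun {x y} hxy => ?_⟩
  · subst hl
    rw [map_pow]
    exact ((chartMod n hd hf).isUnit_algebraMap_end_of_le_basicOpen g le_rfl).pow l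
  · let s' : Twist.sectN (𝒜 := 𝒜) n (op (Proj.awayι 𝒜 f hf hd ''ᵁ D)) := s
    obtain ⟨K, m, b, hb, hm, hsb⟩ := exists_eq_mk (Nat.add_pos_left hd _) hfa
      (fun x => mem_image_basicOpen hd hf k a ha x) s'
    -- the global section `b / f^((1+k)K)`
    let W : Opens (ProjectiveSpectrum.top 𝒜) := Proj.awayι 𝒜 f hf hd ''ᵁ ⊤
    have hW : ∀ x : W, f ^ ((1 + k) * K) ∉ x.1.asHomogeneousIdeal := fun x =>
      notMem_pow 𝒜 ((Proj.mem_basicOpen _ _ _).1 (image_le hd hf ⊤ x.2)) _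
    let top : Γ(chartMod n hd hf, ⊤) := gen (⟨b, hb⟩ : 𝒜 m)
      (⟨f ^ ((1 + k) * K), SetLike.pow_mem_graded _ hf⟩ : 𝒜 (((1 + k) * K) • d))
      (show (m : ℤ) = ((((1 + k) * K) • d : ℕ) : ℤ) + n by
        rw [hm]; simp only [smul_eq_mul]; push_cast; ring) W hW
    refine ⟨⟨top, ⟨g ^ K, K, rfl⟩⟩, ?_⟩
    refine sectN_ext (m := n) fun x => ?_
    refine (congrArg (fun r : (CommRingCat.of (HomogeneousLocalization.Away 𝒜 f) : CommRingCat) =>
      ((toFun' n hd hf (r • (show Γ(chartMod n hd hf, D) from s))).1 x).1) (hpow K)).trans ?_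
    rw [smul_val]
    erw [hsb x]
    rw [Localization.mk_mul]
    refine Eq.trans ?_ (rfl : Localization.mk b ⟨f ^ ((1 + k) * K), hW ⟨x.1, ?_⟩⟩ = _)
    · rw [Localization.mk_eq_mk_iff, Localization.r_iff_exists]
      refine ⟨1, ?_⟩
      simp only [Submonoid.coe_mul, OneMemClass.coe_one, one_mul, mul_pow]
      ring
    · exact (Scheme.Hom.image_mono _ le_top) x.2
  · have hdiff : ∀ z : Γ(chartMod n hd hf, ⊤),
        (chartMod n hd hf).presheaf.map (homOfLE (le_top : D ≤ ⊤)).op z = 0 → ∃ l : ℕ, g ^ l • z = 0 := by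
      intro z hz
      let z' : Twist.sectN (𝒜 := 𝒜) n (op (Proj.awayι 𝒜 f hf hd ''ᵁ ⊤)) := z
      obtain ⟨K, m, b, hb, hm, hzb⟩ := exists_eq_mk hd hf (U := Proj.awayι 𝒜 f hf hd ''ᵁ ⊤)
        (fun x => by
          change x ∈ Proj.awayι 𝒜 f hf hd ''ᵁ ⊤ ↔ _
          rw [Scheme.Hom.image_top_eq_opensRange, Proj.opensRange_awayι]
          exact Proj.mem_basicOpen _ _ _) z'
      obtain ⟨l, hl⟩ := exists_pow_mul_eq_zero 𝒜 (Nat.add_pos_left hd _) hb hfa fun x hx => by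
        have hxD : x ∈ (Proj.awayι 𝒜 f hf hd ''ᵁ D : Opens (ProjectiveSpectrum.top 𝒜)) :=
          (mem_image_basicOpen hd hf k a ha x).2 hx
        have h1 := congrArg (fun w : Twist.sectN (𝒜 := 𝒜) n (op (Proj.awayι 𝒜 f hf hd ''ᵁ D)) =>
          (w.1 ⟨x, hxD⟩).1) hz
        have h2 : Localization.mk b _ = (0 : Twist.Loc 𝒜 x) :=
          (hzb ⟨x, Scheme.Hom.image_mono _ le_top hxD⟩).symm.trans h1
        rw [← Localization.mk_zero 1, Localization.mk_eq_mk_iff, Localization.r_iff_exists] at h2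
        obtain ⟨c, hc⟩ := h2
        exact ⟨c.1, c.2, by simpa using hc⟩
      refine ⟨l, sectN_ext (m := n) fun x => ?_⟩
      refine ((congrArg (fun r : (CommRingCat.of (HomogeneousLocalization.Away 𝒜 f) : CommRingCat) =>
        ((toFun' n hd hf (r • z)).1 x).1) (hpow l)).trans ?_ : _ = (0 : Twist.Loc 𝒜 x.1))
      rw [smul_val]
      erw [hzb x]
      rw [Localization.mk_mul, ← Localization.mk_zero 1, Localization.mk_eq_mk_iff, Localization.r_iff_exists]
      refine ⟨⟨f ^ l, notMem_pow 𝒜 ((Proj.mem_basicOpen _ _ _).1 (image_le hd hf ⊤ x.2)) l⟩, ?_⟩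
      simp only [OneMemClass.coe_one, one_mul, mul_zero]
      rw [← hl, mul_pow]; ring
    obtain ⟨l, hl⟩ := hdiff ((show Γ(chartMod n hd hf, ⊤) from x) - (show Γ(chartMod n hd hf, ⊤) from y)) (by
      rw [map_sub, sub_eq_zero]; exact hxy)
    exact ⟨⟨g ^ l, l, rfl⟩, sub_eq_zero.1 ((smul_sub _ _ _).symm.trans hl)⟩

end Chart

variable (𝒜 n) in
/-- `O(n)` is quasi-coherent. -/
theorem isQCoh_twist : Coh.IsQCoh (Twist.twist 𝒜 n) := by
  classical
  refine Groth.L00.Local.isQCoh_of_tilde_charts _ fun x => ?_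
  obtain ⟨i, g, hi, hgx⟩ : ∃ (i : ℕ) (g : A), 0 < i ∧ GradedRing.proj 𝒜 i g ∉ x.asHomogeneousIdeal := by
    obtain ⟨g, hg, hgx⟩ := SetLike.not_le_iff_exists.1 x.not_irrelevant_le
    by_contra hc
    push Not at hc
    refine hgx ?_
    rw [← DirectSum.sum_support_decompose 𝒜 g]
    refine Ideal.sum_mem _ fun i _ => ?_
    rcases Nat.eq_zero_or_pos i with rfl | hpos
    · rw [show ((DirectSum.decompose 𝒜 g 0 : 𝒜 0) : A) = 0 from (HomogeneousIdeal.mem_irrelevant_iff _ _).1 hg]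
      exact zero_mem _
    · exact hc i g hpos
  let f := GradedRing.proj 𝒜 i g
  have hf : f ∈ 𝒜 i := SetLike.coe_mem _
  haveI := (isIso_fromTildeΓ_iff_isLocalizing (chartMod n hi hf)).2 (isLocalizing_chartMod n hi hf)
  refine ⟨.of (HomogeneousLocalization.Away 𝒜 f), Proj.awayι 𝒜 f hf hi, inferInstance, _, ?_,
    ⟨(asIso (Scheme.Modules.fromTildeΓ (R := .of (HomogeneousLocalization.Away 𝒜 f)) (chartMod n hi hf))).symm⟩⟩
  rw [Proj.opensRange_awayι]
  exact (Proj.mem_basicOpen _ _ _).2 hgx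

end Groth.L16.ProjTwist
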