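import Groth.Agent.L16.EpiFrames
import Groth.Agent.L16.ProjSpace.TwistQCoh
import Groth.Agent.L16.ProjSpace.Ample

/-!
Coherent modules on `Proj` are quotients of sums of negative twists (F9).
-/

universe u

open CategoryTheory CategoryTheory.Limits AlgebraicGeometry TopologicalSpace Opposite

namespace Groth.L16.ProjTwist

open Groth.L18.Frame (rs ro)

variable {R A : Type u} [CommRing R] [CommRing A] [Algebra R A] (𝒜 : ℕ → Submodule R A)
  [GradedAlgebra 𝒜] {d : ℕ}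

/-- The regular function `g / f` on `D₊(f)`. -/
noncomputable def ratio (g f : 𝒜 d) : Γ(Proj 𝒜, Proj.basicOpen 𝒜 f.1) :=
  Proj.awayToSection 𝒜 f.1 (HomogeneousLocalization.Away.mk 𝒜 f.2 1 g.1 (by simp))

lemma ratio_val (g f : 𝒜 d) (W : Opens (ProjectiveSpectrum.top 𝒜))
    (h : (W : (Proj 𝒜).Opens) ≤ Proj.basicOpen 𝒜 f.1) (x : W) :
    ((show Twist.O (𝒜 := 𝒜) (op W) from ro (X := Proj 𝒜) h (ratio 𝒜 g f)).1 x).val =
      Localization.mk g.1 ⟨f.1 ^ 1, notMem_pow 𝒜 ((Proj.mem_basicOpen _ _ _).1 (h x.2)) 1⟩ := by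
  refine Eq.trans (ProjectiveSpectrum.Proj.awayToSection_apply 𝒜 f.1
    (HomogeneousLocalization.Away.mk 𝒜 f.2 1 g.1 (by simp))
    ⟨x.1, (Proj.mem_basicOpen _ _ _).2 ((Proj.mem_basicOpen _ _ _).1 (h x.2))⟩) ?_
  rw [HomogeneousLocalization.Away.val_mk, Localization.mk_eq_mk', IsLocalization.map_mk',
    Localization.mk_eq_mk']
  rfl

lemma basicOpen_ratio (hd : 0 < d) (g f : 𝒜 d) :
    (Proj 𝒜).basicOpen (ratio 𝒜 g f) = Proj.basicOpen 𝒜 f.1 ⊓ Proj.basicOpen 𝒜 g.1 := by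
  let r : HomogeneousLocalization.Away 𝒜 f.1 :=
    HomogeneousLocalization.Away.mk 𝒜 f.2 1 g.1 (by simp)
  have e : Proj.awayι 𝒜 f.1 f.2 hd ''ᵁ PrimeSpectrum.basicOpen r = (Proj 𝒜).basicOpen (ratio 𝒜 g f) := by
    rw [← basicOpen_eq_of_affine (R := .of (HomogeneousLocalization.Away 𝒜 f.1)) r,
      Scheme.image_basicOpen]
    have h2 := appIso_inv_scalar hd f.2 ⊤ r
    rw [Subsingleton.elim ((⊤ : (Spec (.of (HomogeneousLocalization.Away 𝒜 f.1))).Opens).leTop) (𝟙 _)] at h2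
    simp only [op_id, CategoryTheory.Functor.map_id, CommRingCat.id_apply] at h2
    rw [h2, Scheme.basicOpen_res]
    refine inf_eq_right.2 (((Proj 𝒜).basicOpen_le _).trans_eq ?_)
    rw [Scheme.Hom.image_top_eq_opensRange, Proj.opensRange_awayι]
  rw [← e, ← Proj.basicOpen_mul]
  exact Opens.ext (Set.ext fun x =>
    (mem_image_basicOpen hd f.2 1 g.1 (by simp) x).trans (Proj.mem_basicOpen _ _ _).symm)

variable {ι : Type u} (F : ι → 𝒜 d)

/-- The frame `1 / f ^ N` of `O(-N d)` on `D₊(f)`. -/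
noncomputable def negFrame (N : ℕ) (f : 𝒜 d) :
    Γ(Twist.twist 𝒜 (-((N * d : ℕ) : ℤ)), Proj.basicOpen 𝒜 f.1) :=
  gen (⟨1, SetLike.GradedOne.one_mem⟩ : 𝒜 0)
    (⟨f.1 ^ N, SetLike.pow_mem_graded N f.2⟩ : 𝒜 (N • d))
    (show ((0 : ℕ) : ℤ) = ((N • d : ℕ) : ℤ) + -((N * d : ℕ) : ℤ) by rw [smul_eq_mul]; push_cast; ring)
    (Proj.basicOpen 𝒜 f.1 : (Proj 𝒜).Opens)
    (fun x => notMem_pow 𝒜 ((Proj.mem_basicOpen _ _ _).1 x.2) N)

lemma isFrame_negFrame (N : ℕ) (f : 𝒜 d) :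
    Groth.L18.Frame.IsFrame (Twist.twist 𝒜 (-((N * d : ℕ) : ℤ))) (Proj.basicOpen 𝒜 f.1) (negFrame 𝒜 N f) := by
  intro V h
  let one : 𝒜 0 := ⟨1, SetLike.GradedOne.one_mem⟩
  have h1 : ∀ x : (V : Opens (ProjectiveSpectrum.top 𝒜)), (one : A) ∉ x.1.asHomogeneousIdeal :=
    fun x hx => x.1.isPrime.ne_top ((Ideal.eq_top_iff_one _).mpr hx)
  have hf : ∀ x : (V : Opens (ProjectiveSpectrum.top 𝒜)), f.1 ^ N ∉ x.1.asHomogeneousIdeal :=
    fun x => notMem_pow 𝒜 ((Proj.mem_basicOpen _ _ _).1 (h x.2)) N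
  have hN : ((0 : ℕ) : ℤ) = ((N • d : ℕ) : ℤ) + -((N * d : ℕ) : ℤ) := by
    rw [smul_eq_mul]; push_cast; ring
  exact ⟨smul_gen_injective one (⟨f.1 ^ N, SetLike.pow_mem_graded N f.2⟩ : 𝒜 (N • d)) hN V hf h1,
    smul_gen_surjective one (⟨f.1 ^ N, SetLike.pow_mem_graded N f.2⟩ : 𝒜 (N • d)) hN V h1 hf⟩

/-- The frames data of the twists. -/
noncomputable def framesData (hd : 0 < d) (h : ∀ x : Proj 𝒜, ∃ i, x ∈ Proj.basicOpen 𝒜 (F i).1) :
    EpiFrames.Data (Proj 𝒜) ι where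
  U i := Proj.basicOpen 𝒜 (F i).1
  isAffine i := Proj.isAffineOpen_basicOpen 𝒜 _ (F i).2 hd
  isAffine_inf i j := by
    rw [← Proj.basicOpen_mul]
    exact Proj.isAffineOpen_basicOpen 𝒜 _ (SetLike.mul_mem_graded (F i).2 (F j).2) (Nat.add_pos_left hd _)
  cover := h
  a k j := ratio 𝒜 (F k) (F j)
  basicOpen_eq k j := basicOpen_ratio 𝒜 hd (F k) (F j)
  a_self i := by
    refine Subtype.ext (funext fun x => HomogeneousLocalization.val_injective _ ?_)
    have hx := ratio_val 𝒜 (F i) (F i) (Proj.basicOpen 𝒜 (F i).1 : (Proj 𝒜).Opens) le_rfl x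
    rw [Groth.L18.Frame.ro_self] at hx
    refine hx.trans (Eq.trans ?_ (HomogeneousLocalization.val_one (𝒜 := 𝒜)).symm)
    rw [← Localization.mk_one, Localization.mk_eq_mk_iff, Localization.r_iff_exists]
    exact ⟨1, by simp⟩
  cocycle k i j W hi hj := by
    refine Subtype.ext (funext fun x => HomogeneousLocalization.val_injective _ ?_)
    refine (HomogeneousLocalization.val_mul _ _).trans ?_
    erw [ratio_val 𝒜 (F k) (F i) W hi x, ratio_val 𝒜 (F i) (F j) W hj x, ratio_val 𝒜 (F k) (F j) W hj x]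
    rw [Localization.mk_mul, Localization.mk_eq_mk_iff, Localization.r_iff_exists]
    exact ⟨1, by simp; ring⟩
  L N := Twist.twist 𝒜 (-((N * d : ℕ) : ℤ))
  e N i := negFrame 𝒜 N (F i)
  isFrame N i := isFrame_negFrame 𝒜 N (F i)
  rel N i j W hi hj := by
    refine Subtype.ext (funext fun x => Subtype.ext ?_)
    refine Eq.trans ?_ (Twist.coe_smul_val _ x.1
      (((show Twist.O (𝒜 := 𝒜) (op (W : Opens (ProjectiveSpectrum.top 𝒜))) from
        ro (X := Proj 𝒜) hi (ratio 𝒜 (F j) (F i)) ^ N)).1 x) _).symm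
    have hxi := notMem_pow 𝒜 ((Proj.mem_basicOpen _ _ _).1 (hi x.2)) N
    have hxj := notMem_pow 𝒜 ((Proj.mem_basicOpen _ _ _).1 (hj x.2)) N
    change (Localization.mk (1 : A) ⟨(F i).1 ^ N, hxi⟩ : Twist.Loc 𝒜 x.1) = _ *
      Localization.mk (1 : A) ⟨(F j).1 ^ N, hxj⟩
    erw [HomogeneousLocalization.val_pow, ratio_val 𝒜 (F j) (F i) W hi x]
    rw [Localization.mk_pow, Localization.mk_mul, Localization.mk_eq_mk_iff, Localization.r_iff_exists]
    exact ⟨1, by simp⟩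

/-- Quasi-coherent modules of finite type are quotients of sums of `O(-N d)`, `N` large. -/
theorem exists_epi_neg_twists [Finite ι] (hd : 0 < d)
    (h : ∀ x : Proj 𝒜, ∃ i, x ∈ Proj.basicOpen 𝒜 (F i).1) (M : (Proj 𝒜).Modules) [Coh.IsQCoh M]
    (hM : CohB1.IsFT M) :
    ∃ n₀ : ℕ, ∀ N, n₀ ≤ N → ∃ (k : ℕ) (p : (∐ fun _ : Fin k => Twist.twist 𝒜 (-((N * d : ℕ) : ℤ))) ⟶ M),
      Epi p :=
  EpiFrames.exists_epi (framesData 𝒜 F hd h) M hM

/-- Finitely many forms of a common positive degree covering `Proj` of a Noetherian graded ring. -/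
theorem exists_cover_common_degree [IsNoetherianRing A] :
    ∃ (d : ℕ) (_ : 0 < d) (ι : Type u) (_ : Finite ι) (F : ι → 𝒜 d),
      ∀ x : Proj 𝒜, ∃ i, x ∈ Proj.basicOpen 𝒜 (F i).1 := by
  classical
  obtain ⟨s, hs⟩ := (IsNoetherian.noetherian (HomogeneousIdeal.irrelevant 𝒜).toIdeal : Submodule.FG _)
  let S := Σ g : s, (DirectSum.decompose 𝒜 (g : A)).support
  let e : S → ℕ := fun q => q.2.1
  have hepos : ∀ q : S, 0 < e q := by
    intro q
    refine Nat.pos_of_ne_zero fun h0 => ?_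
    have h1 := DFinsupp.mem_support_toFun _ q.2.1 |>.1 q.2.2
    have hg : (q.1 : A) ∈ HomogeneousIdeal.irrelevant 𝒜 :=
      hs.le (Ideal.subset_span (Finset.mem_coe.2 q.1.2))
    have h2 := (HomogeneousIdeal.mem_irrelevant_iff _ _).1 hg
    rw [GradedRing.proj_apply] at h2
    refine h1 (Subtype.ext ?_)
    rw [show q.2.1 = 0 from h0]
    exact h2
  let D := ∏ q : S, e q
  have hD : 0 < D := Finset.prod_pos fun q _ => hepos q
  have hdvd : ∀ q, e q ∣ D := fun q => Finset.dvd_prod_of_mem _ (Finset.mem_univ q)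
  refine ⟨D, hD, S, inferInstance, fun q => ⟨((DirectSum.decompose 𝒜 (q.1 : A) q.2.1 : 𝒜 q.2.1) : A) ^ (D / e q),
    ?_⟩, fun x => ?_⟩
  · have := SetLike.pow_mem_graded (D / e q) (DirectSum.decompose 𝒜 (q.1 : A) q.2.1).2
    rwa [smul_eq_mul, Nat.div_mul_cancel (hdvd q)] at this
  · by_contra hc
    push Not at hc
    refine x.not_irrelevant_le ?_
    change (HomogeneousIdeal.irrelevant 𝒜).toIdeal ≤ x.asHomogeneousIdeal.toIdeal
    rw [← hs, Submodule.span_le]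
    intro g hg
    rw [SetLike.mem_coe, ← DirectSum.sum_support_decompose 𝒜 g]
    refine Ideal.sum_mem _ fun i hi => ?_
    have := hc ⟨⟨g, hg⟩, i, hi⟩
    rw [Proj.mem_basicOpen, not_not] at this
    exact x.isPrime.mem_of_pow_mem _ this

end Groth.L16.ProjTwist
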