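import Groth.Agent.L16.ProjSpace.FinTwist
import Groth.Agent.L16.ProjSpace.QuotTwist
import Groth.Agent.L16.CohKernel
import Groth.Agent.L16.CohLinear
import Mathlib.RingTheory.Polynomial.Basic

/-!
Finiteness of the cohomology of coherent modules on `ℙⁿ_R`, `R` Noetherian (F9).
-/

universe u

open CategoryTheory CategoryTheory.Limits AlgebraicGeometry

namespace Groth.L16.ProjSpace

variable (n : ℕ) (R : Type u) [CommRing R]

/-- A finite sum of twists is coherent. -/
theorem isCoh_sigma_twist {r : ℕ} (d : Fin r → ℤ) :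
    Coh.IsCoh (∐ fun j => Twist.twistProjSpace n R (d j)) := by
  refine CohKernel.isCoh_of_tilde_charts _ fun x => ?_
  obtain ⟨k, hk⟩ := exists_mem_basicOpen_X n R x
  let S : CommRingCat.{u} := .of (HomogeneousLocalization.Away (CohB1.polyGrading n R) (MvPolynomial.X k))
  let j : Spec S ⟶ CohB1.ProjSpace n R :=
    Proj.awayι (CohB1.polyGrading n R) (MvPolynomial.X k) (X_mem n R k) Nat.one_pos
  haveI : IsOpenImmersion j := inferInstanceAs (IsOpenImmersion
    (Proj.awayι (CohB1.polyGrading n R) (MvPolynomial.X k) (X_mem n R k) Nat.one_pos))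
  have hj : ∀ y, j y ∈ Proj.basicOpen (CohB1.polyGrading n R) (MvPolynomial.X k) := fun y => by
    rw [← Proj.opensRange_awayι (CohB1.polyGrading n R) (MvPolynomial.X k) (X_mem n R k) Nat.one_pos]
    exact ⟨y, rfl⟩
  have he : ∀ l, Nonempty ((Twist.twistProjSpace n R (d l)).restrict j ≅ Coh.structureModule (Spec S)) :=
    fun l => by
    have := ProjTwist.nonempty_restrict_iso_of_mem (CohB1.polyGrading n R) j
      ⟨MvPolynomial.X k, X_mem n R k⟩ hj (d l)
    rwa [Nat.cast_one, mul_one] at this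
  let F : (CohB1.ProjSpace n R).Modules ⥤ (Spec S).Modules := Scheme.Modules.restrictFunctor j
  haveI : PreservesColimitsOfSize.{u, u} F :=
    (Scheme.Modules.restrictAdjunction j).leftAdjoint_preservesColimits
  haveI : PreservesColimitsOfSize.{0, 0} F := preservesColimitsOfSize_shrink.{0, u, 0, u} _
  refine ⟨S, j, inferInstance, ModuleCat.of S (ULift.{u} (Fin r) →₀ S), ?_, inferInstance, ⟨?_⟩⟩
  · exact (Proj.opensRange_awayι (CohB1.polyGrading n R) (MvPolynomial.X k) (X_mem n R k) Nat.one_pos).ge hk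
  · exact PreservesCoproduct.iso F (fun l => Twist.twistProjSpace n R (d l)) ≪≫
      Sigma.mapIso (fun l => (he l).some) ≪≫
      Sigma.whiskerEquiv (g := fun _ : ULift.{u} (Fin r) => Coh.structureModule (Spec S)) Equiv.ulift.symm
        (fun _ => Iso.refl _) ≪≫
      (tildeFinsupp (ULift.{u} (Fin r))).symm

/-- Finiteness of `Hⁱ(ℙⁿ_R, M)`. -/
theorem finite_HH_of_isCoh [IsNoetherianRing R] (M : (CohB1.ProjSpace n R).Modules) (hM : Coh.IsCoh M)
    (i : ℕ) : Module.Finite R (Coh.HH (CohB1.ProjSpace n R) M i) := by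
  obtain ⟨k, hk⟩ : ∃ k, n + 1 ≤ i + k := ⟨n + 1, by omega⟩
  induction k generalizing i M with
  | zero =>
    haveI : Coh.IsQCoh M := hM.1
    haveI := subsingleton_HH_of_lt n R M i (by omega)
    infer_instance
  | succ k ih =>
    haveI : Coh.IsQCoh M := hM.1
    obtain ⟨d, hd, ι, hι, f, hf⟩ := ProjTwist.exists_cover_common_degree (CohB1.polyGrading n R)
    obtain ⟨n₀, h⟩ := @ProjTwist.exists_epi_neg_twists _ _ _ _ _ (CohB1.polyGrading n R) _ d _ f hι hd hf M hM.1 hM.2
    obtain ⟨r, p, hp⟩ := h n₀ le_rfl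
    let E : (CohB1.ProjSpace n R).Modules := ∐ fun _ : Fin r => Twist.twistProjSpace n R (-((n₀ * d : ℕ) : ℤ))
    let S : ShortComplex (CohB1.ProjSpace n R).Modules :=
      ShortComplex.mk (kernel.ι (show E ⟶ M from p)) p (kernel.condition _)
    have hS : S.ShortExact :=
      { exact := ShortComplex.exact_kernel _
        epi_g := hp }
    haveI : Module.Finite R (Coh.HH (CohB1.ProjSpace n R) S.X₂ i) := by
      haveI := fun _ : Fin r => finite_HH_twist n R (-((n₀ * d : ℕ) : ℤ)) i
      exact CohLinear.finite_sigma R (fun _ : Fin r => Twist.twistProjSpace n R (-((n₀ * d : ℕ) : ℤ))) i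
    haveI : Module.Finite R (Coh.HH (CohB1.ProjSpace n R) S.X₁ (i + 1)) :=
      ih _ (CohKernel.isCoh_kernel_cokernel (isCoh_sigma_twist n R _) hM _).1 (i + 1) (by omega)
    exact CohLinear.finite_right R hS i

end Groth.L16.ProjSpace
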