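import Groth.Agent.L16.ProjSpace.PosFrames
import Groth.Agent.L16.ProjSpace.Sections
import Groth.Agent.L16.ProjSpace.Basic

/-!
The coordinates of projective space as sections of `O(1)`.
-/

set_option autoImplicit false
set_option backward.isDefEq.respectTransparency false
set_option backward.isDefEq.respectTransparency.types false

universe u

open CategoryTheory CategoryTheory.Limits AlgebraicGeometry TopologicalSpace Opposite MvPolynomial

noncomputable section

namespace Groth.L16.ProjSpace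

open Groth.L18.Frame (rs ro rs_rs ro_ro rs_smul IsFrame)

variable (n : ℕ) (R : Type u) [CommRing R]

local notation "𝔄" => CohB1.polyGrading n R

/-- The `i`-th coordinate, as an element of degree one. -/
def Xd (i : Fin (n + 1)) : 𝔄 1 := ⟨X i, isHomogeneous_X R i⟩

/-- The `i`-th coordinate, as a section of `O(1)`. -/
def xsec (i : Fin (n + 1)) : Γ(Twist.twist 𝔄 ((1 : ℕ) : ℤ), (⊤ : (Proj 𝔄).Opens)) :=
  polyToSection n R 1 (Xd n R i)

/-- The open where the `i`-th coordinate does not vanish. -/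
abbrev dOpen (i : Fin (n + 1)) : (Proj 𝔄).Opens := Proj.basicOpen 𝔄 (Xd n R i).1

theorem rs_xsec (i : Fin (n + 1)) :
    rs (Twist.twist 𝔄 ((1 : ℕ) : ℤ)) (le_top : dOpen n R i ≤ ⊤) (xsec n R i) =
      ProjTwist.posFrame 𝔄 1 (Xd n R i) := by
  refine Subtype.ext (funext fun x => Subtype.ext ?_)
  show Localization.mk (Xd n R i).1 ⟨1, _⟩ = Localization.mk ((Xd n R i).1 ^ 1) ⟨1, _⟩
  simp only [pow_one]

theorem isFrame_xsec (i : Fin (n + 1)) :
    IsFrame (Twist.twist 𝔄 ((1 : ℕ) : ℤ)) (dOpen n R i) (rs _ le_top (xsec n R i)) := by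
  rw [rs_xsec]
  exact ProjTwist.isFrame_posFrame 𝔄 1 (Xd n R i)

/-- Where the `i`-th coordinate is a frame it does not vanish. -/
theorem le_dOpen_of_isFrame {W : (Proj 𝔄).Opens} (i : Fin (n + 1))
    (h : IsFrame (Twist.twist 𝔄 ((1 : ℕ) : ℤ)) W (rs _ le_top (xsec n R i))) : W ≤ dOpen n R i := by
  intro x hx
  obtain ⟨k, hk⟩ := exists_mem_basicOpen_X n R x
  obtain ⟨c, hc⟩ := h.exists_coeff le_rfl (rs _ le_top (xsec n R k))
  rw [rs_rs] at hc
  have h0 := congrArg (fun q : Twist.sectN (𝒜 := 𝔄) ((1 : ℕ) : ℤ) (op W) => (q.1 ⟨x, hx⟩).1) hc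
  have h1 : ((show Twist.O (𝒜 := 𝔄) (op W) from c).1 ⟨x, hx⟩).val *
      Localization.mk (Xd n R i).1 ⟨1, ProjTwist.one_notMem 𝔄 x⟩ =
      (Localization.mk (Xd n R k).1 ⟨1, ProjTwist.one_notMem 𝔄 x⟩ : Twist.Loc 𝔄 x) :=
    (Twist.coe_smul_val _ _ _ _).symm.trans h0
  refine (Proj.mem_basicOpen _ _ _).2 fun hi => (Proj.mem_basicOpen _ _ _).1 hk ?_
  obtain ⟨num, hnum⟩ := HomogeneousLocalization.mk_surjective ((show Twist.O (𝒜 := 𝔄) (op W) from c).1 ⟨x, hx⟩)
  rw [← hnum, HomogeneousLocalization.val_mk, Localization.mk_mul, Localization.mk_eq_mk_iff,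
    Localization.r_iff_exists] at h1
  obtain ⟨u, hu⟩ := h1
  simp only [Submonoid.coe_mul, one_mul, mul_one] at hu
  have : (u : MvPolynomial (Fin (n + 1)) R) * ((num.den : MvPolynomial (Fin (n + 1)) R) * (Xd n R k).1) ∈
      x.asHomogeneousIdeal.toIdeal := by
    rw [← hu]
    exact Ideal.mul_mem_left _ _ (Ideal.mul_mem_left _ _ hi)
  exact ((x.isPrime.mem_or_mem this).resolve_left u.2 |> x.isPrime.mem_or_mem).resolve_left num.den_mem

/-- Coordinates are ratios times coordinates. -/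
theorem rs_xsec_eq (i k : Fin (n + 1)) :
    rs (Twist.twist 𝔄 ((1 : ℕ) : ℤ)) (le_top : dOpen n R i ≤ ⊤) (xsec n R k) =
      ProjTwist.ratio 𝔄 (Xd n R k) (Xd n R i) •
        rs (Twist.twist 𝔄 ((1 : ℕ) : ℤ)) (le_top : dOpen n R i ≤ ⊤) (xsec n R i) := by
  refine Subtype.ext (funext fun x => Subtype.ext ?_)
  refine Eq.trans ?_ (Twist.coe_smul_val _ x.1
    ((show Twist.O (𝒜 := 𝔄) (op (dOpen n R i : Opens (ProjectiveSpectrum.top 𝔄))) from
      ProjTwist.ratio 𝔄 (Xd n R k) (Xd n R i)).1 x) _).symm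
  change (Localization.mk (Xd n R k).1 ⟨1, _⟩ : Twist.Loc 𝔄 x.1) = _ * Localization.mk (Xd n R i).1 ⟨1, _⟩
  have e : ro (X := Proj 𝔄) (le_refl (dOpen n R i)) (ProjTwist.ratio 𝔄 (Xd n R k) (Xd n R i)) =
      ProjTwist.ratio 𝔄 (Xd n R k) (Xd n R i) := Groth.L18.Frame.ro_self _ _
  rw [← e]
  erw [ProjTwist.ratio_val 𝔄 (Xd n R k) (Xd n R i) (dOpen n R i) le_rfl x]
  rw [Localization.mk_mul, Localization.mk_eq_mk_iff, Localization.r_iff_exists]
  exact ⟨1, by simp only [Submonoid.coe_one, Submonoid.coe_mul, one_mul, mul_one, pow_one]; ring⟩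

/-- The ratios in the coordinates of a chart. -/
def cratio (i k : Fin (n + 1)) : MvPolynomial (ChartVar n i) R := if h : k = i then 1 else X ⟨k, h⟩

theorem awayEquiv_symm_mk (i k : Fin (n + 1)) :
    (awayEquiv n R i).symm (HomogeneousLocalization.Away.mk 𝔄 (Xd n R i).2 1 (Xd n R k).1
      (by simpa using (Xd n R k).2)) = cratio n R i k := by
  rw [RingEquiv.symm_apply_eq]
  show _ = toAway n R i (cratio n R i k)
  unfold cratio
  split_ifs with h
  · subst h
    rw [map_one]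
    refine HomogeneousLocalization.val_injective _ ?_
    rw [HomogeneousLocalization.Away.val_mk, HomogeneousLocalization.val_one, ← Localization.mk_one,
      Localization.mk_eq_mk_iff, Localization.r_iff_exists]
    exact ⟨1, by simp [Xd]⟩
  · rw [toAway_X]
    refine HomogeneousLocalization.val_injective _ ?_
    rw [HomogeneousLocalization.Away.val_mk, ratio, HomogeneousLocalization.val_mk, Localization.mk_eq_mk_iff,
      Localization.r_iff_exists]
    exact ⟨1, by simp [Xd]⟩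

theorem chartAway_appLE (i : Fin (n + 1)) (hW : ⊤ ≤ chartAway n R i ⁻¹ᵁ Proj.basicOpen 𝔄 (X i)) :
    Proj.awayToSection 𝔄 (X i) ≫ (chartAway n R i).appLE (Proj.basicOpen 𝔄 (X i)) ⊤ hW =
      (Scheme.ΓSpecIso (CommRingCat.of (AwayX n R i))).inv := by
  let e := Proj.basicOpenIsoSpec 𝔄 (X i : MvPolynomial (Fin (n + 1)) R) (X_mem n R i) one_pos
  have h0 : (e.inv ≫ e.hom).appTop = 𝟙 _ := by rw [e.inv_hom_id]; rfl
  rw [Scheme.Hom.comp_appTop, Proj.basicOpenIsoSpec_hom] at h0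
  rw [show (Proj.basicOpenToSpec 𝔄 (X i : MvPolynomial (Fin (n + 1)) R)).appTop = _ from
    Proj.basicOpenToSpec_app_top 𝔄 (X i : MvPolynomial (Fin (n + 1)) R)] at h0
  rw [Category.assoc, Category.assoc, ← Iso.eq_inv_comp, Category.comp_id] at h0
  refine Eq.trans ?_ h0
  congr 1
  show ((e.inv ≫ (Proj.basicOpen 𝔄 (X i)).ι) : _ ⟶ Proj 𝔄).appLE _ ⊤ hW = _
  rw [← Scheme.Hom.appLE_comp_appLE e.inv (Proj.basicOpen 𝔄 (X i)).ι (Proj.basicOpen 𝔄 (X i)) ⊤ ⊤ (fun x _ => x.2) le_top,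
    Scheme.Opens.ι_appLE, show e.inv.appLE ⊤ ⊤ le_top = e.inv.appTop from (Scheme.Hom.app_eq_appLE _).symm]
  rfl

/-- The ratios on a chart. -/
theorem chart_appLE_ratio (i k : Fin (n + 1)) (hW : ⊤ ≤ chart n R i ⁻¹ᵁ dOpen n R i) :
    (chart n R i).appLE (dOpen n R i) ⊤ hW (ProjTwist.ratio 𝔄 (Xd n R k) (Xd n R i)) =
      (Scheme.ΓSpecIso (CommRingCat.of (MvPolynomial (ChartVar n i) R))).inv (cratio n R i k) := by
  let φ := CommRingCat.ofHom (awayEquiv n R i).symm.toRingHom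
  have h1 : ⊤ ≤ chartAway n R i ⁻¹ᵁ dOpen n R i := fun z _ =>
    (opensRange_chartAway n R i).le ⟨z, rfl⟩
  rw [show (chart n R i).appLE (dOpen n R i) ⊤ hW =
    (chartAway n R i).appLE (dOpen n R i) ⊤ h1 ≫ (Spec.map φ).appLE ⊤ ⊤ le_top from
      (Scheme.Hom.appLE_comp_appLE (Spec.map φ) (chartAway n R i) _ ⊤ ⊤ h1 le_top).symm, CommRingCat.comp_apply,
    show (Spec.map φ).appLE ⊤ ⊤ le_top = (Spec.map φ).appTop from (Scheme.Hom.app_eq_appLE _).symm]
  have e2 := congr($(chartAway_appLE n R i h1)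
    (HomogeneousLocalization.Away.mk 𝔄 (Xd n R i).2 1 (Xd n R k).1 (by simpa using (Xd n R k).2)))
  refine (congrArg ((Spec.map φ).appTop) e2).trans ?_
  refine (congr($(Scheme.ΓSpecIso_inv_naturality φ) (HomogeneousLocalization.Away.mk 𝔄 (Xd n R i).2 1 (Xd n R k).1
    (by simpa using (Xd n R k).2)))).symm.trans ?_
  exact congrArg (Scheme.ΓSpecIso (CommRingCat.of (MvPolynomial (ChartVar n i) R))).inv (awayEquiv_symm_mk n R i k)

end Groth.L16.ProjSpace
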