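import Groth.Agent.L16.ProjSpace.PosFrames
import Groth.Agent.L16.ProjSpace.CohFinite
import Groth.Agent.L16.ProjSpace.TwistMul
import Groth.Agent.L00.TensorQCoh

/-!
Serre vanishing on `ℙⁿ_R`, `R` Noetherian.
-/

universe u

open CategoryTheory CategoryTheory.Limits AlgebraicGeometry

namespace Groth.L16.ProjSpace

variable (n : ℕ) (R : Type u) [CommRing R]

theorem isFlat_twistProjSpace (d : ℕ) : FlatMod.IsFlat (Twist.twistProjSpace n R (d : ℤ)) :=
  FrameIso.isFlat_of_frames
    (fun i : ULift.{u} (Fin (n + 1)) => Proj.basicOpen (CohB1.polyGrading n R) (MvPolynomial.X i.down))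
    (fun i => ProjTwist.posFrame (CohB1.polyGrading n R) d ⟨MvPolynomial.X i.down, X_mem n R i.down⟩)
    (fun i => ProjTwist.isFrame_posFrame (CohB1.polyGrading n R) d ⟨MvPolynomial.X i.down, X_mem n R i.down⟩)
    (fun x => by obtain ⟨i, hi⟩ := exists_mem_basicOpen_X n R x; exact ⟨⟨i⟩, hi⟩)

/-- Cohomology of a finite coproduct vanishes if that of the summands does. -/
theorem subsingleton_sigma {X : Scheme.{u}} {r : ℕ} (M : Fin r → X.Modules) (q : ℕ)
    (h : ∀ j, Subsingleton (Coh.HH X (M j) q)) : Subsingleton (Coh.HH X (∐ M) q) := by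
  classical
  refine subsingleton_of_forall_eq 0 fun x => ?_
  let p : ∀ j, ∐ M ⟶ M j := fun j => Sigma.desc fun i =>
    if h : i = j then eqToHom (congrArg M h) else 0
  have hid : 𝟙 (∐ M) = ∑ j, p j ≫ Sigma.ι M j := by
    refine Sigma.hom_ext _ _ fun i => ?_
    rw [Category.comp_id, Preadditive.comp_sum, Finset.sum_eq_single i]
    · simp [p]
    · intro j _ hj
      simp [p, Ne.symm hj]
    · simp
  rw [← CohLinear.hmap_id q x, hid]
  change Sheaf.H.map (CohLinear.tm (∑ j, p j ≫ Sigma.ι M j)) q x = 0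
  rw [CohLinear.tm, Functor.map_sum, CohLinear.hMap_sum]
  refine Finset.sum_eq_zero fun j _ => ?_
  show CohLinear.hmap (p j ≫ Sigma.ι M j) q x = 0
  rw [CohLinear.hmap_comp, (h j).elim (CohLinear.hmap (p j) q x) 0, map_zero]

theorem subsingleton_of_iso {X : Scheme.{u}} {M N : X.Modules} (e : M ≅ N) (q : ℕ)
    (h : Subsingleton (Coh.HH X N q)) : Subsingleton (Coh.HH X M q) := by
  refine ⟨fun a b => ?_⟩
  rw [← CohLinear.hmap_id q a, ← CohLinear.hmap_id q b, ← e.hom_inv_id, CohLinear.hmap_comp,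
    CohLinear.hmap_comp, h.elim (CohLinear.hmap e.hom q a) (CohLinear.hmap e.hom q b)]

variable [IsNoetherianRing R]

/-- Serre vanishing in one degree. -/
theorem exists_vanishing_aux (M : (CohB1.ProjSpace n R).Modules) (hM : Coh.IsCoh M) (q : ℕ) (hq : 0 < q) :
    ∃ d₀ : ℕ, ∀ d : ℕ, d₀ ≤ d →
      Subsingleton (Coh.HH (CohB1.ProjSpace n R) (CohB1.tensorMod (Twist.twistProjSpace n R (d : ℤ)) M) q) := by
  obtain ⟨k, hk⟩ : ∃ k, n + 1 ≤ q + k := ⟨n + 1, by omega⟩
  induction k generalizing q M with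
  | zero =>
    refine ⟨0, fun d _ => ?_⟩
    haveI : Coh.IsQCoh M := hM.1
    haveI : Coh.IsQCoh (Twist.twistProjSpace n R (d : ℤ)) := ProjTwist.isQCoh_twist (CohB1.polyGrading n R) d
    haveI := Groth.L00.Tensor.isQCoh_tensorMod (Twist.twistProjSpace n R (d : ℤ)) M
    exact subsingleton_HH_of_lt n R _ q (by omega)
  | succ k ih =>
    haveI : Coh.IsQCoh M := hM.1
    obtain ⟨d, hd, ι, hι, f, hf⟩ := ProjTwist.exists_cover_common_degree (CohB1.polyGrading n R)
    obtain ⟨n₀, h⟩ := @ProjTwist.exists_epi_neg_twists _ _ _ _ _ (CohB1.polyGrading n R) _ d _ f hι hd hf M hM.1 hM.2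
    obtain ⟨r, p, hp⟩ := h n₀ le_rfl
    let E : (CohB1.ProjSpace n R).Modules := ∐ fun _ : Fin r => Twist.twistProjSpace n R (-((n₀ * d : ℕ) : ℤ))
    let S : ShortComplex (CohB1.ProjSpace n R).Modules :=
      ShortComplex.mk (kernel.ι (show E ⟶ M from p)) p (kernel.condition _)
    have hS : S.ShortExact :=
      { exact := ShortComplex.exact_kernel _
        epi_g := hp }
    obtain ⟨d₁, h₁⟩ := ih S.X₁ (CohKernel.isCoh_kernel_cokernel (isCoh_sigma_twist n R _) hM _).1 (q + 1)
      (by omega) (by omega)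
    refine ⟨max d₁ (n₀ * d), fun e he => ?_⟩
    let T := (DCoh.tensorBi (X := CohB1.ProjSpace n R)).obj (Twist.twistProjSpace n R (e : ℤ))
    have hT : (S.map T).ShortExact := FrameIso.shortExact_tensor_left (isFlat_twistProjSpace n R e) S hS
    haveI : Subsingleton (Coh.HH (CohB1.ProjSpace n R) (S.map T).X₁ (q + 1)) := h₁ e (le_of_max_le_left he)
    haveI : Subsingleton (Coh.HH (CohB1.ProjSpace n R) (S.map T).X₂ q) := by
      haveI := Groth.L00.Tensor.preservesColimits_tensorLeftF (Twist.twistProjSpace n R (e : ℤ))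
      haveI : PreservesColimitsOfSize.{0, 0} (Groth.L00.Tensor.tensorLeftF (Twist.twistProjSpace n R (e : ℤ))) :=
        preservesColimitsOfSize_shrink.{0, u, 0, u} _
      let Tl := Groth.L00.Tensor.tensorLeftF (Twist.twistProjSpace n R (e : ℤ))
      have h0 : Subsingleton (Coh.HH (CohB1.ProjSpace n R)
          (∐ fun _ : Fin r => CohB1.tensorMod (Twist.twistProjSpace n R (e : ℤ))
            (Twist.twistProjSpace n R (-((n₀ * d : ℕ) : ℤ)))) q) := by
        refine subsingleton_sigma _ q fun _ => ?_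
        obtain ⟨e'⟩ := ProjTwist.nonempty_tensor_twist_iso_one (CohB1.polyGrading n R) (fun x => by
          obtain ⟨i, hi⟩ := exists_mem_basicOpen_X n R x
          exact ⟨⟨_, X_mem n R i⟩, hi⟩) (e : ℤ) (-((n₀ * d : ℕ) : ℤ))
        have hv : Subsingleton (Coh.HH (CohB1.ProjSpace n R)
            (Twist.twistProjSpace n R ((e : ℤ) + -((n₀ * d : ℕ) : ℤ))) q) :=
          subsingleton_HH_twist n R _ q (fun h => by omega) (fun h => by
            have := h.2
            have := le_of_max_le_right he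
            omega)
        exact subsingleton_of_iso e' q hv
      let iso : (S.map T).X₂ ≅ ∐ fun _ : Fin r => CohB1.tensorMod (Twist.twistProjSpace n R (e : ℤ))
            (Twist.twistProjSpace n R (-((n₀ * d : ℕ) : ℤ))) :=
        PreservesCoproduct.iso Tl (fun _ : Fin r => Twist.twistProjSpace n R (-((n₀ * d : ℕ) : ℤ)))
      exact subsingleton_of_iso iso q h0
    refine subsingleton_of_forall_eq 0 fun x => ?_
    obtain ⟨y, hy⟩ := (CohLinear.exact_hmap_delta hT q x).1 (Subsingleton.elim _ _)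
    exact hy.symm.trans ((congrArg _ (Subsingleton.elim y 0)).trans (map_zero _))

/-- **Serre vanishing** on `ℙⁿ_R`. -/
theorem exists_vanishing (M : (CohB1.ProjSpace n R).Modules) (hM : Coh.IsCoh M) :
    ∃ d₀ : ℕ, ∀ d : ℕ, d₀ ≤ d → ∀ q : ℕ, 0 < q →
      Subsingleton (Coh.HH (CohB1.ProjSpace n R) (CohB1.tensorMod (Twist.twistProjSpace n R (d : ℤ)) M) q) := by
  choose f hf using fun j : Fin n => exists_vanishing_aux n R M hM (j.1 + 1) (Nat.succ_pos _)
  refine ⟨Finset.univ.sup f, fun d hd q hq => ?_⟩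
  by_cases hqn : q ≤ n
  · obtain ⟨j, rfl⟩ : ∃ j : Fin n, q = j.1 + 1 := ⟨⟨q - 1, by omega⟩, by simp only; omega⟩
    exact hf j d ((Finset.le_sup (Finset.mem_univ j)).trans hd)
  · haveI : Coh.IsQCoh M := hM.1
    haveI : Coh.IsQCoh (Twist.twistProjSpace n R (d : ℤ)) := ProjTwist.isQCoh_twist (CohB1.polyGrading n R) d
    haveI := Groth.L00.Tensor.isQCoh_tensorMod (Twist.twistProjSpace n R (d : ℤ)) M
    exact subsingleton_HH_of_lt n R _ q (by omega)

end Groth.L16.ProjSpace
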