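import Groth.Agent.L16.ProjSpace.QuotTwist
import Groth.Agent.L16.ProjSpace.BaseChange
import Groth.Agent.L16.FrameIso

/-!
Frames of `O(d)`, `d ≥ 0`, and the pullback of `O(d)` along base change of projective space.
-/

universe u

open CategoryTheory AlgebraicGeometry TopologicalSpace Opposite

namespace Groth.L16.ProjTwist

open Groth.L18.Frame (rs ro rs_rs ro_ro rs_smul)

variable {R A : Type u} [CommRing R] [CommRing A] [Algebra R A] (𝒜 : ℕ → Submodule R A)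
  [GradedAlgebra 𝒜]

/-- The frame `f ^ d` of `O(d)` on `D₊(f)`, `deg f = 1`. -/
noncomputable def posFrame (d : ℕ) (f : 𝒜 1) : Γ(Twist.twist 𝒜 (d : ℤ), Proj.basicOpen 𝒜 f.1) :=
  gen (⟨f.1 ^ d, SetLike.pow_mem_graded d f.2⟩ : 𝒜 (d • 1)) (⟨1, SetLike.GradedOne.one_mem⟩ : 𝒜 0)
    (show ((d • 1 : ℕ) : ℤ) = ((0 : ℕ) : ℤ) + (d : ℤ) by simp)
    (Proj.basicOpen 𝒜 f.1 : (Proj 𝒜).Opens)
    (fun x => one_notMem 𝒜 x.1)

lemma isFrame_posFrame (d : ℕ) (f : 𝒜 1) :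
    Groth.L18.Frame.IsFrame (Twist.twist 𝒜 (d : ℤ)) (Proj.basicOpen 𝒜 f.1) (posFrame 𝒜 d f) := by
  intro V h
  let one : 𝒜 0 := ⟨1, SetLike.GradedOne.one_mem⟩
  have h1 : ∀ x : (V : Opens (ProjectiveSpectrum.top 𝒜)), (one : A) ∉ x.1.asHomogeneousIdeal :=
    fun x => one_notMem 𝒜 x.1
  have hf : ∀ x : (V : Opens (ProjectiveSpectrum.top 𝒜)), f.1 ^ d ∉ x.1.asHomogeneousIdeal :=
    fun x => notMem_pow 𝒜 ((Proj.mem_basicOpen _ _ _).1 (h x.2)) d
  have hN : ((d • 1 : ℕ) : ℤ) = ((0 : ℕ) : ℤ) + (d : ℤ) := by simp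
  exact ⟨smul_gen_injective (⟨f.1 ^ d, SetLike.pow_mem_graded d f.2⟩ : 𝒜 (d • 1)) one hN V h1 hf,
    smul_gen_surjective (⟨f.1 ^ d, SetLike.pow_mem_graded d f.2⟩ : 𝒜 (d • 1)) one hN V hf h1⟩

lemma posFrame_rel (d : ℕ) (f g : 𝒜 1) :
    rs (Twist.twist 𝒜 (d : ℤ)) (inf_le_left : Proj.basicOpen 𝒜 f.1 ⊓ Proj.basicOpen 𝒜 g.1 ≤ _) (posFrame 𝒜 d f) =
      ro (inf_le_right : Proj.basicOpen 𝒜 f.1 ⊓ Proj.basicOpen 𝒜 g.1 ≤ _) (ratio 𝒜 f g) ^ d •
        rs (Twist.twist 𝒜 (d : ℤ)) (inf_le_right : Proj.basicOpen 𝒜 f.1 ⊓ Proj.basicOpen 𝒜 g.1 ≤ _) (posFrame 𝒜 d g) := by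
  refine Subtype.ext (funext fun x => Subtype.ext ?_)
  refine Eq.trans ?_ (Twist.coe_smul_val _ x.1
    (((show Twist.O (𝒜 := 𝒜) (op ((Proj.basicOpen 𝒜 f.1 ⊓ Proj.basicOpen 𝒜 g.1 : (Proj 𝒜).Opens) :
      Opens (ProjectiveSpectrum.top 𝒜))) from
      ro (X := Proj 𝒜) inf_le_right (ratio 𝒜 f g) ^ d)).1 x) _).symm
  have hxg := notMem_pow 𝒜 ((Proj.mem_basicOpen _ _ _).1 x.2.2) d
  change (Localization.mk (f.1 ^ d) ⟨1, one_notMem 𝒜 x.1⟩ : Twist.Loc 𝒜 x.1) = _ *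
    Localization.mk (g.1 ^ d) ⟨1, one_notMem 𝒜 x.1⟩
  erw [HomogeneousLocalization.val_pow, ratio_val 𝒜 f g (Proj.basicOpen 𝒜 f.1 ⊓ Proj.basicOpen 𝒜 g.1) inf_le_right x]
  rw [Localization.mk_pow, Localization.mk_mul, Localization.mk_eq_mk_iff, Localization.r_iff_exists]
  exact ⟨1, by simp; ring⟩

end Groth.L16.ProjTwist

namespace Groth.L16.ProjSpace

open Groth.L18.Frame (rs ro rs_rs ro_ro rs_smul pull pull_rs pull_smul)
open Groth.L16.ProjTwist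

/-- Relations between pulled back sections. -/
theorem pull_rel {X Y : Scheme.{u}} (f : X ⟶ Y) (M : Y.Modules) {U V : Y.Opens} (a : Γ(Y, V)) (d : ℕ)
    (e : Γ(M, U)) (e' : Γ(M, V))
    (h : rs M inf_le_left e = ro (inf_le_right : U ⊓ V ≤ V) a ^ d • rs M inf_le_right e') :
    rs ((Scheme.Modules.pullback f).obj M) (f.preimage_mono (inf_le_left : U ⊓ V ≤ U)) (pull f M U e) =
      ro (f.preimage_mono (inf_le_right : U ⊓ V ≤ V)) (f.app V a) ^ d •
        rs ((Scheme.Modules.pullback f).obj M) (f.preimage_mono (inf_le_right : U ⊓ V ≤ V)) (pull f M V e') := by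
  have hn : f.app (U ⊓ V) (ro (inf_le_right : U ⊓ V ≤ V) a ^ d) =
      ro (f.preimage_mono (inf_le_right : U ⊓ V ≤ V)) (f.app V a) ^ d :=
    (map_pow (f.app (U ⊓ V)).hom _ d).trans (congrArg (· ^ d)
      (ConcreteCategory.congr_hom (f.naturality (homOfLE (inf_le_right : U ⊓ V ≤ V)).op) a))
  rw [pull_rs f M (inf_le_left : U ⊓ V ≤ U), h, pull_smul, pull_rs f M (inf_le_right : U ⊓ V ≤ V), hn]

variable (n : ℕ) {R R' : Type u} [CommRing R] [CommRing R'] (φ : R →+* R')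

theorem app_ratio (g f : CohB1.polyGrading n R 1) :
    (map n φ).app (Proj.basicOpen (CohB1.polyGrading n R) f.1) (ProjTwist.ratio (CohB1.polyGrading n R) g f) =
      ProjTwist.ratio (CohB1.polyGrading n R') ⟨mapGraded n φ g.1, (mapGraded n φ).2 g.2⟩
        ⟨mapGraded n φ f.1, (mapGraded n φ).2 f.2⟩ := by
  have h := ConcreteCategory.congr_hom
    (Proj.awayToSection_comp_appLE (mapGraded n φ) (mapGraded_irrelevant n φ) f.2)
    (HomogeneousLocalization.Away.mk (CohB1.polyGrading n R) f.2 1 g.1 (by simp))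
  refine Eq.trans ?_ (h.trans ?_)
  · exact congrArg (fun k : Γ(CohB1.ProjSpace n R, Proj.basicOpen (CohB1.polyGrading n R) f.1) ⟶
        Γ(CohB1.ProjSpace n R', map n φ ⁻¹ᵁ Proj.basicOpen (CohB1.polyGrading n R) f.1) =>
        k (ProjTwist.ratio (CohB1.polyGrading n R) g f)) (map n φ).app_eq_appLE
  · exact congrArg (Proj.awayToSection (CohB1.polyGrading n R') _) (HomogeneousLocalization.Away.map_mk _ _ _ _ _ _)

/-- `map^* O(d) ≅ O(d)`. -/
theorem nonempty_pullback_twist_iso (d : ℕ) :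
    Nonempty ((Scheme.Modules.pullback (map n φ)).obj (Twist.twistProjSpace n R (d : ℤ)) ≅
      Twist.twistProjSpace n R' (d : ℤ)) := by
  let F : ULift.{u} (Fin (n + 1)) → CohB1.polyGrading n R 1 := fun i => ⟨MvPolynomial.X i.down, X_mem n R i.down⟩
  let F' : ULift.{u} (Fin (n + 1)) → CohB1.polyGrading n R' 1 := fun i =>
    ⟨mapGraded n φ (F i).1, (mapGraded n φ).2 (F i).2⟩
  let g := map n φ
  let L := Twist.twistProjSpace n R (d : ℤ)
  have hcov : ∀ x : CohB1.ProjSpace n R', ∃ i, x ∈ g ⁻¹ᵁ Proj.basicOpen (CohB1.polyGrading n R) (F i).1 :=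
    fun x => by
      obtain ⟨i, hi⟩ := exists_mem_basicOpen_X n R (g x)
      exact ⟨⟨i⟩, hi⟩
  refine FrameIso.nonempty_iso (fun i => g ⁻¹ᵁ Proj.basicOpen (CohB1.polyGrading n R) (F i).1)
    (fun i => pull g L _ (posFrame (CohB1.polyGrading n R) d (F i)))
    (fun i => (isFrame_posFrame (CohB1.polyGrading n R) d (F i)).pullback g L) hcov
    (fun i j => ro inf_le_right (g.app _ (ProjTwist.ratio (CohB1.polyGrading n R) (F i) (F j))) ^ d) (fun i j => ?_)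
    (fun i => posFrame (CohB1.polyGrading n R') d (F' i))
    (fun i => isFrame_posFrame (CohB1.polyGrading n R') d (F' i)) (fun i j => ?_)
  · exact pull_rel g L _ d _ _ (posFrame_rel (CohB1.polyGrading n R) d (F i) (F j))
  · refine (posFrame_rel (CohB1.polyGrading n R') d (F' i) (F' j)).trans (congrArg (· • _) ?_)
    exact congrArg (fun r => ro inf_le_right r ^ d) (app_ratio n φ (F i) (F j)).symm

end Groth.L16.ProjSpace
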