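import Groth.Agent.L16.ProjSpace.TwistQCoh
import Groth.Agent.L16.ProjSpace.AmpleIff
import Groth.Agent.L17.CechComparison
import Groth.Agent.L17.CoverVanishing
import Groth.Agent.L10.CechBasic

/-!
Serre's vanishing for `Hᵠ(ℙⁿ_R, O(d))` through the Čech complex of the standard cover (F9).

A section of `O(d)` over `D₊(X_{a 0} ⋯ X_{a q})` is recorded by the numerator `Q` of its expression
`Q / (X_0 ⋯ X_n)^K`; the Čech complex then splits monomial by monomial.
-/

universe u

open CategoryTheory AlgebraicGeometry TopologicalSpace Opposite MvPolynomial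

namespace Groth.L16.ProjSpace

variable {n : ℕ} {R : Type u} [CommRing R]

local notation "σ" => Fin (n + 1)

/-- The index type of the standard cover. -/
abbrev Ix (n : ℕ) : Type u := ULift.{u} (Fin (n + 1))

/-- Sections of `O(d)` as functions. -/
abbrev SectZ (n : ℕ) (R : Type u) [CommRing R] (d : ℤ)
    (W : Opens (ProjectiveSpectrum.top (CohB1.polyGrading n R))) : Type u :=
  Twist.sectN (𝒜 := CohB1.polyGrading n R) d (op W)

variable (n R) in
/-- The standard cover. -/
noncomputable def stdU : Ix.{u} n → (Proj (CohB1.polyGrading n R)).Opens :=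
  fun i => Proj.basicOpen (CohB1.polyGrading n R) (X i.down)

local notation "𝒜" => CohB1.polyGrading n R

variable (n) in
/-- The exponent of `X_0 ⋯ X_n`. -/
noncomputable def ones : σ →₀ ℕ := Finsupp.equivFunOnFinite.symm fun _ => 1

/-- The exponent of `X_{a 0} ⋯ X_{a q}`. -/
noncomputable def expo {q : ℕ} (a : Fin (q + 1) → Ix.{u} n) : σ →₀ ℕ :=
  ∑ k, Finsupp.single (a k).down 1

lemma ones_apply (i : σ) : ones n i = 1 := rfl

lemma expo_apply_of_notMem {q : ℕ} (a : Fin (q + 1) → Ix.{u} n) {i : σ} (h : ∀ k, (a k).down ≠ i) :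
    expo a i = 0 := by
  rw [expo, Finsupp.finsetSum_apply]
  exact Finset.sum_eq_zero fun k _ => Finsupp.single_eq_of_ne (Ne.symm (h k))

lemma expo_apply_pos {q : ℕ} (a : Fin (q + 1) → Ix.{u} n) {i : σ} (h : ∃ k, (a k).down = i) :
    1 ≤ expo a i := by
  obtain ⟨k, rfl⟩ := h
  rw [expo, Finsupp.finsetSum_apply]
  exact le_trans (by simp) (Finset.single_le_sum (f := fun l => Finsupp.single (a l).down 1 (a k).down)
    (fun _ _ => Nat.zero_le _) (Finset.mem_univ k))

lemma expo_apply_le {q : ℕ} (a : Fin (q + 1) → Ix.{u} n) (i : σ) : expo a i ≤ q + 1 := by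
  rw [expo, Finsupp.finsetSum_apply]
  refine (Finset.sum_le_card_nsmul _ _ 1 fun k _ => ?_).trans (by simp)
  rw [Finsupp.single_apply]; split_ifs <;> simp

lemma degree_ones : (ones n).degree = n + 1 := by
  rw [Finsupp.degree_eq_sum]
  simp [ones_apply]

lemma degree_expo {q : ℕ} (a : Fin (q + 1) → Ix.{u} n) : (expo a).degree = q + 1 := by
  simp [expo, map_sum, Finsupp.degree_single]

variable (R) in
lemma monomial_mem_grading (v : σ →₀ ℕ) : (monomial v (1 : R) : MvPolynomial σ R) ∈ 𝒜 v.degree :=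
  isHomogeneous_monomial _ rfl

lemma monomial_mul_cancel (v : σ →₀ ℕ) {p q : MvPolynomial σ R}
    (h : p * monomial v 1 = q * monomial v 1) : p = q := by
  ext m
  have := congrArg (coeff (m + v)) h
  rwa [coeff_mul_monomial, coeff_mul_monomial, mul_one, mul_one] at this

lemma monomial_pow' (v : σ →₀ ℕ) (K : ℕ) :
    (monomial v (1 : R) : MvPolynomial σ R) ^ K = monomial (K • v) 1 := by
  rw [monomial_pow, one_pow]

lemma monomial_expo {q : ℕ} (a : Fin (q + 1) → Ix.{u} n) :
    (monomial (expo a) (1 : R) : MvPolynomial σ R) = ∏ k, X (a k).down := by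
  rw [expo, monomial_sum_one]
  exact Finset.prod_congr rfl fun k _ => rfl

lemma mem_tup {q : ℕ} (a : Fin (q + 1) → Ix.{u} n) (x : ProjectiveSpectrum 𝒜) :
    x ∈ (Groth.L10.Cech.tup (stdU n R) a : Opens (ProjectiveSpectrum.top 𝒜)) ↔
      (monomial (expo a) (1 : R) : MvPolynomial σ R) ∉ x.asHomogeneousIdeal := by
  have e : (Groth.L10.Cech.tup (stdU n R) a : (Proj 𝒜).Opens) =
      Finset.univ.inf fun k => stdU n R (a k) := by
    rw [Finset.inf_univ_eq_iInf]
    exact Groth.L10.Cech.tup_eq_iInf (X := (Proj 𝒜).toTopCat) _ a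
  have e' : ((Groth.L10.Cech.tup (stdU n R) a : (Proj 𝒜).Opens) : Set (Proj 𝒜)) =
      ⋂ k ∈ (Finset.univ : Finset (Fin (q + 1))), (stdU n R (a k) : Set (Proj 𝒜)) := by
    rw [e, Opens.coe_finset_inf, Finset.inf_set_eq_iInter]
    rfl
  refine (Set.ext_iff.1 e' x).trans ?_
  rw [monomial_expo]
  simp only [Set.mem_iInter, Finset.mem_univ, forall_true_left, SetLike.mem_coe]
  constructor
  · intro h hp
    haveI := x.isPrime
    obtain ⟨k, -, hk⟩ := Ideal.IsPrime.prod_mem_iff.1 hp
    exact (Proj.mem_basicOpen _ _ _).1 (h k) hk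
  · exact fun h k => (Proj.mem_basicOpen _ _ _).2 fun hk =>
      h (Ideal.mem_of_dvd _ (Finset.dvd_prod_of_mem _ (Finset.mem_univ k)) hk)

/-- `s` is the fraction `Q / (X_0 ⋯ X_n) ^ K`. -/
def Rep (K : ℕ) {d : ℤ} {W : Opens (ProjectiveSpectrum.top 𝒜)} (s : SectZ n R d W)
    (Q : MvPolynomial σ R) : Prop :=
  ∀ x : W, (s.1 x).1 * algebraMap (MvPolynomial σ R) (Twist.Loc 𝒜 x.1) (monomial (K • ones n) 1) =
    algebraMap (MvPolynomial σ R) (Twist.Loc 𝒜 x.1) Q

/-- The exponents of `Q` outside `a` are at least `K`. -/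
def Supp (K : ℕ) {q : ℕ} (a : Fin (q + 1) → Ix.{u} n) (Q : MvPolynomial σ R) : Prop :=
  ∀ m, coeff m Q ≠ 0 → ∀ i, (∀ k, (a k).down ≠ i) → K ≤ m i

lemma algebraMap_monomial_regular (x : ProjectiveSpectrum 𝒜) (v : σ →₀ ℕ) {z w : Twist.Loc 𝒜 x}
    (h : z * algebraMap (MvPolynomial σ R) _ (monomial v 1) =
      w * algebraMap (MvPolynomial σ R) _ (monomial v 1)) : z = w := by
  induction z using Localization.induction_on with
  | H p =>
    induction w using Localization.induction_on with
    | H q =>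
      rw [← Localization.mk_one_eq_algebraMap, Localization.mk_mul, Localization.mk_mul,
        Localization.mk_eq_mk_iff, Localization.r_iff_exists] at h
      obtain ⟨c, hc⟩ := h
      rw [Localization.mk_eq_mk_iff, Localization.r_iff_exists]
      refine ⟨c, monomial_mul_cancel v ?_⟩
      simp only [mul_one] at hc
      linear_combination hc

section RepAlgebra

variable {K : ℕ} {d : ℤ} {W : Opens (ProjectiveSpectrum.top (CohB1.polyGrading n R))}

lemma Rep.zero : Rep K (0 : SectZ n R d W) 0 := fun x => by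
  rw [map_zero]; exact zero_mul _

lemma Rep.add {s t : SectZ n R d W} {P Q : MvPolynomial σ R} (h : Rep K s P) (h' : Rep K t Q) :
    Rep K (s + t) (P + Q) := fun x => by
  rw [map_add, ← h x, ← h' x, ← add_mul]
  rfl

lemma Rep.zsmul {s : SectZ n R d W} {P : MvPolynomial σ R} (h : Rep K s P) (c : ℤ) :
    Rep K (c • s) (c • P) := fun x => by
  rw [map_zsmul, ← h x, ← smul_mul_assoc]
  rfl

lemma Rep.sum {ι : Type*} (t : Finset ι) (s : ι → SectZ n R d W) (P : ι → MvPolynomial σ R)
    (h : ∀ j ∈ t, Rep K (s j) (P j)) : Rep K (∑ j ∈ t, s j) (∑ j ∈ t, P j) := by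
  classical
  induction t using Finset.induction_on with
  | empty => simpa using Rep.zero
  | insert j t hj ih =>
    rw [Finset.sum_insert hj, Finset.sum_insert hj]
    exact (h j (Finset.mem_insert_self _ _)).add (ih fun i hi => h i (Finset.mem_insert_of_mem hi))

lemma Rep.res {V : Opens (ProjectiveSpectrum.top 𝒜)} (i : V ⟶ W) {s : SectZ n R d W}
    {P : MvPolynomial σ R} (h : Rep K s P) : Rep K (Twist.resN d i.op s : SectZ n R d V) P :=
  fun x => h (i x)

lemma Rep.unique_sect {s t : SectZ n R d W} {P : MvPolynomial σ R} (h : Rep K s P) (h' : Rep K t P) :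
    s = t :=
  ProjTwist.sectN_ext fun x => algebraMap_monomial_regular x.1 _ ((h x).trans (h' x).symm)

end RepAlgebra

lemma Rep.unique_num {K e q : ℕ} {d : ℤ} {a : Fin (q + 1) → Ix.{u} n}
    {s : SectZ n R d (Groth.L10.Cech.tup (stdU n R) a)} {P Q : MvPolynomial σ R} (hP : P ∈ 𝒜 e)
    (hQ : Q ∈ 𝒜 e) (h : Rep K s P) (h' : Rep K s Q) : P = Q := by
  obtain ⟨k, hk⟩ := ProjTwist.exists_pow_mul_eq_zero 𝒜 (d := (expo a).degree)
    (by rw [degree_expo]; exact Nat.succ_pos _) (Submodule.sub_mem _ hP hQ)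
    (monomial_mem_grading R (expo a)) fun x hx => by
      have h1 : algebraMap (MvPolynomial σ R) (Twist.Loc 𝒜 x) P = algebraMap _ _ Q :=
        (h ⟨x, (mem_tup a x).2 hx⟩).symm.trans (h' ⟨x, (mem_tup a x).2 hx⟩)
      obtain ⟨c, hc⟩ := (IsLocalization.eq_iff_exists x.asHomogeneousIdeal.toIdeal.primeCompl _).1 h1
      exact ⟨c.1, c.2, by rw [mul_sub, hc, sub_self]⟩
  refine monomial_mul_cancel (k • expo a) ?_
  rw [← monomial_pow']
  linear_combination hk

/-- Every section on an intersection has numerators for all large `K`. -/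
theorem exists_rep {d : ℤ} {q : ℕ} (a : Fin (q + 1) → Ix.{u} n)
    (s : SectZ n R d (Groth.L10.Cech.tup (stdU n R) a)) :
    ∃ K₀ : ℕ, ∀ K, K₀ ≤ K → ∃ (e : ℕ) (Q : MvPolynomial σ R), (e : ℤ) = d + (K * (n + 1) : ℕ) ∧
      Q ∈ 𝒜 e ∧ Rep K s Q ∧ Supp K a Q := by
  obtain ⟨L, m, b, hb, hm, hs⟩ := ProjTwist.exists_eq_mk (d := (expo a).degree)
    (by rw [degree_expo]; exact Nat.succ_pos _) (monomial_mem_grading R (expo a)) (mem_tup a) s
  refine ⟨(q + 1) * L, fun K hK => ?_⟩
  have hle : L • expo a ≤ K • ones n := fun i => by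
    simp only [Finsupp.smul_apply, ones_apply, smul_eq_mul, mul_one]
    exact (Nat.mul_le_mul_left L (expo_apply_le a i)).trans (by rw [mul_comm]; exact hK)
  obtain ⟨v, hv⟩ := exists_add_of_le hle
  refine ⟨m + v.degree, b * monomial v 1, ?_, SetLike.mul_mem_graded hb (monomial_mem_grading R v),
    fun x => ?_, fun l hl i hi => ?_⟩
  · have := congrArg Finsupp.degree hv
    rw [map_nsmul, map_add, map_nsmul, degree_ones, degree_expo, smul_eq_mul, smul_eq_mul] at this
    rw [degree_expo] at hm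
    omega
  · rw [hs x, hv, ← Localization.mk_one_eq_algebraMap, ← Localization.mk_one_eq_algebraMap,
      Localization.mk_mul, Localization.mk_eq_mk_iff, Localization.r_iff_exists]
    refine ⟨1, ?_⟩
    have : (monomial (L • expo a + v) (1 : R) : MvPolynomial σ R) =
        monomial (expo a) 1 ^ L * monomial v 1 := by
      rw [monomial_pow', monomial_mul, one_mul]
    simp only [this, OneMemClass.coe_one, one_mul, mul_one]
    ring
  · rw [coeff_mul_monomial'] at hl
    split_ifs at hl with hvl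
    · refine le_trans (le_of_eq ?_) (hvl i)
      have := DFunLike.congr_fun hv i
      simp [expo_apply_of_notMem a hi, ones_apply] at this
      exact this
    · exact absurd rfl hl

/-- Admissible numerators come from sections. -/
theorem exists_sect {d : ℤ} {q K e : ℕ} (a : Fin (q + 1) → Ix.{u} n) {Q : MvPolynomial σ R}
    (he : (e : ℤ) = d + (K * (n + 1) : ℕ)) (hQ : Q ∈ 𝒜 e) (hS : Supp K a Q) :
    ∃ s : SectZ n R d (Groth.L10.Cech.tup (stdU n R) a), Rep K s Q := by
  let b := (Q * monomial (K • expo a) (1 : R)).divMonomial (K • ones n)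
  have hdvd : Q * monomial (K • expo a) (1 : R) = monomial (K • ones n) 1 * b := by
    conv_lhs => rw [← divMonomial_add_modMonomial (Q * monomial (K • expo a) (1 : R)) (K • ones n)]
    rw [show (Q * monomial (K • expo a) (1 : R)).modMonomial (K • ones n) = 0 from ?_, add_zero]
    ext m
    by_cases hle : K • ones n ≤ m
    · rw [coeff_modMonomial_of_le _ hle, coeff_zero]
    · rw [coeff_modMonomial_of_not_le _ hle, coeff_zero, coeff_mul_monomial']
      split_ifs with hm
      · rw [mul_one]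
        by_contra hne
        refine hle fun i => ?_
        simp only [Finsupp.smul_apply, ones_apply, smul_eq_mul, mul_one]
        by_cases hi : ∀ k, (a k).down ≠ i
        · refine (hS _ hne i hi).trans ?_
          simp
        · push Not at hi
          refine le_trans ?_ (hm i)
          simp only [Finsupp.smul_apply, smul_eq_mul]
          exact Nat.le_mul_of_pos_right _ (expo_apply_pos a hi)
      · rfl
  let mb := ((((q + 1) * K : ℕ) : ℤ) + d).toNat
  by_cases hb0 : b = 0
  · refine ⟨0, ?_⟩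
    have hQ0 : Q = 0 := monomial_mul_cancel (K • expo a) (by rw [hdvd, hb0, mul_zero, zero_mul])
    rw [hQ0]
    exact Rep.zero (n := n) (R := R)
  obtain ⟨hpos, hb⟩ : 0 ≤ ((((q + 1) * K : ℕ) : ℤ) + d) ∧ b ∈ 𝒜 mb := by
    have key : ∀ m, coeff m b ≠ 0 → (m.degree : ℤ) = (((q + 1) * K : ℕ) : ℤ) + d := by
      intro m hm
      rw [coeff_divMonomial] at hm
      have h := congrArg (Nat.cast : ℕ → ℤ) (SetLike.mul_mem_graded hQ (monomial_mem_grading R (K • expo a)) hm)
      rw [map_nsmul, degree_expo, smul_eq_mul] at h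
      have h2 : (K • ones n + m).degree = K * (n + 1) + m.degree := by
        rw [map_add, map_nsmul, degree_ones, smul_eq_mul]
      have h3 : (K • ones n + m).degree = e + K * (q + 1) := by
        rw [Finsupp.degree_eq_weight_one]
        exact_mod_cast h
      rw [mul_comm (q + 1) K]
      omega
    obtain ⟨m, hm⟩ := MvPolynomial.ne_zero_iff.1 hb0
    have hpos : (0 : ℤ) ≤ (((q + 1) * K : ℕ) : ℤ) + d := by
      rw [← key m hm]; exact Int.natCast_nonneg _
    refine ⟨hpos, fun l hl => ?_⟩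
    have h4 := key l hl
    rw [Finsupp.degree_eq_weight_one, ← Int.toNat_of_nonneg hpos] at h4
    exact_mod_cast h4
  have hW : ∀ x : (Groth.L10.Cech.tup (stdU n R) a : Opens (ProjectiveSpectrum.top 𝒜)),
      (monomial (expo a) (1 : R) : MvPolynomial σ R) ^ K ∉ x.1.asHomogeneousIdeal := fun x =>
    ProjTwist.notMem_pow _ ((mem_tup a x.1).1 x.2) K
  refine ⟨ProjTwist.gen (N := d) (⟨b, hb⟩ : 𝒜 mb)
    (⟨_, SetLike.pow_mem_graded K (monomial_mem_grading R (expo a))⟩ : 𝒜 (K • (expo a).degree))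
    (by simp only [mb, degree_expo, smul_eq_mul]; rw [Int.toNat_of_nonneg hpos]; push_cast; ring) _ hW,
    fun x => ?_⟩
  change (Localization.mk b ⟨_, hW x⟩ : Twist.Loc 𝒜 x.1) * _ = _
  rw [← Localization.mk_one_eq_algebraMap, ← Localization.mk_one_eq_algebraMap,
    Localization.mk_mul, Localization.mk_eq_mk_iff, Localization.r_iff_exists]
  refine ⟨1, ?_⟩
  simp only [OneMemClass.coe_one, one_mul, mul_one, monomial_pow']
  linear_combination -hdvd

variable (n R) in
/-- A cocycle of degree `p + 1` is a coboundary if no monomial with all exponents `< K` occurs in its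
numerators over `(X_0 ⋯ X_n) ^ K`. -/
theorem exists_primitive (d : ℤ) (p : ℕ)
    (x : (Groth.L10.Cech.cx (𝟭 _) (stdU n R) (Twist.twist 𝒜 d).presheaf).X (p + 1))
    (hx : (Groth.L10.Cech.cx (𝟭 _) (stdU n R) (Twist.twist 𝒜 d).presheaf).d (p + 1) (p + 2) x = 0)
    (hsmall : ∀ (K e : ℕ), d.natAbs ≤ K → (e : ℤ) = d + (K * (n + 1) : ℕ) →
      ∀ (a : Fin (p + 2) → Ix.{u} n) (Q : MvPolynomial σ R), Q ∈ 𝒜 e →
        Rep K (show SectZ n R d (Groth.L10.Cech.tup (stdU n R) a) from Groth.L10.Cech.co a x) Q → Supp K a Q →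
          ∀ m, (∀ i, m i < K) → coeff m Q = 0) :
    ∃ y, (Groth.L10.Cech.cx (𝟭 _) (stdU n R) (Twist.twist 𝒜 d).presheaf).d p (p + 1) y = x := by
  classical
  let sx : ∀ a : Fin (p + 2) → Ix.{u} n, SectZ n R d (Groth.L10.Cech.tup (stdU n R) a) :=
    fun a => Groth.L10.Cech.co a x
  choose K₀ hK₀ using fun a => exists_rep a (sx a)
  let K := (Finset.univ.sup K₀) + d.natAbs
  let e := (d + (K * (n + 1) : ℕ)).toNat
  have he : (e : ℤ) = d + (K * (n + 1) : ℕ) := Int.toNat_of_nonneg (by
    have : K ≤ K * (n + 1) := Nat.le_mul_of_pos_right _ (Nat.succ_pos _)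
    have : d.natAbs ≤ K := Nat.le_add_left _ _
    omega)
  have hall : ∀ a, ∃ Q, Q ∈ 𝒜 e ∧ Rep K (sx a) Q ∧ Supp K a Q := fun a => by
    obtain ⟨e', Q, he', hQ⟩ := hK₀ a K ((Finset.le_sup (Finset.mem_univ a)).trans (Nat.le_add_right _ _))
    obtain rfl : e' = e := by omega
    exact ⟨Q, hQ⟩
  choose Q hQe hQr hQs using hall
  -- monomials with all exponents `< K` do not occur
  have hfull : ∀ a m, (∀ i, m i < K) → coeff m (Q a) = 0 := fun a =>
    hsmall K e (Nat.le_add_left _ _) he a (Q a) (hQe a) (hQr a) (hQs a)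
  let pick : (σ →₀ ℕ) → σ := fun m => if hm : ∃ i, K ≤ m i then hm.choose else 0
  have hpick : ∀ m : σ →₀ ℕ, (∃ i, K ≤ m i) → K ≤ m (pick m) := fun m hm => by
    simp only [pick, dif_pos hm]; exact hm.choose_spec
  -- the primitive
  let Rf : (Fin (p + 1) → Ix.{u} n) → MvPolynomial σ R := fun a =>
    ∑ i : σ, ∑ m ∈ (Q (Fin.cons (ULift.up i) a)).support.filter (fun m => pick m = i),
      monomial m (coeff m (Q (Fin.cons (ULift.up i) a)))
  have hR : ∀ a m, coeff m (Rf a) = coeff m (Q (Fin.cons (ULift.up (pick m)) a)) := by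
    intro a m
    simp only [Rf, coeff_sum, coeff_monomial]
    rw [Finset.sum_eq_single (pick m)]
    · rw [Finset.sum_ite_eq' (Finset.filter _ _) m]
      simp only [Finset.mem_filter, and_true, mem_support_iff, ne_eq]
      split_ifs with hc <;> simp_all
    · intro i _ hi
      refine Finset.sum_eq_zero fun l hl => if_neg ?_
      rintro rfl
      exact hi (Finset.mem_filter.1 hl).2.symm
    · simp
  have hRe : ∀ a, Rf a ∈ 𝒜 e := fun a m hm => by
    rw [hR] at hm; exact hQe _ hm
  have hRs : ∀ a, Supp K a (Rf a) := by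
    intro a m hm i hi
    rw [hR] at hm
    have hex : ∃ i, K ≤ m i := by
      by_contra hc
      push Not at hc
      exact hm (hfull _ m hc)
    by_cases hip : i = pick m
    · exact hip ▸ hpick m hex
    · refine hQs _ m hm i fun k => ?_
      refine Fin.cases ?_ (fun k => ?_) k
      · simpa using Ne.symm hip
      · simpa using hi k
  choose sy hsy using fun a => exists_sect a he (hRe a) (hRs a)
  refine ⟨Groth.L10.Cech.mk fun a => sy a, Groth.L10.Cech.co_ext fun b => ?_⟩
  rw [Groth.L10.Cech.co_d]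
  simp only [Groth.L10.Cech.co_mk]
  -- numerators on both sides
  let c : Fin (p + 2) → ℤ := fun j => (-1 : ℤ) ^ (j : ℕ)
  have hrep : Rep K (∑ j : Fin (p + 2), c j • (Twist.resN d (Groth.L10.Cech.face (stdU n R) j b).op
      (sy (b ∘ j.succAbove)) : SectZ n R d (Groth.L10.Cech.tup (stdU n R) b)))
      (∑ j : Fin (p + 2), c j • Rf (b ∘ j.succAbove)) :=
    Rep.sum _ _ _ fun j _ => ((hsy _).res _).zsmul _
  have hnum : ∑ j : Fin (p + 2), c j • Rf (b ∘ j.succAbove) = Q b := by
    ext m
    simp only [coeff_sum, coeff_smul, hR]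
    let b' : Fin (p + 3) → Ix.{u} n := Fin.cons (ULift.up (pick m)) b
    let c' : Fin (p + 3) → ℤ := fun j => (-1 : ℤ) ^ (j : ℕ)
    have hcoc : ∑ j : Fin (p + 3), c' j • Q (b' ∘ j.succAbove) = 0 := by
      have h0 : Rep K (0 : SectZ n R d (Groth.L10.Cech.tup (stdU n R) b'))
          (∑ j : Fin (p + 3), c' j • Q (b' ∘ j.succAbove)) := by
        have := Groth.L10.Cech.co_d b' x
        rw [hx, map_zero] at this
        refine Eq.mpr (congrArg (fun s => Rep K s _)
          (this : (0 : SectZ n R d (Groth.L10.Cech.tup (stdU n R) b')) = ∑ j : Fin (p + 3), c' j •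
            (Twist.resN d (Groth.L10.Cech.face (stdU n R) j b').op (sx (b' ∘ j.succAbove)) :
              SectZ n R d (Groth.L10.Cech.tup (stdU n R) b')))) ?_
        exact Rep.sum _ _ _ fun j _ => ((hQr _).res _).zsmul _
      exact h0.unique_num (Submodule.sum_mem _ fun j _ =>
        (CohB1.polyGrading n R e).toAddSubgroup.zsmul_mem (hQe _) _) (zero_mem _) Rep.zero
    have h1 := congrArg (coeff m) hcoc
    simp only [coeff_sum, coeff_smul, coeff_zero] at h1
    rw [Fin.sum_univ_succ] at h1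
    have e0 : b' ∘ (0 : Fin (p + 3)).succAbove = b := by
      funext k; simp [b']
    have e1 : ∀ j : Fin (p + 2), b' ∘ j.succ.succAbove =
        (Fin.cons (ULift.up (pick m)) (b ∘ j.succAbove) : Fin (p + 2) → Ix.{u} n) := by
      intro j; funext k
      refine Fin.cases ?_ (fun k => ?_) k <;> simp [b']
    simp only [e0, e1, c', Fin.val_zero, pow_zero, one_smul, Fin.val_succ, pow_succ, mul_neg, mul_one,
      neg_smul, Finset.sum_neg_distrib] at h1
    exact (add_neg_eq_zero.1 h1).symm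
  rw [hnum] at hrep
  exact hrep.unique_sect (hQr b)

variable (n R) in
/-- The Čech complex of `O(d)` is exact in degree `q + 1` in Serre's range. -/
theorem cech_exact (d : ℤ) (p : ℕ) (h : p + 1 < n ∨ -(n : ℤ) ≤ d)
    (x : (Groth.L10.Cech.cx (𝟭 _) (stdU n R) (Twist.twist 𝒜 d).presheaf).X (p + 1))
    (hx : (Groth.L10.Cech.cx (𝟭 _) (stdU n R) (Twist.twist 𝒜 d).presheaf).d (p + 1) (p + 2) x = 0) :
    ∃ y, (Groth.L10.Cech.cx (𝟭 _) (stdU n R) (Twist.twist 𝒜 d).presheaf).d p (p + 1) y = x :=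
  exists_primitive n R d p x hx fun K e _ he a Q hQ _ hS m hm => by
    by_contra hne
    have hsurj : ∀ i, ∃ k, (a k).down = i := fun i => by
      by_contra hc
      push Not at hc
      exact absurd (hS m hne i hc) (not_le.2 (hm i))
    rcases h with h | h
    · choose k hk using hsurj
      have hinj : Function.Injective k := fun i j hij => by rw [← hk i, ← hk j, hij]
      have := Fintype.card_le_of_injective k hinj
      simp at this
      omega
    · have hdeg : m.degree = e := by rw [Finsupp.degree_eq_weight_one]; exact hQ hne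
      have hsum : m.degree + (n + 1) ≤ K * (n + 1) := by
        rw [Finsupp.degree_eq_sum]
        calc ∑ i, m i + (n + 1) = ∑ i : σ, (m i + 1) := by simp [Finset.sum_add_distrib]
          _ ≤ ∑ _i : σ, K := Finset.sum_le_sum fun i _ => hm i
          _ = K * (n + 1) := by simp [mul_comm]
      have : ((m.degree + (n + 1) : ℕ) : ℤ) ≤ ((K * (n + 1) : ℕ) : ℤ) := by exact_mod_cast hsum
      rw [hdeg] at this
      push_cast at this he
      omega

variable (n R) in
lemma iSup_stdU : ⨆ i, stdU n R i = ⊤ := by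
  refine top_le_iff.1 fun x _ => Opens.mem_iSup.2 ?_
  obtain ⟨i, hi⟩ := exists_mem_basicOpen_X n R x
  exact ⟨ULift.up i, hi⟩

variable (n R) in
lemma isAffineOpen_inf_stdU {q : ℕ} (a : Fin (q + 1) → Ix.{u} n) :
    IsAffineOpen (⨅ k, stdU n R (a k)) := by
  have e : (⨅ k, stdU n R (a k)) = Proj.basicOpen 𝒜 (monomial (expo a) 1) := by
    rw [← Groth.L10.Cech.tup_eq_iInf (X := (Proj 𝒜).toTopCat) (stdU n R) a]
    exact Opens.ext (Set.ext fun x => (mem_tup a x).trans (Proj.mem_basicOpen _ _ _).symm)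
  rw [e]
  exact Proj.isAffineOpen_basicOpen 𝒜 _ (monomial_mem_grading R (expo a))
    (by rw [degree_expo]; exact Nat.succ_pos _)

variable (n R) in
/-- `Hᵢ(ℙⁿ_R, M) = 0` for `i > n`. -/
theorem subsingleton_HH_of_lt (M : (CohB1.ProjSpace n R).Modules) [Coh.IsQCoh M] (i : ℕ) (hi : n < i) :
    Subsingleton (Coh.HH (CohB1.ProjSpace n R) M i) := by
  refine Groth.L17.subsingleton_HH_of_affine_cover (X := CohB1.ProjSpace n R) (n + 1)
    (fun k => stdU n R (ULift.up k)) ?_ (fun s hs => ?_) M i (by omega)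
  · exact le_antisymm le_top ((iSup_stdU n R).ge.trans (iSup_le fun k => le_iSup_of_le k.down le_rfl))
  · obtain ⟨q, hq⟩ : ∃ q, s.card = q + 1 := ⟨s.card - 1, by have := hs.card_pos; omega⟩
    let eq := (Finset.equivFinOfCardEq hq).symm
    have : (s.inf fun k => stdU n R (ULift.up k)) = ⨅ l, stdU n R (ULift.up (eq l).1) := by
      rw [Finset.inf_eq_iInf]
      refine le_antisymm (le_iInf fun l => iInf₂_le (eq l).1 (eq l).2) (le_iInf₂ fun k hk => ?_)
      exact (iInf_le _ (eq.symm ⟨k, hk⟩)).trans (by simp)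
    exact this ▸ isAffineOpen_inf_stdU n R fun l => ULift.up (eq l).1

variable (n R) in
theorem subsingleton_HH_twist_pos (d : ℤ) (p : ℕ) (h : p + 1 < n ∨ -(n : ℤ) ≤ d) :
    Subsingleton (Coh.HH (CohB1.ProjSpace n R) (Twist.twistProjSpace n R d) (p + 1)) := by
  haveI := ProjTwist.isQCoh_twist 𝒜 d
  have h0 : Limits.IsZero ((Groth.L10.Cech.cx (𝟭 _) (stdU n R) (Twist.twist 𝒜 d).presheaf).homology (p + 1)) := by
    rw [← HomologicalComplex.exactAt_iff_isZero_homology,
      HomologicalComplex.exactAt_iff' _ p (p + 1) (p + 2) (by simp) (by simp), ShortComplex.ab_exact_iff]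
    exact fun x hx => cech_exact n R d p h x hx
  obtain ⟨e⟩ := Groth.L17.nonempty_cechH_equiv (stdU n R) (Twist.twist 𝒜 d)
    (fun q a => isAffineOpen_inf_stdU n R a) (p + 1)
  have : Subsingleton (CohB1.cechH (stdU n R) (Twist.twist 𝒜 d) (p + 1)) :=
    AddCommGrpCat.subsingleton_of_isZero h0
  have hU : Subsingleton (Groth.L17.HU (X := (Proj 𝒜).toTopCat) (⨆ i, stdU n R i)
      (Coh.toAb (Twist.twist 𝒜 d)) (p + 1)) := e.symm.subsingleton
  rw [iSup_stdU] at hU
  exact (Groth.L17.hTopEquiv (X := (Proj 𝒜).toTopCat) (Coh.toAb (Twist.twist 𝒜 d)) (p + 1)).subsingleton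

variable (n R) in
/-- Serre's vanishing. -/
theorem subsingleton_HH_twist (d : ℤ) (q : ℕ) (h₀ : ¬ (q = 0 ∧ 0 ≤ d))
    (hn : ¬ (q = n ∧ d ≤ -((n : ℤ) + 1))) :
    Subsingleton (Coh.HH (CohB1.ProjSpace n R) (Twist.twistProjSpace n R d) q) := by
  rcases Nat.eq_zero_or_pos q with rfl | hq
  · have hd : d < 0 := lt_of_not_ge fun hd => h₀ ⟨rfl, hd⟩
    have hn1 : 1 ≤ n := by
      by_contra hc
      exact hn ⟨by omega, by omega⟩
    obtain ⟨j, hj⟩ := Int.eq_ofNat_of_zero_le (neg_nonneg.2 hd.le)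
    obtain rfl : d = -(j : ℤ) := by omega
    let hT : Limits.IsTerminal (⊤ : TopologicalSpace.Opens (CohB1.ProjSpace n R)) :=
      Limits.IsTerminal.ofUniqueHom (fun U => homOfLE le_top) (fun _ _ => Subsingleton.elim _ _)
    have : Subsingleton (SectZ n R (-(j : ℤ)) ⊤) :=
      subsingleton_of_forall_eq 0 fun f => sectN_neg_eq_zero hn1 j (by omega) f
    haveI : Subsingleton ((Coh.toAb (Twist.twistProjSpace n R (-(j : ℤ)))).obj.obj (op ⊤)) := this
    exact (CategoryTheory.Sheaf.H.equiv₀ (Coh.toAb (Twist.twistProjSpace n R (-(j : ℤ)))) hT).toEquiv.subsingleton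
  · obtain ⟨p, rfl⟩ : ∃ p, q = p + 1 := ⟨q - 1, by omega⟩
    rcases lt_trichotomy (p + 1) n with hlt | heq | hgt
    · exact subsingleton_HH_twist_pos n R d p (Or.inl hlt)
    · exact subsingleton_HH_twist_pos n R d p (Or.inr (by
        by_contra hc
        exact hn ⟨heq, by omega⟩))
    · haveI : Coh.IsQCoh (Twist.twistProjSpace n R d) := ProjTwist.isQCoh_twist 𝒜 d
      exact subsingleton_HH_of_lt n R _ _ hgt

end Groth.L16.ProjSpace
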