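import Groth.Agent.L16.ProjSpace.FinTwist
import Mathlib.LinearAlgebra.Matrix.Determinant.Basic
import Mathlib.GroupTheory.Perm.Closure

/-!
The top cohomology of negative twists on projective space.
-/

set_option autoImplicit false
set_option linter.unusedSectionVars false
set_option backward.isDefEq.respectTransparency false

universe u

open CategoryTheory AlgebraicGeometry TopologicalSpace Opposite MvPolynomial

noncomputable section

namespace Groth.L16.ProjSpace

variable (n k : ℕ) (R : Type u) [CommRing R]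

local notation "σ" => Fin (n + 1)
local notation "𝒜" => CohB1.polyGrading n R

/-- The degree of the twist. -/
abbrev dTop : ℤ := -((n : ℤ) + 1 + k)

/-- The tuple of all indices. -/
def idTup : Fin (n + 1) → Ix.{u} n := fun i => ULift.up i

/-- The sign of a tuple, zero unless it is a permutation. -/
def sgn {n : ℕ} (a : Fin (n + 1) → Ix.{u} n) : ℤ :=
  (Matrix.of fun j i : Fin (n + 1) => if (a j).down = i then (1 : ℤ) else 0).det

theorem sgn_idTup : sgn (idTup.{u} n) = 1 := by
  rw [sgn, show (Matrix.of fun j i : Fin (n + 1) => if (idTup.{u} n j).down = i then (1 : ℤ) else 0) = 1 from ?_,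
    Matrix.det_one]
  ext i j
  simp [idTup, Matrix.one_apply]

theorem sgn_eq_zero {n : ℕ} (a : Fin (n + 1) → Ix.{u} n) {i : Fin (n + 1)} (h : ∀ j, (a j).down ≠ i) :
    sgn a = 0 :=
  Matrix.det_eq_zero_of_column_eq_zero i fun j => by simp [h j]

theorem sum_sgn (b : Fin (n + 2) → Ix.{u} n) :
    ∑ j : Fin (n + 2), (-1 : ℤ) ^ (j : ℕ) * sgn (b ∘ j.succAbove) = 0 := by
  let A : Matrix (Fin (n + 2)) (Fin (n + 2)) ℤ :=
    Matrix.of fun j => Fin.cons 1 fun i : Fin (n + 1) => if (b j).down = i then (1 : ℤ) else 0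
  have h0 : A.det = 0 := by
    obtain ⟨j, j', hne, hj⟩ := Fintype.exists_ne_map_eq_of_card_lt (fun j => (b j).down) (by simp)
    refine Matrix.det_zero_of_row_eq hne ?_
    show (Fin.cons (1 : ℤ) fun i : Fin (n + 1) => if (b j).down = i then (1 : ℤ) else 0 : Fin (n + 2) → ℤ) =
      Fin.cons (1 : ℤ) fun i : Fin (n + 1) => if (b j').down = i then (1 : ℤ) else 0
    change (b j).down = (b j').down at hj
    rw [hj]
  rw [Matrix.det_succ_column_zero] at h0
  rw [← h0]
  refine Finset.sum_congr rfl fun j _ => ?_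
  congr 1
  simp only [A, Matrix.of_apply, Fin.cons_zero, mul_one]

/-- An exponent of degree `k`. -/
abbrev Expo : Type := {m : σ →₀ ℕ // m.degree = k}

theorem expo_lt (m : Expo n k) (i : σ) : m.1 i + 1 < (dTop n k).natAbs + 1 := by
  have h1 := Finsupp.le_degree i m.1
  rw [m.2] at h1
  unfold dTop
  omega

/-- The index of the monomial `1 / X^(m + 1)`. -/
def μOf (m : Expo n k) : σ → Fin ((dTop n k).natAbs + 1) := fun i => ⟨m.1 i + 1, expo_lt n k m i⟩

theorem expK_μOf_lt (m : Expo n k) {K : ℕ} (hK : (dTop n k).natAbs ≤ K) (i : σ) : expK K (μOf n k m) i < K := by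
  have := expo_lt n k m i
  simp [expK, μOf]
  omega

local instance : Fintype (Expo n k) :=
  Fintype.ofInjective (μOf n k) fun m m' h => Subtype.ext (Finsupp.ext fun i => by
    have := congrFun h i
    simpa [μOf] using this)

/-- The class of a cochain. -/
def Φ (x : (CC n R (dTop n k)).X n) : ↥(homogeneousSubmodule σ R k) :=
  ⟨∑ m : Expo n k, monomial m.1 (vec n R (dTop n k) x (idTup n, μOf n k m)),
    Submodule.sum_mem _ fun m _ => isHomogeneous_monomial _ m.2⟩

theorem Φ_add (x y : (CC n R (dTop n k)).X n) : Φ n k R (x + y) = Φ n k R x + Φ n k R y := by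
  refine Subtype.ext ?_
  show ∑ m : Expo n k, _ = (∑ m : Expo n k, _) + ∑ m : Expo n k, _
  rw [← Finset.sum_add_distrib]
  refine Finset.sum_congr rfl fun m _ => ?_
  rw [vec_add, Pi.add_apply, map_add]

theorem coeff_Φ (x : (CC n R (dTop n k)).X n) (m : Expo n k) :
    coeff m.1 (Φ n k R x).1 = vec n R (dTop n k) x (idTup n, μOf n k m) := by
  classical
  show coeff m.1 (∑ l : Expo n k, _) = _
  simp only [coeff_sum, coeff_monomial]
  rw [Finset.sum_eq_single m (fun l _ hl => if_neg fun h => hl (Subtype.ext h))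
    (fun h => absurd (Finset.mem_univ m) h), if_pos rfl]

theorem Φ_eq_zero_iff (x : (CC n R (dTop n k)).X n) :
    Φ n k R x = 0 ↔ ∀ m : Expo n k, vec n R (dTop n k) x (idTup n, μOf n k m) = 0 := by
  refine ⟨fun h m => by rw [← coeff_Φ, h]; rfl, fun h => Subtype.ext ?_⟩
  show ∑ m : Expo n k, _ = 0
  exact Finset.sum_eq_zero fun m _ => by rw [h m, monomial_zero]

/-- A common numerator for all components of a cochain. -/
theorem exists_nums {q : ℕ} (x : (CC n R (dTop n k)).X q) : ∃ K₀, ∀ K, K₀ ≤ K →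
    ∃ (e : ℕ) (Q : (Fin (q + 1) → Ix.{u} n) → MvPolynomial σ R), (e : ℤ) = dTop n k + (K * (n + 1) : ℕ) ∧
      ∀ a, Q a ∈ 𝒜 e ∧ Supp K a (Q a) ∧
        Rep K (show SectZ n R (dTop n k) (Groth.L10.Cech.tup (stdU n R) a) from Groth.L10.Cech.co a x) (Q a) := by
  classical
  choose K₀ hK₀ using fun a => exists_rep a
    (show SectZ n R (dTop n k) (Groth.L10.Cech.tup (stdU n R) a) from Groth.L10.Cech.co a x)
  refine ⟨Finset.univ.sup K₀ + (dTop n k).natAbs, fun K hK => ?_⟩
  have he : ((dTop n k + (K * (n + 1) : ℕ)).toNat : ℤ) = dTop n k + (K * (n + 1) : ℕ) := Int.toNat_of_nonneg (by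
    have : K ≤ K * (n + 1) := Nat.le_mul_of_pos_right _ (Nat.succ_pos _)
    omega)
  have h := fun a => hK₀ a K (le_trans (Finset.le_sup (Finset.mem_univ a)) (by omega))
  choose e Q he' hQ hr hs using h
  refine ⟨_, Q, he, fun a => ⟨?_, hs a, hr a⟩⟩
  have : e a = (dTop n k + (K * (n + 1) : ℕ)).toNat := by have := he' a; omega
  exact this ▸ hQ a

/-- The numerators of a coboundary. -/
theorem rep_d {q K : ℕ} (y : (CC n R (dTop n k)).X q) (Q : (Fin (q + 1) → Ix.{u} n) → MvPolynomial σ R)
    (h : ∀ a, Rep K (show SectZ n R (dTop n k) (Groth.L10.Cech.tup (stdU n R) a) from Groth.L10.Cech.co a y) (Q a))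
    (b : Fin (q + 2) → Ix.{u} n) :
    Rep K (show SectZ n R (dTop n k) (Groth.L10.Cech.tup (stdU n R) b) from
      Groth.L10.Cech.co b ((CC n R (dTop n k)).d q (q + 1) y))
      (∑ j : Fin (q + 2), (-1 : ℤ) ^ (j : ℕ) • Q (b ∘ j.succAbove)) := by
  have hr : Rep K (∑ j : Fin (q + 2), (-1 : ℤ) ^ (j : ℕ) •
      (Twist.resN (dTop n k) (Groth.L10.Cech.face (stdU n R) j b).op
        (show SectZ n R (dTop n k) (Groth.L10.Cech.tup (stdU n R) (b ∘ j.succAbove)) from
          Groth.L10.Cech.co (b ∘ j.succAbove) y) : SectZ n R (dTop n k) (Groth.L10.Cech.tup (stdU n R) b)))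
      (∑ j : Fin (q + 2), (-1 : ℤ) ^ (j : ℕ) • Q (b ∘ j.succAbove)) :=
    Rep.sum _ _ _ fun j _ => ((h _).res _).zsmul _
  exact Eq.mpr (congrArg (fun s => Rep K s _) (Groth.L10.Cech.co_d b y :
    (show SectZ n R (dTop n k) (Groth.L10.Cech.tup (stdU n R) b) from
      Groth.L10.Cech.co b ((CC n R (dTop n k)).d q (q + 1) y)) = _)) hr

/-- Coboundaries have trivial class. -/
theorem Φ_d (p : ℕ) (hp : p + 1 = n) (y : (CC n R (dTop n k)).X p) :
    Φ n k R ((CC n R (dTop n k)).d p n y) = 0 := by
  classical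
  subst hp
  obtain ⟨K₀, hK₀⟩ := exists_nums (p + 1) k R y
  obtain ⟨e, Q, he, hQ⟩ := hK₀ (max K₀ (dTop (p + 1) k).natAbs) (le_max_left _ _)
  have hK := le_max_right K₀ (dTop (p + 1) k).natAbs
  refine (Φ_eq_zero_iff _ k R _).2 fun m => ?_
  rw [vec, cvec_eq hK he (Submodule.sum_mem _ fun j _ =>
      (CohB1.polyGrading (p + 1) R e).toAddSubgroup.zsmul_mem (hQ _).1 _)
    (rep_d (p + 1) k R y Q (fun a => (hQ a).2.2) (idTup (p + 1))), coeff_sum]
  refine Finset.sum_eq_zero fun j _ => ?_
  rw [coeff_smul]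
  by_contra hne
  have hc : coeff (expK (max K₀ (dTop (p + 1) k).natAbs) (μOf (p + 1) k m)) (Q (idTup (p + 1) ∘ j.succAbove)) ≠ 0 :=
    fun h => hne (by rw [h, smul_zero])
  exact absurd ((hQ (idTup (p + 1) ∘ j.succAbove)).2.1 _ hc j fun l => Fin.succAbove_ne j l)
    (not_le.2 (expK_μOf_lt _ k m hK j))

theorem comp_swap_succAbove {n : ℕ} (a : Fin (n + 1) → Ix.{u} n) {i : Fin n} {b : Fin (n + 2) → Ix.{u} n}
    (hb : b = fun l : Fin (n + 2) => if h : (l : ℕ) ≤ (i : ℕ) + 1 then a ⟨l, by omega⟩ else
      if (l : ℕ) = (i : ℕ) + 2 then a i.castSucc else a ⟨(l : ℕ) - 1, by omega⟩) :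
    b ∘ (⟨(i : ℕ), by omega⟩ : Fin (n + 2)).succAbove = a ∘ Equiv.swap i.castSucc i.succ ∧
      b ∘ (⟨(i : ℕ) + 2, by omega⟩ : Fin (n + 2)).succAbove = a := by
  subst hb
  refine ⟨funext fun l => ?_, funext fun l => ?_⟩
  · rcases lt_trichotomy (l : ℕ) (i : ℕ) with hl | hl | hl
    · rw [Function.comp_apply, Function.comp_apply, Fin.succAbove_of_castSucc_lt _ _ (by simp [Fin.lt_def, hl]),
        Equiv.swap_apply_of_ne_of_ne (fun h => by simp [Fin.ext_iff] at h; omega)
          (fun h => by simp [Fin.ext_iff] at h; omega)]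
      simp only [Fin.val_castSucc]
      rw [dif_pos (by omega)]
    · rw [Function.comp_apply, Function.comp_apply, Fin.succAbove_of_le_castSucc _ _ (by simp [Fin.le_def, hl]),
        show l = i.castSucc from Fin.ext (by simpa using hl), Equiv.swap_apply_left]
      simp only [Fin.val_succ, Fin.val_castSucc]
      rw [dif_pos (by omega)]
      rfl
    · rw [Function.comp_apply, Function.comp_apply, Fin.succAbove_of_le_castSucc _ _ (by simp [Fin.le_def]; omega)]
      simp only [Fin.val_succ]
      rcases Nat.lt_or_ge ((i : ℕ) + 1) (l : ℕ) with hl2 | hl2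
      · rw [dif_neg (by omega), if_neg (by omega),
          Equiv.swap_apply_of_ne_of_ne (fun h => by simp [Fin.ext_iff] at h; omega)
            (fun h => by simp [Fin.ext_iff] at h; omega)]
        congr 1
      · rw [dif_neg (by omega), if_pos (by omega), show l = i.succ from Fin.ext (by simp; omega),
          Equiv.swap_apply_right]
  · rw [Function.comp_apply]
    rcases Nat.lt_or_ge (l : ℕ) ((i : ℕ) + 2) with hl | hl
    · rw [Fin.succAbove_of_castSucc_lt _ _ (by simp [Fin.lt_def, hl])]
      simp only [Fin.val_castSucc]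
      rw [dif_pos (by omega)]
    · rw [Fin.succAbove_of_le_castSucc _ _ (by simp [Fin.le_def]; omega)]
      simp only [Fin.val_succ]
      rw [dif_neg (by omega), if_neg (by omega)]
      congr 1

/-- A cocycle with trivial class has no small monomials. -/
theorem small_eq_zero (x : (CC n R (dTop n k)).X n) (hx : (CC n R (dTop n k)).d n (n + 1) x = 0)
    (hΦ : Φ n k R x = 0) (K e : ℕ) (hK : (dTop n k).natAbs ≤ K) (he : (e : ℤ) = dTop n k + (K * (n + 1) : ℕ))
    (a : Fin (n + 1) → Ix.{u} n) (Q : MvPolynomial σ R) (hQ : Q ∈ 𝒜 e)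
    (hr : Rep K (show SectZ n R (dTop n k) (Groth.L10.Cech.tup (stdU n R) a) from Groth.L10.Cech.co a x) Q)
    (hS : Supp K a Q) (m : σ →₀ ℕ) (hm : ∀ i, m i < K) : coeff m Q = 0 := by
  classical
  obtain ⟨K₁, hK₁⟩ := exists_nums n k R x
  let j := K₁
  obtain ⟨e', P, he', hP⟩ := hK₁ (K + j) (Nat.le_add_left _ _)
  have hm' : ∀ i, (m + j • ones n) i < K + j := fun i => by
    have := hm i
    simp [ones_apply]; omega
  have hP0 : ∀ b, coeff (m + j • ones n) (P b) = 0 := by
    have hswap : ∀ (b : Fin (n + 1) → Ix.{u} n) (i : Fin n), coeff (m + j • ones n) (P b) = 0 →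
        coeff (m + j • ones n) (P (b ∘ Equiv.swap i.castSucc i.succ)) = 0 := by
      intro b i hb
      let b' : Fin (n + 2) → Ix.{u} n := fun l => if h : (l : ℕ) ≤ (i : ℕ) + 1 then b ⟨l, by omega⟩ else
        if (l : ℕ) = (i : ℕ) + 2 then b i.castSucc else b ⟨(l : ℕ) - 1, by omega⟩
      obtain ⟨e1, e2⟩ := comp_swap_succAbove b (b := b') rfl
      have h0 := rep_d n k R x P (fun a => (hP a).2.2) b'
      rw [hx, map_zero] at h0
      have h1 := congrArg (coeff (m + j • ones n)) (h0.unique_num (Submodule.sum_mem _ fun l _ =>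
        (CohB1.polyGrading n R e').toAddSubgroup.zsmul_mem (hP _).1 _) (zero_mem _) Rep.zero)
      rw [coeff_sum, coeff_zero, Finset.sum_eq_single (⟨(i : ℕ), by omega⟩ : Fin (n + 2))] at h1
      · rw [coeff_smul, e1] at h1
        rcases neg_one_pow_eq_or ℤ (i : ℕ) with h | h <;> simpa [h] using h1
      · intro l _ hl
        rw [coeff_smul]
        by_cases hl2 : l = ⟨(i : ℕ) + 2, by omega⟩
        · rw [hl2, e2, hb, smul_zero]
        · have hz : coeff (m + j • ones n) (P (b' ∘ l.succAbove)) = 0 := by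
            by_contra hne
            have hsurj : ∀ s, ∃ r, ((b' ∘ l.succAbove) r).down = s := fun s => by
              by_contra hc
              push Not at hc
              exact absurd ((hP _).2.1 _ hne s hc) (not_le.2 (hm' s))
            have hinj : Function.Injective fun r => ((b' ∘ l.succAbove) r).down :=
              Finite.injective_iff_surjective.2 hsurj
            obtain ⟨r, hr'⟩ := Fin.exists_succAbove_eq (x := (⟨(i : ℕ), by omega⟩ : Fin (n + 2))) (y := l) (Ne.symm hl)
            obtain ⟨r', hr''⟩ := Fin.exists_succAbove_eq (x := (⟨(i : ℕ) + 2, by omega⟩ : Fin (n + 2))) (y := l) (Ne.symm hl2)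
            have hrr : r = r' := hinj (by
              show (b' (l.succAbove r)).down = (b' (l.succAbove r')).down
              rw [hr', hr'']
              simp only [b']
              rw [dif_pos (by omega), dif_neg (by omega), if_pos trivial]
              rfl)
            have := congrArg Fin.val ((hr'.symm.trans (congrArg l.succAbove hrr)).trans hr'')
            simp at this
          rw [hz, smul_zero]
      · exact fun h => absurd (Finset.mem_univ _) h
    have hperm : ∀ τ : Equiv.Perm (Fin (n + 1)), coeff (m + j • ones n) (P (idTup n ∘ τ)) = 0 := by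
      intro τ
      induction (Equiv.Perm.mclosure_swap_castSucc_succ n ▸ Submonoid.mem_top τ :
          τ ∈ Submonoid.closure (Set.range fun i : Fin n => Equiv.swap i.castSucc i.succ))
        using Submonoid.closure_induction_right with
      | one =>
        show coeff (m + j • ones n) (P (idTup n ∘ id)) = 0
        rw [Function.comp_id]
        by_contra hne
        have hdeg : (m + j • ones n).degree = e' := by
          rw [Finsupp.degree_eq_weight_one]; exact (hP _).1 hne
        let m₀ : σ →₀ ℕ := Finsupp.equivFunOnFinite.symm fun i => (K + j) - (m + j • ones n) i - 1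
        have hm₀ : m₀.degree = k := by
          have hsum : ∑ i : σ, ((m₀ i : ℤ) + 1 + (m + j • ones n) i) = ∑ _i : σ, ((K + j : ℕ) : ℤ) :=
            Finset.sum_congr rfl fun i _ => by
              have := hm' i
              simp only [m₀, Finsupp.coe_equivFunOnFinite_symm]
              omega
          have h1 : ((∑ i : σ, (m + j • ones n) i : ℕ) : ℤ) = e' := by rw [← hdeg, Finsupp.degree_eq_sum]
          rw [Finsupp.degree_eq_sum]
          simp only [Finset.sum_add_distrib, Finset.sum_const, Finset.card_univ, Fintype.card_fin, nsmul_eq_mul,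
            mul_one] at hsum
          push_cast at h1 hsum he'
          unfold dTop at he'
          zify
          linarith
        have h := (Φ_eq_zero_iff n k R x).1 hΦ ⟨m₀, hm₀⟩
        simp only [vec] at h
        rw [cvec_eq (by omega) he' (hP _).1 (hP _).2.2] at h
        refine hne ?_
        rwa [show expK (K + j) (μOf n k ⟨m₀, hm₀⟩) = m + j • ones n from Finsupp.ext fun i => by
          have := hm' i
          simp only [expK, μOf, m₀, Finsupp.coe_equivFunOnFinite_symm] at *
          omega] at h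
      | mul_right τ _ s hs ih =>
        obtain ⟨i, rfl⟩ := hs
        exact hswap _ i ih
    intro b
    by_contra hne
    have hsurj : ∀ s, ∃ r, (b r).down = s := fun s => by
      by_contra hc
      push Not at hc
      exact absurd ((hP b).2.1 _ hne s hc) (not_le.2 (hm' s))
    exact hne (hperm (Equiv.ofBijective (fun r => (b r).down) (Finite.surjective_iff_bijective.1 hsurj)))
  have h1 : Q * monomial (j • ones n) 1 ∈ 𝒜 e' := by
    have := SetLike.mul_mem_graded hQ (monomial_mem_grading R (j • ones n))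
    rwa [show e + (j • ones n).degree = e' by
      rw [map_nsmul, degree_ones, smul_eq_mul]; zify; rw [he, he']; push_cast; ring] at this
  have h2 := congrArg (coeff (m + j • ones n)) ((hr.raise j).unique_num h1 (hP a).1 (hP a).2.2)
  rwa [coeff_mul_monomial, mul_one, hP0 a] at h2

/-- Cocycles with trivial class are coboundaries. -/
theorem homologyπ_eq_zero_of_Φ (z : (CC n R (dTop n k)).cycles n)
    (hz : Φ n k R ((CC n R (dTop n k)).iCycles n z) = 0) : (CC n R (dTop n k)).homologyπ n z = 0 := by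
  have hx : (CC n R (dTop n k)).d n (n + 1) ((CC n R (dTop n k)).iCycles n z) = 0 :=
    congr($((CC n R (dTop n k)).iCycles_d n (n + 1)) z)
  have hi : Function.Injective ((CC n R (dTop n k)).iCycles n) := (AddCommGrpCat.mono_iff_injective _).1 inferInstance
  rcases n with _ | p
  · suffices z = 0 by rw [this, map_zero]
    refine hi (Groth.L10.Cech.co_ext fun a => ?_)
    rw [map_zero, map_zero]
    obtain ⟨K, hK⟩ := exists_nums 0 k R ((CC 0 R (dTop 0 k)).iCycles 0 z)
    obtain ⟨e, Q, he, hQ⟩ := hK (max K (dTop 0 k).natAbs) (le_max_left _ _)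
    have hQ0 : Q a = 0 := by
      ext m
      rw [coeff_zero]
      by_contra hne
      refine hne (small_eq_zero 0 k R _ hx hz _ e (le_max_right _ _) he a _ (hQ a).1 (hQ a).2.2 (hQ a).2.1 m
        fun i => ?_)
      have hdeg : m.degree = e := by rw [Finsupp.degree_eq_weight_one]; exact (hQ a).1 hne
      have : m i ≤ e := hdeg ▸ Finsupp.le_degree i m
      have := le_max_right K (dTop 0 k).natAbs
      simp only [dTop] at *
      simp only [zero_add, mul_one] at he
      omega
    have := (hQ a).2.2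
    rw [hQ0] at this
    exact this.unique_sect Rep.zero
  · obtain ⟨y, hy⟩ := exists_primitive (p + 1) R (dTop (p + 1) k) p _ hx (small_eq_zero (p + 1) k R _ hx hz)
    have hzy : z = (CC (p + 1) R (dTop (p + 1) k)).toCycles p (p + 1) y :=
      hi (Eq.trans hy.symm congr($((CC (p + 1) R (dTop (p + 1) k)).toCycles_i p (p + 1)) y).symm)
    rw [hzy]
    exact congr($((CC (p + 1) R (dTop (p + 1) k)).toCycles_comp_homologyπ p (p + 1)) y)

theorem Φ_of_homologyπ_eq_zero (z : (CC n R (dTop n k)).cycles n) (hz : (CC n R (dTop n k)).homologyπ n z = 0) :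
    Φ n k R ((CC n R (dTop n k)).iCycles n z) = 0 := by
  have hS := ShortComplex.exact_of_g_is_cokernel
    (ShortComplex.mk ((CC n R (dTop n k)).toCycles ((ComplexShape.up ℕ).prev n) n)
      ((CC n R (dTop n k)).homologyπ n) (by simp))
    ((CC n R (dTop n k)).homologyIsCokernel _ n rfl)
  rw [ShortComplex.ab_exact_iff] at hS
  obtain ⟨y, rfl⟩ := hS z hz
  show Φ n k R ((((CC n R (dTop n k)).toCycles ((ComplexShape.up ℕ).prev n) n) ≫
    (CC n R (dTop n k)).iCycles n) y) = 0
  rw [HomologicalComplex.toCycles_i]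
  rcases n with _ | p
  · rw [(CC 0 R (dTop 0 k)).shape _ _ (by simp)]
    exact (Φ_eq_zero_iff 0 k R _).2 fun m => by
      have h := congrFun (vec_add 0 R (dTop 0 k) (0 : (CC 0 R (dTop 0 k)).X 0) 0) (idTup 0, μOf 0 k m)
      rw [add_zero, Pi.add_apply, left_eq_add] at h
      exact h
  · revert y
    rw [show (ComplexShape.up ℕ).prev (p + 1) = p from CochainComplex.prev_nat_succ p]
    exact fun y _ => Φ_d (p + 1) k R p rfl y

/-- Every class is realised by an alternating cocycle. -/
theorem exists_cycle (P : ↥(homogeneousSubmodule σ R k)) :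
    ∃ z : (CC n R (dTop n k)).cycles n, Φ n k R ((CC n R (dTop n k)).iCycles n z) = P := by
  classical
  let K := (dTop n k).natAbs
  let e := (dTop n k + (K * (n + 1) : ℕ)).toNat
  have he : (e : ℤ) = dTop n k + (K * (n + 1) : ℕ) := Int.toNat_of_nonneg (by
    have : K ≤ K * (n + 1) := Nat.le_mul_of_pos_right _ (Nat.succ_pos _)
    omega)
  have hdeg : ∀ m : Expo n k, (expK K (μOf n k m)).degree = e := fun m => by
    have hsum : ∑ i : σ, ((expK K (μOf n k m) i : ℤ) + (m.1 i + 1)) = ∑ _i : σ, (K : ℤ) :=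
      Finset.sum_congr rfl fun i _ => by
        have := expo_lt n k m i
        simp only [expK, μOf, Finsupp.coe_equivFunOnFinite_symm, K]
        omega
    have hk : ((∑ i : σ, m.1 i : ℕ) : ℤ) = k := by rw [← Finsupp.degree_eq_sum, m.2]
    rw [Finsupp.degree_eq_sum]
    simp only [Finset.sum_add_distrib, Finset.sum_const, Finset.card_univ, Fintype.card_fin, nsmul_eq_mul,
      mul_one] at hsum
    push_cast at hk hsum he
    unfold dTop at he
    zify
    linarith
  let Q₀ : MvPolynomial σ R := ∑ m : Expo n k, monomial (expK K (μOf n k m)) (coeff m.1 P.1)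
  have hQ₀ : Q₀ ∈ 𝒜 e := Submodule.sum_mem _ fun m _ => isHomogeneous_monomial _ (hdeg m)
  let Q : (Fin (n + 1) → Ix.{u} n) → MvPolynomial σ R := fun a => sgn a • Q₀
  have hQ : ∀ a, Q a ∈ 𝒜 e := fun a => (CohB1.polyGrading n R e).toAddSubgroup.zsmul_mem hQ₀ _
  have hS : ∀ a, Supp K a (Q a) := fun a l hl i hi => by
    simp [Q, sgn_eq_zero a hi] at hl
  choose s hs using fun a => exists_sect a he (hQ a) (hS a)
  let x : (CC n R (dTop n k)).X n := Groth.L10.Cech.mk fun a => s a
  have hx : ∀ a, Rep K (show SectZ n R (dTop n k) (Groth.L10.Cech.tup (stdU n R) a) from Groth.L10.Cech.co a x) (Q a) :=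
    fun a => by rw [Groth.L10.Cech.co_mk]; exact hs a
  have hcoc : (CC n R (dTop n k)).d n (n + 1) x = 0 := Groth.L10.Cech.co_ext fun b => by
    rw [map_zero]
    have h := rep_d n k R x Q hx b
    rw [show (∑ j : Fin (n + 2), (-1 : ℤ) ^ (j : ℕ) • Q (b ∘ j.succAbove)) = 0 by
      simp only [Q, smul_smul, ← Finset.sum_smul, sum_sgn, zero_smul]] at h
    exact h.unique_sect Rep.zero
  obtain ⟨z, hz⟩ := (ShortComplex.ab_exact_iff _).1 (ShortComplex.exact_of_f_is_kernel
    (ShortComplex.mk ((CC n R (dTop n k)).iCycles n) ((CC n R (dTop n k)).d n (n + 1)) (by simp))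
    ((CC n R (dTop n k)).cyclesIsKernel n (n + 1) (by simp))) x hcoc
  refine ⟨z, Subtype.ext (MvPolynomial.ext _ _ fun l => ?_)⟩
  change (CC n R (dTop n k)).iCycles n z = x at hz
  rw [hz]
  by_cases hl : l.degree = k
  · refine (coeff_Φ n k R x ⟨l, hl⟩).trans ?_
    simp only [vec]
    rw [cvec_eq le_rfl he (hQ _) (hx _)]
    simp only [Q, sgn_idTup, one_smul, Q₀, coeff_sum, coeff_monomial]
    rw [Finset.sum_eq_single ⟨l, hl⟩ (fun m _ hm => if_neg fun h => hm (Subtype.ext (Finsupp.ext fun i => by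
      have := DFunLike.congr_fun h i
      have h1 := expo_lt n k m i
      have h2 := expo_lt n k ⟨l, hl⟩ i
      simp only [expK, μOf, Finsupp.coe_equivFunOnFinite_symm, K] at this ⊢
      simp only at h2
      omega))) (fun h => absurd (Finset.mem_univ _) h), if_pos rfl]
  · rw [(Φ n k R x).2.coeff_eq_zero hl, P.2.coeff_eq_zero hl]

/-- The top cohomology of a negative twist. -/
theorem nonempty_HH_top_linearEquiv :
    Nonempty (Coh.HH (CohB1.ProjSpace n R) (Twist.twistProjSpace n R (dTop n k)) n ≃ₗ[R]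
      ↥(homogeneousSubmodule σ R k)) := by
  haveI : Coh.IsQCoh (Twist.twistProjSpace n R (dTop n k)) := ProjTwist.isQCoh_twist 𝒜 (dTop n k)
  obtain ⟨e, he⟩ := CechEndo.exists_cechH_HH_endo (X := CohB1.ProjSpace n R) (stdU n R) (iSup_stdU n R)
    (Twist.twistProjSpace n R (dTop n k)) (fun p a => isAffineOpen_inf_stdU n R a) n
  let Z := (CC n R (dTop n k)).cycles n
  let M : R → ((CC n R (dTop n k)) ⟶ CC n R (dTop n k)) := fun r => Groth.L10.Cech.cxMap (π := 𝟭 _) (Y := stdU n R)
    (Coh.smulAb (Twist.twistProjSpace n R (dTop n k)) (Coh.toGlobal (CohB1.ProjSpace.toSpec n R) r)).hom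
  let ψ : Z →+ ↥(homogeneousSubmodule σ R k) :=
    AddMonoidHom.mk' (fun z => Φ n k R ((CC n R (dTop n k)).iCycles n z)) fun z w =>
      (congrArg (Φ n k R) (map_add _ z w)).trans (Φ_add n k R _ _)
  let act : R → Z → Z := fun r z => HomologicalComplex.cyclesMap (M r) n z
  have ψsmul : ∀ r z, ψ (act r z) = r • ψ z := fun r z => by
    refine (congrArg (Φ n k R) congr($(HomologicalComplex.cyclesMap_i (M r) n) z)).trans (Subtype.ext ?_)
    show ∑ m : Expo n k, _ = r • ∑ m : Expo n k, _
    rw [Finset.smul_sum]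
    refine Finset.sum_congr rfl fun m _ => ?_
    rw [smul_monomial]
    exact congrArg _ (congrFun (vec_smulAb n R (dTop n k) _ r) _)
  let π' : Z →+ Coh.HH (CohB1.ProjSpace n R) (Twist.twistProjSpace n R (dTop n k)) n :=
    e.toAddMonoidHom.comp ((CC n R (dTop n k)).homologyπ n).hom
  have πsmul : ∀ r z, π' (act r z) = r • π' z := fun r z =>
    (congrArg e congr($(HomologicalComplex.homologyπ_naturality (M r) n) z).symm).trans (he _ _)
  have πsurj : Function.Surjective π' :=
    e.surjective.comp ((AddCommGrpCat.epi_iff_surjective _).1 inferInstance)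
  have hker : π'.ker = ψ.ker := by
    ext z
    simp only [AddMonoidHom.mem_ker]
    exact ⟨fun h => Φ_of_homologyπ_eq_zero n k R z (e.injective (h.trans (map_zero e).symm)),
      fun h => (congrArg e (homologyπ_eq_zero_of_Φ n k R z h)).trans (map_zero e)⟩
  obtain ⟨E, hE⟩ := CechEndo.exists_addEquiv_of_ker_eq π' ψ πsurj (exists_cycle n k R) hker
  refine ⟨{ E with map_smul' := fun r x => ?_ }⟩
  obtain ⟨z, rfl⟩ := πsurj x
  show E (r • π' z) = r • E (π' z)
  rw [← πsmul, hE, hE, ψsmul]

end Groth.L16.ProjSpace
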