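import Groth.Agent.L16.ProjSpace.CohTwist
import Groth.Agent.L20.PnPic.Over
import Groth.Agent.L17.AffineVanishing
import Groth.Agent.L17.AffinePush

/-!
Higher direct images of the twisting sheaves of projective space over a base.
-/

set_option autoImplicit false
set_option linter.style.haveILetI false
set_option backward.isDefEq.respectTransparency false
set_option backward.isDefEq.respectTransparency.types false

universe u

open CategoryTheory CategoryTheory.Limits AlgebraicGeometry TopologicalSpace Opposite Abelian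

noncomputable section

namespace Groth.L16.ProjSpace

open Groth.L20.PnPic Groth.L10 Groth.L10.SiteCoh

variable (r : ℕ) {S : Scheme.{u}}

/-- The twists pull back to the twists. -/
theorem nonempty_pullback_twistOver_iso {K : Type u} [CommRing K] (b : Spec (CommRingCat.of K) ⟶ S) (d : ℤ) :
    Nonempty ((Scheme.Modules.pullback (toPt r b)).obj (Twist.twistOver r S d) ≅
      Twist.twistProjSpace r K d) :=
  (PicGrp.cl_eq_cl_iff _ _).1 (pullCl_toPt_tcl r b d)

/-- Cohomology of a twist over the preimage of an affine open. -/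
theorem nonempty_HU_twistOver {W : S.Opens} (hW : IsAffineOpen W) (d : ℤ) (q : ℕ) :
    Nonempty (Groth.L17.HU (X := (CohB1.ProjSpaceOver r S).toTopCat) ((CohB1.ProjSpaceOver.toBase r S) ⁻¹ᵁ W)
      (Coh.toAb (Twist.twistOver r S d)) q ≃+
        Coh.HH (CohB1.ProjSpace r Γ(S, W)) (Twist.twistProjSpace r Γ(S, W) d) q) := by
  let b : Spec (CommRingCat.of Γ(S, W)) ⟶ S := hW.fromSpec
  have hsq := isPullback_toPt r b
  haveI : IsOpenImmersion b := inferInstanceAs (IsOpenImmersion hW.fromSpec)
  haveI : IsOpenImmersion (toPt r b) := MorphismProperty.of_isPullback hsq.flip inferInstance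
  have hrange : (toPt r b).opensRange = (CohB1.ProjSpaceOver.toBase r S) ⁻¹ᵁ W := by
    refine Opens.ext ?_
    show Set.range (toPt r b) = (CohB1.ProjSpaceOver.toBase r S) ⁻¹' (W : Set S)
    rw [← hW.range_fromSpec]
    rw [← hsq.isoPullback_hom_fst, Scheme.Hom.comp_base, TopCat.coe_comp, Set.range_comp,
      Set.range_eq_univ.2 hsq.isoPullback.hom.surjective, Set.image_univ]
    exact Scheme.Pullback.range_fst _ _
  obtain ⟨e⟩ := Groth.L17.nonempty_hu_image (toPt r b) (⊤ : (CohB1.ProjSpace r Γ(S, W)).Opens)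
    (Coh.toAb (Twist.twistOver r S d)) q
  rw [Scheme.Hom.image_top_eq_opensRange, hrange] at e
  obtain ⟨i⟩ := nonempty_pullback_twistOver_iso r b d
  let j := (Scheme.Modules.restrictFunctorIsoPullback (toPt r b)).app (Twist.twistOver r S d) ≪≫ i
  exact ⟨e.trans ((Groth.L17.hTopEquiv (X := (CohB1.ProjSpace r Γ(S, W)).toTopCat) _ q).symm.trans
    (Groth.L17.BC.HHequiv j q).toAddEquiv)⟩

/-- Higher direct images vanish when the cohomology over every affine ring does. -/
theorem isZero_RpushAb_twistOver (d : ℤ) (q : ℕ)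
    (h : ∀ (R : Type u) [CommRing R], Subsingleton (Coh.HH (CohB1.ProjSpace r R) (Twist.twistProjSpace r R d) q)) :
    IsZero ((Coh.RpushAb (CohB1.ProjSpaceOver.toBase r S) q).obj (Coh.toAb (Twist.twistOver r S d))) := by
  obtain ⟨e⟩ := nonempty_Rpush_iso (Opens.grothendieckTopology S.toTopCat)
    (Opens.map (CohB1.ProjSpaceOver.toBase r S).base) (Coh.toAb (Twist.twistOver r S d)) q
  refine (isZero_presheafToSheaf _ _ fun V x => ?_).of_iso e
  refine ⟨⟨{ arrows := fun W g => ((Opens.map (CohB1.ProjSpaceOver.toBase r S).base).op ⋙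
              (Coh.toAb (Twist.twistOver r S d)).cohomologyPresheaf q).map g.op x = 0
             downward_closed := fun {W W'} g hg g' => by
              simp only [op_comp, Functor.map_comp, ConcreteCategory.comp_apply, hg, map_zero] }, fun y hy => ?_⟩, fun a => a.hf⟩
  obtain ⟨W, hW, hyW, hWV⟩ := (Opens.isBasis_iff_nbhd.1 S.isBasis_affineOpens) hy
  obtain ⟨e'⟩ := nonempty_HU_twistOver r hW d q
  haveI := h Γ(S, W)
  exact ⟨W, homOfLE hWV, @Subsingleton.elim _ e'.toEquiv.subsingleton _ _, hyW⟩

end Groth.L16.ProjSpace
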