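import Groth.Agent.L16.ProjSpace.CoordSect
import Groth.Agent.L19.ProjBdl.Chart

/-!
Over an affine open with a basis, a projective bundle is projective space with its `O(1)`.
-/

set_option autoImplicit false
set_option linter.style.haveILetI false
set_option backward.isDefEq.respectTransparency false
set_option backward.isDefEq.respectTransparency.types false

universe u

open CategoryTheory CategoryTheory.Limits AlgebraicGeometry TopologicalSpace Opposite MvPolynomial Topology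

noncomputable section

namespace Groth.L16.ProjSpace

open Groth.L18.Frame (rs ro rs_rs ro_ro rs_smul ro_self rs_self IsFrame pull pull_rs pull_smul isUnit_of_isFrame)
open Groth.L19.ProjBdl (IsBasisOn locus crd sec psec pullTop)

/-- Projective space over the sections on an open. -/
abbrev PT {S : Scheme.{u}} (V : S.Opens) (r : ℕ) : Scheme.{u} := Proj (CohB1.polyGrading r (↑Γ(S, V)))

/-- `O(1)` on it. -/
abbrev O1T {S : Scheme.{u}} (V : S.Opens) (r : ℕ) : (PT V r).Modules :=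
  Twist.twist (CohB1.polyGrading r (↑Γ(S, V))) ((1 : ℕ) : ℤ)

section Triv

variable {S P : Scheme.{u}} {p : P ⟶ S} {F : S.Modules} {O1 : P.Modules}
  {u : (Scheme.Modules.pullback p).obj F ⟶ O1} {V : S.Opens} {r : ℕ} {b : Fin (r + 1) → Γ(F, V)}

/-- Data identifying projective space with a bundle. -/
structure IsTriv (h : (PT V r) ⟶ P) (e : (Scheme.Modules.pullback h).obj O1 ≅ (O1T V r)) : Prop where
  le : ⊤ ≤ h ⁻¹ᵁ (p ⁻¹ᵁ V)
  coord : ∀ i, e.hom.app ⊤ (psec p u b h le i) = xsec r Γ(S, V) i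

theorem exists_isTriv (hPB : KRR.IsProjBundle p F O1 u) (hb : IsBasisOn F V b) (hV : IsAffineOpen V) :
    ∃ (h : (PT V r) ⟶ P) (e : (Scheme.Modules.pullback h).obj O1 ≅ (O1T V r)),
      IsTriv (p := p) (u := u) (b := b) h e ∧
      h ≫ p = CohB1.ProjSpace.toSpec r Γ(S, V) ≫ hV.fromSpec := by
  let g : (PT V r) ⟶ S := CohB1.ProjSpace.toSpec r Γ(S, V) ≫ hV.fromSpec
  have hg : ⊤ ≤ g ⁻¹ᵁ V := fun x _ => hV.range_fromSpec.le ⟨_, rfl⟩
  have hinv : FlatMod.IsFinLocFreeOfRank 1 (O1T V r) :=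
    Groth.L19.ProjBdl.isFinLocFreeOfRank_one_of_frames fun x => by
      obtain ⟨i, hi⟩ := exists_mem_basicOpen_X r Γ(S, V) x
      exact ⟨dOpen r Γ(S, V) i, _, hi, isFrame_xsec r Γ(S, V) i⟩
  obtain ⟨s, hs⟩ := Groth.L19.ProjBdl.exists_hom_basis ((hb.pullback g).mono hg) le_rfl
    (fun i => xsec r Γ(S, V) i)
  have hs' : ∀ i, s.app ⊤ (pullTop g F hg (b i)) = xsec r Γ(S, V) i := hs
  haveI hse : Epi s := by
    refine (Groth.L21.Mod.epi_iff_stalk_surjective _).2 fun y v => ?_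
    obtain ⟨W, hyW, t, rfl⟩ := TopCat.Presheaf.exists_germ_eq ((O1T V r)).presheaf v
    obtain ⟨i, hi⟩ := exists_mem_basicOpen_X r Γ(S, V) y
    let W' := W ⊓ dOpen r Γ(S, V) i
    obtain ⟨c, hc⟩ := ((isFrame_xsec r Γ(S, V) i).mono (inf_le_right : W' ≤ _)).exists_coeff le_rfl
      (rs (O1T V r) inf_le_left t)
    rw [rs_self, rs_rs] at hc
    let m : Γ((Scheme.Modules.pullback g).obj F, W') := c • rs _ le_top (pullTop g F hg (b i))
    refine ⟨((Scheme.Modules.pullback g).obj F).presheaf.germ W' y ⟨hyW, hi⟩ m, ?_⟩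
    refine (TopCat.Presheaf.stalkFunctor_map_germ_apply W' y ⟨hyW, hi⟩
      ((Scheme.Modules.toPresheaf _).map s) m).trans ?_
    refine (congrArg (((O1T V r)).presheaf.germ W' y ⟨hyW, hi⟩) (?_ : _ = rs (O1T V r) (inf_le_left : W' ≤ W) t)).trans
      (TopCat.Presheaf.germ_res_apply ((O1T V r)).presheaf (homOfLE (inf_le_left : W' ≤ W)) y ⟨hyW, hi⟩ t)
    show s.app W' m = _
    rw [Scheme.Modules.Hom.app_smul, Groth.L19.ProjBdl.app_rs, hs']
    exact hc
  obtain ⟨h, ⟨hh, e, he⟩, -⟩ := hPB.univ _ g (O1T V r) hinv s hse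
  refine ⟨h, e, ⟨by rw [← Scheme.Hom.comp_preimage, hh]; exact hg, fun i => ?_⟩, hh⟩
  clear_value g
  subst hh
  rw [← hs' i, ← he, ← Groth.L19.ProjBdl.canon_app]
  rfl

variable {h : (PT V r) ⟶ P} {e : (Scheme.Modules.pullback h).obj O1 ≅ (O1T V r)}
  (ht : IsTriv (p := p) (u := u) (b := b) h e)

include ht in
theorem IsTriv.app_pull {WP : P.Opens} (hWP : WP ≤ p ⁻¹ᵁ V) {W : (PT V r).Opens} (hW : W ≤ h ⁻¹ᵁ WP) (i : Fin (r + 1)) :
    e.hom.app W (rs _ hW (pull h O1 WP (rs O1 hWP (sec p u b i)))) = rs (O1T V r) le_top (xsec r Γ(S, V) i) := by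
  rw [← ht.coord i, psec, pullTop, ← Groth.L19.ProjBdl.app_rs, rs_rs, ← pull_rs, rs_rs]

include ht in
/-- The loci pull back to the standard opens. -/
theorem IsTriv.preimage_locus (hPB : KRR.IsProjBundle p F O1 u) (hb : IsBasisOn F V b) (l : Fin (r + 1)) :
    h ⁻¹ᵁ locus p u b l = dOpen r Γ(S, V) l := by
  haveI := hPB.epi
  apply le_antisymm
  · refine le_dOpen_of_isFrame r Γ(S, V) l ?_
    have h1 := Groth.L19.ProjBdl.isFrame_of_iso e ((Groth.L19.ProjBdl.isFrame_locus p u b l).pullback h O1)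
    rwa [show e.hom.app _ (pull h O1 _ _) = _ from
      (congrArg (e.hom.app _) (rs_self _ le_rfl _).symm).trans
        (ht.app_pull (Groth.L19.ProjBdl.locus_le p u b l) le_rfl l)] at h1
  · intro t ht'
    obtain ⟨k, hk⟩ := Groth.L19.ProjBdl.exists_mem_locus p u b hPB.invertible hb
      (show h t ∈ p ⁻¹ᵁ V from ht.le (Set.mem_univ t))
    let Wk := locus p u b k
    let a := crd p u b k l
    let T' := h ⁻¹ᵁ Wk ⊓ dOpen r Γ(S, V) l
    have h1 : IsFrame ((Scheme.Modules.pullback h).obj O1) T'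
        (rs _ (inf_le_left : T' ≤ h ⁻¹ᵁ Wk)
          (pull h O1 Wk (rs O1 (Groth.L19.ProjBdl.locus_le p u b k) (sec p u b l)))) := by
      have h2 := Groth.L19.ProjBdl.isFrame_of_iso e.symm
        ((isFrame_xsec r Γ(S, V) l).mono (inf_le_right : T' ≤ dOpen r Γ(S, V) l))
      convert h2 using 1
      rw [rs_rs, ← ht.app_pull (Groth.L19.ProjBdl.locus_le p u b k) (inf_le_left : T' ≤ h ⁻¹ᵁ Wk) l]
      exact (congr($(congrArg (fun k => Scheme.Modules.Hom.app k T') e.hom_inv_id) _)).symm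
    rw [← Groth.L19.ProjBdl.crd_smul, pull_smul, rs_smul] at h1
    have hu := isUnit_of_isFrame (((Groth.L19.ProjBdl.isFrame_locus p u b k).pullback h O1).mono
      (inf_le_left : T' ≤ h ⁻¹ᵁ Wk)) h1
    have hb1 : t ∈ (PT V r).basicOpen (h.app Wk a) := by
      refine ((PT V r).mem_basicOpen _ t hk).mpr ?_
      have := hu.map ((PT V r).presheaf.germ T' t ⟨hk, ht'⟩).hom
      erw [← TopCat.Presheaf.germ_res_apply (PT V r).presheaf (homOfLE (inf_le_left : T' ≤ h ⁻¹ᵁ Wk)) t ⟨hk, ht'⟩]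
      exact this
    rw [← Scheme.preimage_basicOpen] at hb1
    have hB := P.basicOpen_le a
    refine Groth.L19.ProjBdl.le_locus p u b (hB.trans (Groth.L19.ProjBdl.locus_le p u b k)) ?_ hb1
    have := ((Groth.L19.ProjBdl.isFrame_locus p u b k).mono hB).smul_unit
      (show IsUnit (ro hB a) from RingedSpace.isUnit_res_basicOpen P.toRingedSpace a)
    rwa [← rs_smul, Groth.L19.ProjBdl.crd_smul, rs_rs] at this

include ht in
theorem IsTriv.app_crd (l i : Fin (r + 1)) (hle : dOpen r Γ(S, V) l ≤ h ⁻¹ᵁ locus p u b l) :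
    h.appLE (locus p u b l) (dOpen r Γ(S, V) l) hle (crd p u b l i) =
      ProjTwist.ratio (CohB1.polyGrading r Γ(S, V)) (Xd r Γ(S, V) i) (Xd r Γ(S, V) l) := by
  have h1 := ht.app_pull (Groth.L19.ProjBdl.locus_le p u b l) hle i
  rw [← Groth.L19.ProjBdl.crd_smul, pull_smul, rs_smul, Scheme.Modules.Hom.app_smul,
    ht.app_pull (Groth.L19.ProjBdl.locus_le p u b l) hle l] at h1
  exact (isFrame_xsec r Γ(S, V) l).inj le_rfl
    (by rw [rs_self]; exact h1.trans (rs_xsec_eq r Γ(S, V) l i))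

include ht in
theorem IsTriv.exists_chart (hPB : KRR.IsProjBundle p F O1 u) (hb : IsBasisOn F V b) (hV : IsAffineOpen V)
    (hhp : h ≫ p = CohB1.ProjSpace.toSpec r Γ(S, V) ≫ hV.fromSpec) (l : Fin (r + 1)) :
    ∃ j : Spec (CommRingCat.of (MvPolynomial (ChartVar r l) Γ(S, V))) ⟶ P,
      IsOpenImmersion j ∧ Set.range j = (locus p u b l : Set P) ∧ chart r Γ(S, V) l ≫ h = j := by
  obtain ⟨j, hj, hW, hrange, hjp, hjr⟩ := Groth.L19.ProjBdl.exists_chart hPB hb hV l
  have hD : ⊤ ≤ chart r Γ(S, V) l ⁻¹ᵁ dOpen r Γ(S, V) l := fun z _ => (opensRange_chart r Γ(S, V) l).le ⟨z, rfl⟩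
  have hle := (ht.preimage_locus hPB hb l).ge
  have hc : ⊤ ≤ (chart r Γ(S, V) l ≫ h) ⁻¹ᵁ locus p u b l := fun z hz => hle (hD hz)
  refine ⟨j, hj, congrArg SetLike.coe hrange, Groth.L19.ProjBdl.hom_ext hPB hb ?_ hc hW fun i => ?_⟩
  · rw [Category.assoc, hhp, hjp]
    exact chart_toSpec_assoc r Γ(S, V) l hV.fromSpec
  · rw [← Scheme.Hom.appLE_comp_appLE (chart r Γ(S, V) l) h (locus p u b l) (dOpen r Γ(S, V) l) ⊤ hle hD,
      CommRingCat.comp_apply]
    refine ((congrArg _ (ht.app_crd l i hle)).trans (chart_appLE_ratio r Γ(S, V) l i hD)).trans ?_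
    exact (hjr i).symm

include ht in
/-- Projective space is the preimage of the open. -/
theorem IsTriv.isOpenImmersion (hPB : KRR.IsProjBundle p F O1 u) (hb : IsBasisOn F V b) (hV : IsAffineOpen V)
    (hhp : h ≫ p = CohB1.ProjSpace.toSpec r Γ(S, V) ≫ hV.fromSpec) :
    IsOpenImmersion h ∧ ∀ x : P, x ∈ Set.range h ↔ x ∈ p ⁻¹ᵁ V := by
  haveI := hPB.epi
  choose j hj hrange hcomp using ht.exists_chart hPB hb hV hhp
  have hcov : ∀ t : (PT V r), ∃ (l : Fin (r + 1)) (z : _), chart r Γ(S, V) l z = t := fun t => by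
    obtain ⟨l, hl⟩ := exists_mem_basicOpen_X r Γ(S, V) t
    rw [← opensRange_chart] at hl
    exact ⟨l, hl⟩
  have hcz : ∀ l z, h (chart r Γ(S, V) l z) = j l z := fun l z => by rw [← hcomp l]; rfl
  haveI : ∀ l, IsOpenImmersion (chart r Γ(S, V) l ≫ h) := fun l => by rw [hcomp l]; exact hj l
  refine ⟨?_, fun x => ⟨?_, fun hx => ?_⟩⟩
  · have hemb : IsOpenEmbedding h := by
      refine IsOpenEmbedding.of_continuous_injective_isOpenMap h.continuous (fun a a' haa => ?_) fun O hO => ?_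
      · obtain ⟨l, z, rfl⟩ := hcov a
        have hl : h (chart r Γ(S, V) l z) ∈ locus p u b l := by
          rw [← SetLike.mem_coe, hcz, ← hrange l]; exact ⟨z, rfl⟩
        rw [haa] at hl
        have hl' : a' ∈ dOpen r Γ(S, V) l := (ht.preimage_locus hPB hb l).le hl
        rw [show dOpen r Γ(S, V) l = (chart r Γ(S, V) l).opensRange from (opensRange_chart r Γ(S, V) l).symm] at hl'
        obtain ⟨z', rfl⟩ := hl'
        rw [hcz, hcz] at haa
        haveI := hj l
        rw [(j l).isOpenEmbedding.injective haa]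
      · have : h '' O = ⋃ l, j l '' (chart r Γ(S, V) l ⁻¹' O) := by
          ext x
          simp only [Set.mem_image, Set.mem_iUnion, Set.mem_preimage]
          constructor
          · rintro ⟨t, htO, rfl⟩
            obtain ⟨l, z, rfl⟩ := hcov t
            exact ⟨l, z, htO, (hcz l z).symm⟩
          · rintro ⟨l, z, hz, rfl⟩
            exact ⟨_, hz, hcz l z⟩
        rw [this]
        refine isOpen_iUnion fun l => ?_
        haveI := hj l
        exact (j l).isOpenEmbedding.isOpenMap _ (hO.preimage (chart r Γ(S, V) l).continuous)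
    haveI : ∀ t : (PT V r), IsIso (h.stalkMap t) := fun t => by
      obtain ⟨l, z, rfl⟩ := hcov t
      have e1 := Scheme.Hom.stalkMap_comp (chart r Γ(S, V) l) h z
      haveI : IsIso ((chart r Γ(S, V) l ≫ h).stalkMap z) := inferInstance
      rw [e1] at this
      exact IsIso.of_isIso_comp_right _ ((chart r Γ(S, V) l).stalkMap z)
    exact IsOpenImmersion.of_isIso_stalkMap h hemb
  · rintro ⟨t, rfl⟩
    exact ht.le (Set.mem_univ t)
  · obtain ⟨l, hl⟩ := Groth.L19.ProjBdl.exists_mem_locus p u b hPB.invertible hb hx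
    rw [← SetLike.mem_coe, ← hrange l] at hl
    obtain ⟨z, rfl⟩ := hl
    exact ⟨_, hcz l z⟩

end Triv

/-- Over an affine open with a basis, a projective bundle is projective space with its `O(1)`. -/
theorem exists_bundle_triv {S P : Scheme.{u}} {p : P ⟶ S} {F : S.Modules} {O1 : P.Modules}
    {u : (Scheme.Modules.pullback p).obj F ⟶ O1} (hPB : KRR.IsProjBundle p F O1 u) {V : S.Opens} {r : ℕ}
    {b : Fin (r + 1) → Γ(F, V)} (hb : IsBasisOn F V b) (hV : IsAffineOpen V) :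
    ∃ (h : CohB1.ProjSpace r Γ(S, V) ⟶ P) (_ : IsOpenImmersion h),
      h.opensRange = p ⁻¹ᵁ V ∧ h ≫ p = CohB1.ProjSpace.toSpec r Γ(S, V) ≫ hV.fromSpec ∧
      Nonempty ((Scheme.Modules.pullback h).obj O1 ≅ Twist.twistProjSpace r Γ(S, V) 1) := by
  obtain ⟨h, e, ht, hhp⟩ := exists_isTriv hPB hb hV
  obtain ⟨ho, hr⟩ := ht.isOpenImmersion hPB hb hV hhp
  exact ⟨h, ho, Opens.ext (Set.ext hr), hhp, ⟨e⟩⟩

end Groth.L16.ProjSpace
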