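import Groth.Agent.L16.ProjSpace.BundleTriv
import Groth.Agent.L16.ProjSpace.AmpleIff
import Groth.Agent.L16.ProjSpace.RelTwist
import Groth.Agent.L18.AmplePull

/-!
Higher direct images of the twisting sheaves of a projective bundle.
-/

set_option autoImplicit false
set_option linter.style.haveILetI false
set_option backward.isDefEq.respectTransparency false
set_option backward.isDefEq.respectTransparency.types false

universe u

open CategoryTheory CategoryTheory.Limits AlgebraicGeometry TopologicalSpace Opposite Abelian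
open Groth.Agent.AbDualLib
open Groth.L20.FibTriv

noncomputable section

namespace Groth.L16.ProjSpace

open Groth.L10 Groth.L10.SiteCoh

variable {S P : Scheme.{u}} {π : P ⟶ S} {F : S.Modules} {O1 : P.Modules}
  {u : (Scheme.Modules.pullback π).obj F ⟶ O1}

/-- A module on a projective bundle has vanishing higher direct image when it pulls back to modules
without cohomology in the trivialisations. -/
theorem isZero_RpushAb_of_triv (hPB : KRR.IsProjBundle π F O1 u) (r : ℕ)
    (hF : FlatMod.IsFinLocFreeOfRank (r + 1) F) (M : P.Modules) (q : ℕ)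
    (h : ∀ (R : Type u) [CommRing R] (j : CohB1.ProjSpace r R ⟶ P),
      Nonempty ((Scheme.Modules.pullback j).obj O1 ≅ Twist.twistProjSpace r R 1) →
        Subsingleton (Coh.HH (CohB1.ProjSpace r R) ((Scheme.Modules.pullback j).obj M) q)) :
    IsZero ((Coh.RpushAb π q).obj (Coh.toAb M)) := by
  obtain ⟨e⟩ := nonempty_Rpush_iso (Opens.grothendieckTopology S.toTopCat)
    (Opens.map π.base) (Coh.toAb M) q
  refine (isZero_presheafToSheaf _ _ fun V x => ?_).of_iso e
  refine ⟨⟨{ arrows := fun W g => ((Opens.map π.base).op ⋙ (Coh.toAb M).cohomologyPresheaf q).map g.op x = 0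
             downward_closed := fun {W W'} g hg g' => by
              simp only [op_comp, Functor.map_comp, ConcreteCategory.comp_apply, hg, map_zero] }, fun y hy => ?_⟩, fun a => a.hf⟩
  obtain ⟨U, hyU, ⟨φ⟩⟩ := hF y
  obtain ⟨b₀, hb₀⟩ := Groth.L17.FinLocBases.exists_isBasis F φ
  have hU : U.ι ''ᵁ ⊤ = U := (Scheme.Hom.image_top_eq_opensRange U.ι).trans U.opensRange_ι
  obtain ⟨W, hW, hyW, hWV⟩ := (Opens.isBasis_iff_nbhd.1 S.isBasis_affineOpens)
    (show y ∈ V ⊓ U.ι ''ᵁ ⊤ from ⟨hy, hU.ge hyU⟩)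
  have hb := (Groth.L19.ProjBdl.isBasisOn_of_locBases hb₀).mono (hWV.trans inf_le_right)
  obtain ⟨j, hj, hrange, -, hj1⟩ := exists_bundle_triv hPB hb hW
  haveI := hj
  haveI := h Γ(S, W) j hj1
  obtain ⟨e'⟩ := Groth.L17.nonempty_hu_image j (⊤ : (CohB1.ProjSpace r Γ(S, W)).Opens) (Coh.toAb M) q
  rw [Scheme.Hom.image_top_eq_opensRange, hrange] at e'
  let i := (Scheme.Modules.restrictFunctorIsoPullback j).app M
  haveI : Subsingleton (Groth.L17.HU (X := P.toTopCat) (π ⁻¹ᵁ W) (Coh.toAb M) q) :=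
    (e'.trans ((Groth.L17.hTopEquiv (X := (CohB1.ProjSpace r Γ(S, W)).toTopCat) _ q).symm.trans
      (Groth.L17.BC.HHequiv i q).toAddEquiv)).toEquiv.subsingleton
  exact ⟨W, homOfLE (hWV.trans inf_le_left), @Subsingleton.elim _ this _ _, hyW⟩

/-- The pullback of an inverse of `O(1)` is `O(-1)`. -/
theorem nonempty_pullback_inverse_iso {r : ℕ} {R : Type u} [CommRing R] (j : CohB1.ProjSpace r R ⟶ P)
    (e : (Scheme.Modules.pullback j).obj O1 ≅ Twist.twistProjSpace r R 1) {L : P.Modules}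
    (hL : ClSub.IsInverseOf L O1) :
    Nonempty ((Scheme.Modules.pullback j).obj L ≅ Twist.twistProjSpace r R (-1)) := by
  refine (PicGrp.cl_eq_cl_iff _ _).1 ?_
  have h1 : PicGrp.mulCl (PicF.cl ((Scheme.Modules.pullback j).obj L)) (PicF.cl (Twist.twistProjSpace r R 1)) =
      oneCl _ := by
    rw [← cl_congr e]
    have := congrArg (PicF.pullCl j) (show PicGrp.mulCl (PicF.cl L) (PicF.cl O1) = oneCl P from cl_congr hL.some)
    rw [pullCl_mulCl, pullCl_oneCl] at this
    exact this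
  have h2 := congrArg (fun c => PicGrp.mulCl c (PicF.cl (Twist.twistProjSpace r R (-1)))) h1
  simp only [mulCl_assoc, Groth.L20.PnPic.cl_twist_add, add_neg_cancel, Groth.L20.PnPic.cl_twist_zero,
    mul_oneCl, oneCl_mul] at h2
  exact h2

theorem nonempty_pullback_tensorPow_iso {r : ℕ} {R : Type u} [CommRing R] (j : CohB1.ProjSpace r R ⟶ P)
    {L : P.Modules} {d : ℤ} (e : (Scheme.Modules.pullback j).obj L ≅ Twist.twistProjSpace r R d) (m : ℕ) :
    Nonempty ((Scheme.Modules.pullback j).obj (CohB1.tensorPow L m) ≅ Twist.twistProjSpace r R (m * d)) := by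
  obtain ⟨e'⟩ := Groth.L16.ProjTwist.nonempty_tensorPow_twist_iso (CohB1.polyGrading r R) d (fun x => by
    obtain ⟨i, hi⟩ := exists_mem_basicOpen_X r R x
    exact ⟨⟨_, X_mem r R i⟩, hi⟩) m
  exact ⟨Groth.L18.Ample.pullPow j L m ≪≫ Groth.L00.Tensor.tensorPowIso e m ≪≫ e'⟩

/-- Vanishing of higher direct images of twists of a projective bundle. -/
theorem isZero_RpushAb_bundle_twists (hPB : KRR.IsProjBundle π F O1 u) (r : ℕ)
    (hF : FlatMod.IsFinLocFreeOfRank (r + 1) F) (L : P.Modules) (hL : ClSub.IsInverseOf L O1) :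
    (∀ (n i : ℕ), i ≠ 0 → IsZero ((Coh.RpushAb π i).obj (Coh.toAb (CohB1.tensorPow O1 n)))) ∧
    (∀ (m i : ℕ), 1 ≤ m → ¬ (i = r ∧ r + 1 ≤ m) →
      IsZero ((Coh.RpushAb π i).obj (Coh.toAb (CohB1.tensorPow L m)))) := by
  refine ⟨fun n i hi => isZero_RpushAb_of_triv hPB r hF _ i fun R _ j he => ?_,
    fun m i hm hmi => isZero_RpushAb_of_triv hPB r hF _ i fun R _ j he => ?_⟩
  · obtain ⟨e⟩ := he
    obtain ⟨e'⟩ := nonempty_pullback_tensorPow_iso j e n
    haveI := subsingleton_HH_twist r R ((n : ℤ) * 1) i (fun h => hi h.1) (fun h => by omega)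
    exact (Groth.L17.BC.HHequiv e' i).toAddEquiv.toEquiv.subsingleton
  · obtain ⟨e⟩ := he
    obtain ⟨e₁⟩ := nonempty_pullback_inverse_iso j e hL
    obtain ⟨e'⟩ := nonempty_pullback_tensorPow_iso j e₁ m
    haveI := subsingleton_HH_twist r R ((m : ℤ) * (-1)) i (fun h => by omega)
      (fun h => hmi ⟨h.1, by omega⟩)
    exact (Groth.L17.BC.HHequiv e' i).toAddEquiv.toEquiv.subsingleton

end Groth.L16.ProjSpace
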