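import Groth.Agent.L16.ProjSpace.CohTwist
import Groth.Agent.L16.CechEndo
import Mathlib.RingTheory.Noetherian.Basic

/-!
`Hᵠ(ℙⁿ_R, O(d))` is a finite module over a Noetherian `R` (F9).
-/

universe u

open CategoryTheory AlgebraicGeometry TopologicalSpace Opposite MvPolynomial

namespace Groth.L16.ProjSpace

variable {n : ℕ} {R : Type u} [CommRing R]

local notation "σ" => Fin (n + 1)
local notation "𝒜" => CohB1.polyGrading n R

section Num

variable {d : ℤ} {q : ℕ} {a : Fin (q + 1) → Ix.{u} n}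
  {W : Opens (ProjectiveSpectrum.top (CohB1.polyGrading n R))}

lemma Rep.raise {K : ℕ} {s : SectZ n R d W} {Q : MvPolynomial σ R} (h : Rep K s Q) (j : ℕ) :
    Rep (K + j) s (Q * monomial (j • ones n) 1) := fun x => by
  rw [map_mul, ← h x, mul_assoc, ← map_mul]
  congr 2
  rw [monomial_mul, one_mul, add_smul]

/-- The exponent `K - μ`. -/
noncomputable def expK (K : ℕ) (μ : σ → Fin (d.natAbs + 1)) : σ →₀ ℕ :=
  Finsupp.equivFunOnFinite.symm fun i => K - (μ i : ℕ)

lemma expK_add {K : ℕ} (hK : d.natAbs ≤ K) (j : ℕ) (μ : σ → Fin (d.natAbs + 1)) :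
    expK (K + j) μ = expK K μ + j • ones n := Finsupp.ext fun i => by
  have := (μ i).2
  simp [expK, ones_apply]
  omega

lemma Rep.coeff_expK_eq {K L e f : ℕ} {s : SectZ n R d (Groth.L10.Cech.tup (stdU n R) a)}
    {P Q : MvPolynomial σ R} (hK : d.natAbs ≤ K) (hL : d.natAbs ≤ L)
    (he : (e : ℤ) = d + (K * (n + 1) : ℕ)) (hf : (f : ℤ) = d + (L * (n + 1) : ℕ))
    (hP : P ∈ 𝒜 e) (hQ : Q ∈ 𝒜 f) (h : Rep K s P) (h' : Rep L s Q) (μ : σ → Fin (d.natAbs + 1)) :
    coeff (expK K μ) P = coeff (expK L μ) Q := by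
  let g := (d + ((K + L) * (n + 1) : ℕ)).toNat
  have hg : (g : ℤ) = d + ((K + L) * (n + 1) : ℕ) := Int.toNat_of_nonneg (by push_cast at he ⊢; nlinarith)
  have h1 : P * monomial (L • ones n) 1 ∈ 𝒜 g := by
    have := SetLike.mul_mem_graded hP (monomial_mem_grading R (L • ones n))
    rwa [show e + (L • ones n).degree = g by
      rw [map_nsmul, degree_ones, smul_eq_mul]; zify; rw [hg, he]; push_cast; ring] at this
  have h2 : Q * monomial (K • ones n) 1 ∈ 𝒜 g := by
    have := SetLike.mul_mem_graded hQ (monomial_mem_grading R (K • ones n))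
    rwa [show f + (K • ones n).degree = g by
      rw [map_nsmul, degree_ones, smul_eq_mul]; zify; rw [hg, hf]; push_cast; ring] at this
  have e1 : Rep (K + L) s (Q * monomial (K • ones n) 1) := add_comm L K ▸ h'.raise K
  have := congrArg (coeff (expK (K + L) μ)) ((h.raise L).unique_num h1 h2 e1)
  rw [expK_add hK L μ] at this
  conv_rhs at this => rw [← expK_add hK L μ, add_comm K L, expK_add hL K μ]
  rwa [coeff_mul_monomial, coeff_mul_monomial, mul_one, mul_one] at this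

lemma exists_cvec (a : Fin (q + 1) → Ix.{u} n) (s : SectZ n R d (Groth.L10.Cech.tup (stdU n R) a)) :
    ∃ v : (σ → Fin (d.natAbs + 1)) → R, ∀ (K e : ℕ) (Q : MvPolynomial σ R), d.natAbs ≤ K →
      (e : ℤ) = d + (K * (n + 1) : ℕ) → Q ∈ 𝒜 e → Rep K s Q → ∀ μ, v μ = coeff (expK K μ) Q := by
  obtain ⟨K₀, hK₀⟩ := exists_rep a s
  obtain ⟨e, Q, he, hQ, hr, -⟩ := hK₀ (K₀ + d.natAbs) (Nat.le_add_right _ _)
  exact ⟨fun μ => coeff (expK (K₀ + d.natAbs) μ) Q, fun K f P hK hf hP hr' μ =>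
    hr.coeff_expK_eq (Nat.le_add_left _ _) hK he hf hQ hP hr' μ⟩

/-- The coefficients of the monomials `(X_0 ⋯ X_n) ^ K / X ^ μ` of a section. -/
noncomputable def cvec (a : Fin (q + 1) → Ix.{u} n) (s : SectZ n R d (Groth.L10.Cech.tup (stdU n R) a)) :
    (σ → Fin (d.natAbs + 1)) → R :=
  (exists_cvec a s).choose

lemma cvec_eq {K e : ℕ} {s : SectZ n R d (Groth.L10.Cech.tup (stdU n R) a)} {Q : MvPolynomial σ R}
    (hK : d.natAbs ≤ K) (he : (e : ℤ) = d + (K * (n + 1) : ℕ)) (hQ : Q ∈ 𝒜 e) (h : Rep K s Q)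
    (μ : σ → Fin (d.natAbs + 1)) : cvec a s μ = coeff (expK K μ) Q :=
  (exists_cvec a s).choose_spec K e Q hK he hQ h μ

lemma exists_rep_ge (a : Fin (q + 1) → Ix.{u} n) (s : SectZ n R d (Groth.L10.Cech.tup (stdU n R) a)) :
    ∃ K₀, d.natAbs ≤ K₀ ∧ ∀ K, K₀ ≤ K → ∃ (e : ℕ) (Q : MvPolynomial σ R),
      (e : ℤ) = d + (K * (n + 1) : ℕ) ∧ Q ∈ 𝒜 e ∧ Rep K s Q := by
  obtain ⟨K₀, hK₀⟩ := exists_rep a s
  refine ⟨K₀ + d.natAbs, Nat.le_add_left _ _, fun K hK => ?_⟩
  obtain ⟨e, Q, he, hQ, hr, -⟩ := hK₀ K (by omega)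
  exact ⟨e, Q, he, hQ, hr⟩

lemma cvec_add (s t : SectZ n R d (Groth.L10.Cech.tup (stdU n R) a)) :
    cvec a (s + t) = cvec a s + cvec a t := by
  obtain ⟨K₁, hd1, h1⟩ := exists_rep_ge a s
  obtain ⟨K₂, -, h2⟩ := exists_rep_ge a t
  obtain ⟨e, P, he, hP, hr⟩ := h1 (max K₁ K₂) (le_max_left _ _)
  obtain ⟨f, Q, hf, hQ, hr'⟩ := h2 (max K₁ K₂) (le_max_right _ _)
  obtain rfl : e = f := by omega
  funext μ
  have hK : d.natAbs ≤ max K₁ K₂ := hd1.trans (le_max_left _ _)
  rw [Pi.add_apply, cvec_eq hK he (Submodule.add_mem _ hP hQ) (hr.add hr'), cvec_eq hK he hP hr,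
    cvec_eq hK he hQ hr', coeff_add]

/-- Multiplication by a scalar. -/
lemma Rep.smulAb {K : ℕ} {s : SectZ n R d W} {Q : MvPolynomial σ R} (h : Rep K s Q) (r : R) :
    Rep K (show SectZ n R d W from (Coh.smulAb (Twist.twistProjSpace n R d)
      (Coh.toGlobal (CohB1.ProjSpace.toSpec n R) r)).hom.app (op W) s) (C r * Q) := fun x => by
  rw [map_mul, ← h x, ← mul_assoc]
  congr 1
  refine Eq.trans (Twist.coe_smul_val _ _ _ _) ?_
  erw [toGlobal_apply_val (n := n) r ⟨x.1, trivial⟩]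
  rw [← Localization.mk_one_eq_algebraMap]
  rfl

end Num

section Classes

variable (n R) (d : ℤ)

/-- The CC n R dech complex of `O(d)`. -/
noncomputable abbrev CC : CochainComplex AddCommGrpCat.{u} ℕ :=
  Groth.L10.Cech.cx (𝟭 _) (stdU n R) (Twist.twist (CohB1.polyGrading n R) d).presheaf

/-- The coefficient vector of a cochain. -/
noncomputable def vec {q : ℕ} (x : (CC n R d).X q) : ((Fin (q + 1) → Ix.{u} n) × (σ → Fin (d.natAbs + 1))) → R :=
  fun p => cvec p.1 (show SectZ n R d (Groth.L10.Cech.tup (stdU n R) p.1) from Groth.L10.Cech.co p.1 x) p.2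

lemma vec_add {q : ℕ} (x y : (CC n R d).X q) : vec n R d (x + y) = vec n R d x + vec n R d y := by
  funext p
  simp only [vec, Pi.add_apply]
  rw [map_add]
  exact congrFun (cvec_add _ _) p.2

lemma vec_smulAb {q : ℕ} (x : (CC n R d).X q) (r : R) :
    vec n R d ((Groth.L10.Cech.cxMap (π := 𝟭 _) (Y := stdU n R) (Coh.smulAb (Twist.twistProjSpace n R d)
      (Coh.toGlobal (CohB1.ProjSpace.toSpec n R) r)).hom).f q x) = r • vec n R d x := by
  funext p
  simp only [vec, Pi.smul_apply, smul_eq_mul]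
  obtain ⟨K, hd, h⟩ := exists_rep_ge p.1
    (show SectZ n R d (Groth.L10.Cech.tup (stdU n R) p.1) from Groth.L10.Cech.co p.1 x)
  obtain ⟨e, Q, he, hQ, hr⟩ := h K le_rfl
  rw [cvec_eq hd he hQ hr]
  refine (congrArg (fun s => cvec p.1 s p.2) (Groth.L10.Cech.co_cxMap _ p.1 x)).trans ?_
  refine (cvec_eq hd he ((MvPolynomial.smul_eq_C_mul (p := Q) (a := r)) ▸ Submodule.smul_mem _ r hQ)
    (hr.smulAb r) p.2).trans ?_
  rw [coeff_C_mul]

lemma coeff_eq_zero_of_vec {q : ℕ} (x : (CC n R d).X q) (hx : vec n R d x = 0) {K e : ℕ} (hK : d.natAbs ≤ K)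
    (he : (e : ℤ) = d + (K * (n + 1) : ℕ)) (a : Fin (q + 1) → Ix.{u} n) {Q : MvPolynomial σ R}
    (hQ : Q ∈ 𝒜 e) (hr : Rep K (show SectZ n R d (Groth.L10.Cech.tup (stdU n R) a) from Groth.L10.Cech.co a x) Q)
    (m : σ →₀ ℕ) (hm : ∀ i, m i < K) : coeff m Q = 0 := by
  by_contra hne
  have hdeg : m.degree = e := by rw [Finsupp.degree_eq_weight_one]; exact hQ hne
  have hsum : ∑ i : σ, ((K : ℤ) - m i) = -d := by
    rw [Finset.sum_sub_distrib]
    have : ((∑ i : σ, m i : ℕ) : ℤ) = e := by rw [← hdeg, Finsupp.degree_eq_sum]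
    push_cast at this he
    rw [this, he]
    simp [mul_comm]
  have hμ : ∀ i, K - m i < d.natAbs + 1 := fun i => by
    have h0 : ((K : ℤ) - m i) ≤ ∑ j : σ, ((K : ℤ) - m j) :=
      Finset.single_le_sum (f := fun j => (K : ℤ) - m j) (fun j _ => by have := hm j; omega) (Finset.mem_univ i)
    rw [hsum] at h0
    have := hm i
    omega
  have h := congrFun hx (a, fun i => ⟨K - m i, hμ i⟩)
  simp only [vec, Pi.zero_apply] at h
  rw [cvec_eq hK he hQ hr] at h
  refine hne ?_
  rwa [show expK (d := d) K (fun i => ⟨K - m i, hμ i⟩) = m from Finsupp.ext fun i => by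
    have := hm i
    simp [expK]; omega] at h

/-- Cocycles with the same coefficient vector are cohomologous. -/
theorem homologyπ_eq_zero {q : ℕ} (h : 1 ≤ q ∨ n = 0 ∧ d < 0) (z : (CC n R d).cycles q)
    (hz : vec n R d ((CC n R d).iCycles q z) = 0) : (CC n R d).homologyπ q z = 0 := by
  have hi : Function.Injective ((CC n R d).iCycles q) := (AddCommGrpCat.mono_iff_injective _).1 inferInstance
  rcases Nat.eq_zero_or_pos q with rfl | hq
  · obtain ⟨rfl, hd⟩ : n = 0 ∧ d < 0 := h.resolve_left (by omega)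
    suffices z = 0 by rw [this, map_zero]
    refine hi (Groth.L10.Cech.co_ext fun a => ?_)
    rw [map_zero, map_zero]
    obtain ⟨K, hK, h'⟩ := exists_rep_ge a
      (show SectZ 0 R d (Groth.L10.Cech.tup (stdU 0 R) a) from Groth.L10.Cech.co a ((CC 0 R d).iCycles 0 z))
    obtain ⟨e, Q, he, hQ, hr⟩ := h' K le_rfl
    have hQ0 : Q = 0 := by
      ext m
      rw [coeff_zero]
      by_contra hne
      refine hne (coeff_eq_zero_of_vec 0 R d _ hz hK he a hQ hr m fun i => ?_)
      have hdeg : m.degree = e := by rw [Finsupp.degree_eq_weight_one]; exact hQ hne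
      have : m i ≤ e := hdeg ▸ Finsupp.le_degree i m
      omega
    subst hQ0
    exact hr.unique_sect Rep.zero
  · obtain ⟨p, rfl⟩ : ∃ p, q = p + 1 := ⟨q - 1, by omega⟩
    obtain ⟨y, hy⟩ := exists_primitive n R d p ((CC n R d).iCycles (p + 1) z)
      (congr($((CC n R d).iCycles_d (p + 1) (p + 2)) z))
      fun K e hK he a Q hQ hr _ m hm => coeff_eq_zero_of_vec n R d _ hz hK he a hQ hr m hm
    have hzy : z = (CC n R d).toCycles p (p + 1) y := hi (Eq.trans hy.symm congr($((CC n R d).toCycles_i p (p + 1)) y).symm)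
    rw [hzy]
    exact congr($((CC n R d).toCycles_comp_homologyπ p (p + 1)) y)

variable [IsNoetherianRing R]

/-- Finiteness from the coefficient vectors. -/
theorem finite_HH_twist_aux (q : ℕ) (h : 1 ≤ q ∨ n = 0 ∧ d < 0) :
    Module.Finite R (Coh.HH (CohB1.ProjSpace n R) (Twist.twistProjSpace n R d) q) := by
  haveI : Coh.IsQCoh (Twist.twistProjSpace n R d) := ProjTwist.isQCoh_twist 𝒜 d
  obtain ⟨e, he⟩ := CechEndo.exists_cechH_HH_endo (X := CohB1.ProjSpace n R) (stdU n R) (iSup_stdU n R)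
    (Twist.twistProjSpace n R d) (fun p a => isAffineOpen_inf_stdU n R a) q
  let Z := (CC n R d).cycles q
  let Φ : R → ((CC n R d) ⟶ CC n R d) := fun r => Groth.L10.Cech.cxMap (π := 𝟭 _) (Y := stdU n R)
    (Coh.smulAb (Twist.twistProjSpace n R d) (Coh.toGlobal (CohB1.ProjSpace.toSpec n R) r)).hom
  let ψ : Z → ((Fin (q + 1) → Ix.{u} n) × (σ → Fin (d.natAbs + 1))) → R :=
    fun z => vec n R d ((CC n R d).iCycles q z)
  have ψadd : ∀ z w : Z, ψ (z + w) = ψ z + ψ w := fun z w =>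
    (congrArg (vec n R d) (map_add _ z w)).trans (vec_add n R d _ _)
  let act : R → Z → Z := fun r z => HomologicalComplex.cyclesMap (Φ r) q z
  have ψsmul : ∀ r z, ψ (act r z) = r • ψ z := fun r z =>
    (congrArg (vec n R d) congr($(HomologicalComplex.cyclesMap_i (Φ r) q) z)).trans (vec_smulAb n R d _ r)
  let π' : Z →+ Coh.HH (CohB1.ProjSpace n R) (Twist.twistProjSpace n R d) q :=
    e.toAddMonoidHom.comp ((CC n R d).homologyπ q).hom
  have πsmul : ∀ r z, π' (act r z) = r • π' z := fun r z =>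
    (congrArg e congr($(HomologicalComplex.homologyπ_naturality (Φ r) q) z).symm).trans (he _ _)
  have πsurj : Function.Surjective π' :=
    e.surjective.comp ((AddCommGrpCat.epi_iff_surjective _).1 inferInstance)
  have ψzero : ψ 0 = 0 := by
    have := ψadd 0 0
    rwa [add_zero, left_eq_add] at this
  let V : Submodule R (((Fin (q + 1) → Ix.{u} n) × (σ → Fin (d.natAbs + 1))) → R) :=
    { carrier := Set.range ψ
      add_mem' := by rintro _ _ ⟨z, rfl⟩ ⟨w, rfl⟩; exact ⟨z + w, ψadd z w⟩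
      zero_mem' := ⟨0, ψzero⟩
      smul_mem' := by rintro r _ ⟨z, rfl⟩; exact ⟨act r z, ψsmul r z⟩ }
  obtain ⟨k, g, hg⟩ := Submodule.fg_iff_exists_fin_generating_family.1 (IsNoetherian.noetherian V)
  have hgV : ∀ j, g j ∈ Set.range ψ := fun j => (show g j ∈ V from hg ▸ Submodule.subset_span ⟨j, rfl⟩)
  choose z hz using hgV
  refine ⟨Submodule.fg_iff_exists_fin_generating_family.2 ⟨k, fun j => π' (z j), top_le_iff.1 fun y _ => ?_⟩⟩
  obtain ⟨w, rfl⟩ := πsurj y
  obtain ⟨c, hc⟩ := (Submodule.mem_span_range_iff_exists_fun R).1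
    (show ψ w ∈ Submodule.span R (Set.range g) from hg.symm ▸ (⟨w, rfl⟩ : ψ w ∈ V))
  let ψ' : Z →+ (((Fin (q + 1) → Ix.{u} n) × (σ → Fin (d.natAbs + 1))) → R) := AddMonoidHom.mk' ψ ψadd
  have hdiff : ψ' (w - ∑ j, act (c j) (z j)) = 0 := by
    rw [map_sub, map_sum, sub_eq_zero, ← show _ = ψ' w from hc]
    exact Finset.sum_congr rfl fun j _ => by rw [← hz j]; exact (ψsmul _ _).symm
  have h0 : π' (w - ∑ j, act (c j) (z j)) = 0 :=
    (congrArg e (homologyπ_eq_zero n R d h _ hdiff)).trans (map_zero e)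
  rw [map_sub, map_sum, sub_eq_zero] at h0
  rw [h0]
  exact Submodule.sum_mem _ fun j _ => by
    rw [πsmul]
    exact Submodule.smul_mem _ _ (Submodule.subset_span ⟨j, rfl⟩)

end Classes

variable (n R) in
/-- `Hᵠ(ℙⁿ_R, O(d))` is finite over a Noetherian `R`. -/
theorem finite_HH_twist [IsNoetherianRing R] (d : ℤ) (q : ℕ) :
    Module.Finite R (Coh.HH (CohB1.ProjSpace n R) (Twist.twistProjSpace n R d) q) := by
  rcases Nat.eq_zero_or_pos q with rfl | hq
  · rcases lt_or_ge d 0 with hd | hd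
    · rcases Nat.eq_zero_or_pos n with rfl | hn
      · exact finite_HH_twist_aux 0 R d 0 (Or.inr ⟨rfl, hd⟩)
      · haveI := subsingleton_HH_twist n R d 0 (by omega) (by omega)
        infer_instance
    · obtain ⟨k, rfl⟩ := Int.eq_ofNat_of_zero_le hd
      obtain ⟨e⟩ := nonempty_H0_twist_linearEquiv (n := n) (R := R) k
      let S := σ → Fin (k + 1)
      let L : ↥(homogeneousSubmodule σ R k) →ₗ[R] S → R :=
        LinearMap.pi fun s => (lcoeff R (Finsupp.equivFunOnFinite.symm fun i => (s i : ℕ))).comp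
          (Submodule.subtype _)
      have hL : Function.Injective L := by
        intro P Q hPQ
        refine Subtype.ext (MvPolynomial.ext _ _ fun m => ?_)
        by_cases hm : m.degree = k
        · have := congrFun hPQ fun i => ⟨m i, Nat.lt_succ_of_le (hm ▸ Finsupp.le_degree i m)⟩
          simp only [L, LinearMap.pi_apply, LinearMap.comp_apply, Submodule.subtype_apply, lcoeff_apply] at this
          rwa [show (Finsupp.equivFunOnFinite.symm fun i => m i) = m from Finsupp.ext fun i => rfl] at this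
        · rw [P.2.coeff_eq_zero hm, Q.2.coeff_eq_zero hm]
      haveI : Module.Finite R ↥(homogeneousSubmodule σ R k) := Module.Finite.of_injective L hL
      exact Module.Finite.equiv e.symm
  · exact finite_HH_twist_aux n R d q (Or.inl hq)

end Groth.L16.ProjSpace
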